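import Groth.Prelude.Def_EtModD2
import Groth.Prelude.Def_EtCore
import Groth.Agent.EtFound.CechInjGen
import Groth.Agent.EtFound.CechSurjGen
import Groth.Agent.SiteBase.AbSecExact
import Groth.Agent.EtLC12.QcqsAcyclic

/-!
# Retracts of cofree presheaves have no cohomology; injective sheaves of modules are such retracts
-/

set_option autoImplicit false
set_option backward.isDefEq.respectTransparency false
set_option backward.isDefEq.respectTransparency.types false

universe w v u

open CategoryTheory CategoryTheory.Limits AlgebraicGeometry Opposite Abelian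

namespace Groth.Agent.EtLC12.FlasqueAcyclic

open Groth.Agent.EtFound

section Cofree

variable {C : Type w} [Category.{v} C]

/-- The cofree presheaf on a family of abelian groups. -/
noncomputable def cofree (A : C → AddCommGrpCat.{max w v}) : Cᵒᵖ ⥤ AddCommGrpCat.{max w v} where
  obj T := AddCommGrpCat.of (∀ T₀ : C, (T₀ ⟶ T.unop) → A T₀)
  map f := AddCommGrpCat.ofHom
    { toFun := fun x T₀ h => x T₀ (h ≫ f.unop)
      map_zero' := rfl
      map_add' := fun _ _ => rfl }
  map_id T := AddCommGrpCat.hom_ext <| AddMonoidHom.ext fun x => funext₂ fun T₀ h =>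
    congrArg (x T₀) (Category.comp_id h)
  map_comp f g := AddCommGrpCat.hom_ext <| AddMonoidHom.ext fun x => funext₂ fun T₀ h =>
    congrArg (x T₀) (Category.assoc h _ _).symm

variable [LocallySmall.{max w v} C] (A : C → AddCommGrpCat.{max w v})
  {U : C} [HasFiniteProducts (Over U)] {ι : Type (max w v)} (Uf : ι → Over U)

open CechInjGen in
/-- Cofree presheaves have no higher Čech cohomology. -/
theorem exactAt_cech_cofree (n : ℕ) : (EtCech.cechComplex Uf (cofree A)).ExactAt (n + 1) := by
  rw [HomologicalComplex.exactAt_iff' _ n (n + 1) (n + 2) (by simp) (by simp),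
    ShortComplex.ab_exact_iff]
  intro (x : (EtCech.cechComplex Uf (cofree A)).X (n + 1))
    (hx : ((EtCech.cechComplex Uf (cofree A)).d (n + 1) (n + 2)).hom x = 0)
  let χ : ∀ T : C, Tup Uf (n + 1) T → A T := fun T p => toFn x T p T (𝟙 T)
  have hres : ∀ (T T' : C) (g : T' ⟶ T) (p : Tup Uf (n + 1) T),
      χ T' (p.res g) = toFn x T p T' g := by
    intro T T' g p
    show toFn x T' (p.res g) T' (𝟙 T') = _
    rw [toFn_res]
    exact congrArg (toFn x T p T') (Category.id_comp g)
  obtain ⟨y, hy⟩ := exists_cev Uf (cofree A) (n := n)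
    fun i => (fun T₀ g => χ T₀ (cone ((taut i).res g)) :
      (cofree A).obj (op (∏ᶜ fun k => Uf (i k)).left))
  refine ⟨y, cev_ext Uf _ fun i => ?_⟩
  funext T₀ g
  have hcx : cev Uf (cofree A) (n + 1) i x = toFn x _ (taut i) := by
    show _ = ((cofree A).map (taut i).toProd.op).hom (cev Uf (cofree A) (n + 1) i x)
    rw [toProd_taut]
    exact (ConcreteCategory.congr_hom ((cofree A).map_id _) _).symm
  let p : Tup Uf (n + 1) T₀ := (taut i).res g
  have h0 : ∑ j : Fin (n + 3), (-1 : ℤ) ^ (j : ℕ) • χ T₀ ((cone p).face j) = 0 := by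
    have h := congrFun (congrFun (toFn_d x T₀ (cone p)) T₀) (𝟙 T₀)
    rw [Finset.sum_apply, Finset.sum_apply] at h
    refine Eq.trans ?_ (h.symm.trans ?_)
    · rfl
    · unfold toFn
      rw [hx, map_zero, map_zero]
      rfl
  refine Eq.trans (congrFun (congrFun (cev_d Uf (cofree A) n i y) T₀) g) ?_
  refine ((congrFun (Finset.sum_apply T₀ _ _) g).trans (Finset.sum_apply g _ _)).trans ?_
  have e : ∀ j : Fin (n + 2), ((-1 : ℤ) ^ (j : ℕ) •
      ((cofree A).map (tmap Uf i j).left.op).hom (cev Uf (cofree A) n (i ∘ j.succAbove) y)) T₀ g =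
      (-1 : ℤ) ^ (j : ℕ) • χ T₀ ((cone p).face j.succ) := by
    intro j
    rw [Pi.smul_apply, Pi.smul_apply, hy, face_cone_succ]
    refine congrArg (fun q => (-1 : ℤ) ^ (j : ℕ) • χ T₀ (cone q)) ?_
    show (taut (Uf := Uf) (i ∘ j.succAbove)).res (g ≫ (tmap Uf i j).left) = p.face j
    rw [Tup.face_res, taut_face]
    exact Subtype.ext (funext fun k => (Lift.res_comp _ _ _).symm)
  rw [Finset.sum_congr rfl fun j _ => e j, hcx]
  refine Eq.trans ?_ (hres _ _ g (taut i))
  rw [Fin.sum_univ_succ, face_cone_zero] at h0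
  simp only [Fin.val_zero, pow_zero, one_zsmul, Fin.val_succ, pow_succ, mul_neg_one, neg_zsmul,
    Finset.sum_neg_distrib] at h0
  exact (eq_of_sub_eq_zero ((sub_eq_add_neg _ _).trans h0)).symm

/-- Retracts of cofree presheaves have no higher Čech cohomology. -/
theorem isZero_cechH_of_retract {P : Cᵒᵖ ⥤ AddCommGrpCat.{max w v}} (i : P ⟶ cofree A)
    (r : cofree A ⟶ P) (h : i ≫ r = 𝟙 P) (n : ℕ) : IsZero (EtCech.cechH Uf P (n + 1)) := by
  have h0 : IsZero (EtCech.cechH Uf (cofree A) (n + 1)) :=
    (HomologicalComplex.exactAt_iff_isZero_homology _ _).1 (exactAt_cech_cofree A Uf n)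
  refine (IsZero.iff_id_eq_zero _).2 ?_
  show 𝟙 ((EtCech.cechHFunctor Uf (n + 1)).obj P) = 0
  rw [← CategoryTheory.Functor.map_id, ← h, Functor.map_comp]
  exact (congrArg (· ≫ _) (h0.eq_of_tgt _ 0)).trans Limits.zero_comp

end Cofree

section Scheme

variable {X : Scheme.{u}}

/-- No higher Čech cohomology for all families. -/
def IsCechAcyclic (G : EtCoh.Ab X) : Prop :=
  ∀ (U : X.Etale) [HasFiniteProducts (Over U)] (ι : Type (u + 1)) (Uf : ι → Over U) (p : ℕ),
    IsZero (EtCech.cechH Uf G.obj (p + 1))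

theorem isCechAcyclic_of_injective (G : EtCoh.Ab X) [Injective G] : IsCechAcyclic G := by
  intro U _ ι Uf p
  haveI : LocallySmall.{u + 1} X.Etale := ⟨fun _ _ => inferInstance⟩
  haveI : Injective G.obj :=
    Injective.injective_of_adjoint (sheafificationAdjunction X.smallEtaleTopology AddCommGrpCat.{u + 1}) G
  exact CechInjGen.isZero_cechH_injective Uf G.obj p

/-- The underlying abelian sheaf of an injective sheaf of modules has no higher Čech cohomology. -/
theorem isCechAcyclic_forgetToAb (Λ : Type (u + 1)) [CommRing Λ] (I : EtModW.Mod Λ X) [Injective I] :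
    IsCechAcyclic ((EtModD.forgetToAb Λ X).obj I) := by
  intro U _ ι Uf p
  haveI : LocallySmall.{u + 1} X.Etale := ⟨fun _ _ => inferInstance⟩
  haveI : Injective I.obj :=
    Injective.injective_of_adjoint (sheafificationAdjunction X.smallEtaleTopology (ModuleCat.{u + 1} Λ)) I
  let K : X.Etaleᵒᵖ ⥤ ModuleCat.{u + 1} Λ :=
    { obj := fun T => ModuleCat.of Λ (∀ T₀ : X.Etale, (T₀ ⟶ T.unop) → I.obj.obj (op T₀))
      map := fun f => ModuleCat.ofHom
        { toFun := fun x T₀ h => x T₀ (h ≫ f.unop)
          map_add' := fun _ _ => rfl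
          map_smul' := fun _ _ => rfl }
      map_id := fun T => by
        ext x T₀ h
        exact congrArg (x T₀) (Category.comp_id h)
      map_comp := fun f g => by
        ext x T₀ h
        exact congrArg (x T₀) (Category.assoc h _ _).symm }
  let m : I.obj ⟶ K :=
    { app := fun T => ModuleCat.ofHom
        { toFun := fun s T₀ h => (I.obj.map h.op).hom s
          map_add' := fun a b => by funext T₀ h; exact map_add _ a b
          map_smul' := fun c a => by funext T₀ h; exact map_smul _ c a }
      naturality := fun S T f => by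
        ext s T₀ h
        exact (congrArg (fun t => t.hom s) (I.obj.map_comp f h.op)).symm }
  haveI : Mono m := by
    have : ∀ T, Mono (m.app T) := fun T => (ModuleCat.mono_iff_injective _).2 fun a b hab => by
      have h : (I.obj.map (𝟙 T.unop).op).hom a = (I.obj.map (𝟙 T.unop).op).hom b :=
        congrFun (congrFun hab T.unop) (𝟙 _)
      simpa using h
    exact NatTrans.mono_of_mono_app _
  let W := forget₂ (ModuleCat.{u + 1} Λ) AddCommGrpCat.{u + 1}
  let e : K ⋙ W ≅ cofree (C := X.Etale) fun T₀ => W.obj (I.obj.obj (op T₀)) :=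
    NatIso.ofComponents (fun T => Iso.refl _) fun f => rfl
  refine isZero_cechH_of_retract _ Uf (Functor.whiskerRight m W ≫ e.hom)
    (e.inv ≫ Functor.whiskerRight (Injective.factorThru (𝟙 I.obj) m) W) ?_ p
  rw [Category.assoc, e.hom_inv_id_assoc, ← Functor.whiskerRight_comp, Injective.comp_factorThru]
  rfl

variable (S : ShortComplex (EtCoh.Ab X)) (hS : S.ShortExact)

include hS

theorem sections_surjective (h1 : IsCechAcyclic S.X₁) (V : X.Etale) :
    Function.Surjective (S.g.hom.app (op V)).hom := by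
  intro z
  haveI : LocallySmall.{u + 1} X.Etale := ⟨fun _ _ => inferInstance⟩
  haveI := hS.mono_f
  haveI := hS.epi_g
  haveI : HasFiniteProducts (Over V) := hasFiniteProducts_of_has_binary_and_terminal
  have hloc : Presheaf.IsLocallySurjective X.smallEtaleTopology S.g.hom :=
    (Sheaf.isLocallySurjective_iff_epi' AddCommGrpCat.{u + 1} S.g).2 inferInstance
  let T : Sieve V := Presheaf.imageSieve S.g.hom z
  have hT : T ∈ X.smallEtaleTopology V := hloc.imageSieve_mem (U := V) z
  let Uf : (Σ W : X.Etale, { a : W ⟶ V // T a }) → Over V := fun k => Over.mk k.2.1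
  have hk : ∀ k : Σ W : X.Etale, { a : W ⟶ V // T a },
      ∃ s, (S.g.hom.app (op k.1)).hom s = (S.X₃.obj.map k.2.1.op).hom z := fun k => k.2.2
  choose s hs using hk
  have hsheaf : ∀ F : EtCoh.Ab X, Presieve.IsSheafFor (F.obj ⋙ forget AddCommGrpCat.{u + 1})
      (Presieve.ofArrows (fun i => (Uf i).left) fun i => (Uf i).hom) := by
    intro F
    rw [Presieve.isSheafFor_iff_generate]
    refine ((isSheaf_iff_isSheaf_of_type _ _).1
      ((Presheaf.isSheaf_iff_isSheaf_forget X.smallEtaleTopology F.obj
        (forget AddCommGrpCat.{u + 1})).1 F.2)) _ ?_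
    refine X.smallEtaleTopology.superset_covering ?_ hT
    intro W a ha
    exact Sieve.le_generate _ _ _ (Presieve.ofArrows.mk (f := fun i => (Uf i).hom) ⟨W, a, ha⟩)
  exact CechSurjGen.exists_lift_of_isZero_cechH_one (Uf := Uf) S.f.hom S.g.hom
    (fun T => SiteBase.sheaf_app_injective S.f T.unop)
    (fun T y hy => (SiteBase.secExact_iff S T.unop).1 (hS.exact.map_of_mono_of_preservesKernel
      (sheafToPresheaf X.smallEtaleTopology AddCommGrpCat.{u + 1} ⋙
        (evaluation X.Etaleᵒᵖ AddCommGrpCat.{u + 1}).obj T) inferInstance inferInstance) y hy)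
    (fun T x => congrArg (fun t : S.X₁ ⟶ S.X₃ => (t.hom.app T).hom x) S.zero)
    (h1 V _ Uf 0) (hsheaf _) (hsheaf _) z s hs

theorem isCechAcyclic_X₃ (h1 : IsCechAcyclic S.X₁) (h2 : IsCechAcyclic S.X₂) : IsCechAcyclic S.X₃ := by
  intro U _ ι Uf p
  haveI : LocallySmall.{u + 1} X.Etale := ⟨fun _ _ => inferInstance⟩
  haveI := hS.mono_f
  haveI := hS.epi_g
  exact CechSurjGen.isZero_cechH_quot S.f.hom S.g.hom
    (fun T => SiteBase.sheaf_app_injective S.f T.unop)
    (fun T y hy => (SiteBase.secExact_iff S T.unop).1 (hS.exact.map_of_mono_of_preservesKernel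
      (sheafToPresheaf X.smallEtaleTopology AddCommGrpCat.{u + 1} ⋙
        (evaluation X.Etaleᵒᵖ AddCommGrpCat.{u + 1}).obj T) inferInstance inferInstance) y hy)
    (fun T x => congrArg (fun t : S.X₁ ⟶ S.X₃ => (t.hom.app T).hom x) S.zero) p
    (h1 U ι Uf (p + 1)) (h2 U ι Uf p)
    (fun n i => sections_surjective S hS h1 _)

omit hS

/-- Sheaves without Čech cohomology have no cohomology. -/
theorem subsingleton_H (n : ℕ) (G : EtCoh.Ab X) (hG : IsCechAcyclic G) :
    Subsingleton (EtCoh.H X G (n + 1)) := by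
  induction n generalizing G with
  | zero =>
    let S := ShortComplex.mk (Injective.ι G) (cokernel.π _) (cokernel.condition (Injective.ι G))
    have hS : S.ShortExact := { exact := ShortComplex.exact_of_g_is_cokernel _ (cokernelIsCokernel _) }
    refine subsingleton_of_forall_eq 0 fun x => ?_
    obtain ⟨z, rfl⟩ := Ext.covariant_sequence_exact₁ _ hS x
      (haveI : Injective S.X₂ := inferInstanceAs (Injective (Injective.under G)); Ext.eq_zero_of_injective _)
      (rfl : 0 + 1 = 1)
    obtain ⟨φ, rfl⟩ := (Ext.mk₀_bijective _ _).2 z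
    let adj := EtCore.constAdj X
    obtain ⟨a, ha⟩ := sections_surjective S hS hG (EtCoh.top X) (adj.homEquiv _ _ φ ⟨1⟩)
    have hφ : (adj.homEquiv _ _).symm ((AddCommGrpCat.uliftZMultiplesAddEquiv _).symm a) ≫ S.g = φ := by
      apply (adj.homEquiv _ _).injective
      rw [Adjunction.homEquiv_naturality_right, Equiv.apply_symm_apply]
      apply (AddCommGrpCat.uliftZMultiplesAddEquiv _).injective
      refine Eq.trans ?_ ha
      exact congrArg (S.g.hom.app (op (EtCoh.top X))) ((AddCommGrpCat.uliftZMultiplesAddEquiv _).apply_symm_apply a)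
    rw [← hφ, ← Ext.mk₀_comp_mk₀, Ext.comp_assoc_of_second_deg_zero, hS.comp_extClass, Ext.comp_zero]
  | succ n ih =>
    let S := ShortComplex.mk (Injective.ι G) (cokernel.π _) (cokernel.condition (Injective.ι G))
    have hS : S.ShortExact := { exact := ShortComplex.exact_of_g_is_cokernel _ (cokernelIsCokernel _) }
    haveI hI : Injective S.X₂ := inferInstanceAs (Injective (Injective.under G))
    refine subsingleton_of_forall_eq 0 fun x => ?_
    obtain ⟨z, rfl⟩ := Ext.covariant_sequence_exact₁ _ hS x (Ext.eq_zero_of_injective _) (rfl : (n + 1) + 1 = _)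
    haveI := ih S.X₃ (isCechAcyclic_X₃ S hS hG (isCechAcyclic_of_injective S.X₂))
    rw [Subsingleton.elim z 0, Ext.zero_comp]

/-- The underlying abelian sheaf of an injective sheaf of modules has no higher cohomology. -/
theorem subsingleton_H_forgetToAb (Λ : Type (u + 1)) [CommRing Λ] (I : EtModW.Mod Λ X) [Injective I]
    (n : ℕ) : Subsingleton (EtCoh.H X ((EtModD.forgetToAb Λ X).obj I) (n + 1)) :=
  subsingleton_H n _ (isCechAcyclic_forgetToAb Λ I)

end Scheme

end Groth.Agent.EtLC12.FlasqueAcyclic
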