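import Groth.Agent.EtLC12.HenselVanish
import Groth.Agent.EtFound.PushOutside
import Groth.Agent.EtMVLib.HpullApply

/-! cohomology of a henselian local scheme = cohomology of the closed point -/

universe u

open CategoryTheory CategoryTheory.Limits AlgebraicGeometry Opposite CategoryTheory.Abelian

namespace Groth.Agent.EtLC12.HenselClosedPoint

open Groth.Agent.EtFound Groth.Agent.EtLC12.HenselVanish

set_option backward.isDefEq.respectTransparency.types false

theorem mapExactFunctor_id {C : Type*} [Category C] [Abelian C] [HasExt.{u + 1} C] [EnoughInjectives C]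
    {X Y : C} {n : ℕ} (α : Ext X Y n) : α.mapExactFunctor (𝟭 C) = α := by
  induction α using EtMVLib.ext_induction with
  | h0 A B f => rw [Ext.mapExactFunctor_mk₀]; rfl
  | hs A hS β ih =>
    rename_i n S
    rw [Ext.mapExactFunctor_comp, ih, Ext.mapExactFunctor_extClass]
    rfl

variable (A : Type u) [CommRing A] [HenselianLocalRing A]

theorem isIso_stalk_unit (F : EtCoh.Ab (Spec (CommRingCat.of A))) (Ω : Type u) [Field Ω] [IsAlgClosed Ω]
    (ξ : Spec (CommRingCat.of Ω) ⟶ Spec (CommRingCat.of A))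
    (hξ : ξ.base default = IsLocalRing.closedPoint A) :
    IsIso ((EtCoh.stalk ξ).map ((EtCoh.pullPushAdj (cpt A)).unit.app F)) := by
  have : IsClosedImmersion (cpt A) := IsClosedImmersion.spec_of_surjective _ IsLocalRing.residue_surjective
  obtain ⟨x, hx⟩ : ∃ x, (cpt A).base x = ξ.base default := ⟨default, (cpt_base A default).trans hξ.symm⟩
  obtain ⟨p, -, -⟩ := Scheme.Pullback.exists_preimage_pullback (f := cpt A) (g := ξ) x default hx
  let K := AlgebraicClosure ((pullback (cpt A) ξ).residueField p)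
  let mm : Spec (CommRingCat.of K) ⟶ pullback (cpt A) ξ :=
    Spec.map (CommRingCat.ofHom (algebraMap ((pullback (cpt A) ξ).residueField p) K)) ≫
      (pullback (cpt A) ξ).fromSpecResidueField p
  let z := mm ≫ pullback.fst (cpt A) ξ
  let e := mm ≫ pullback.snd (cpt A) ξ
  have he : e ≫ ξ = z ≫ cpt A := by simp only [z, e, Category.assoc, pullback.condition]
  refine (NatIso.isIso_map_iff (stalkExtIso AddCommGrpCat.{u + 1} ξ e) _).2 ?_
  rw [he]
  refine (NatIso.isIso_map_iff (sheafFiberPullIso (A := AddCommGrpCat.{u + 1}) (cpt A) z) _).1 ?_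
  have := counit_isIso (A := AddCommGrpCat.{u + 1}) (cpt A) (liftable_of_isClosedImmersion (cpt A))
    ((EtCoh.pull (cpt A)).obj F)
  have : IsIso ((EtCoh.pull (cpt A)).map ((EtCoh.pullPushAdj (cpt A)).unit.app F)) :=
    @IsIso.of_isIso_fac_right _ _ _ _ _ _ _ _ this (IsIso.id _)
      ((EtCoh.pullPushAdj (cpt A)).left_triangle_components F)
  exact inferInstanceAs (IsIso ((EtCoh.stalk z).map ((EtCoh.pull (cpt A)).map
    ((EtCoh.pullPushAdj (cpt A)).unit.app F))))

theorem Hpull_bijective [PreservesFiniteLimits (EtCoh.pull (cpt A))] (F : EtCoh.Ab (Spec (CommRingCat.of A)))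
    (n : ℕ) : Function.Bijective (EtCore.Hpull (cpt A) F n) := by
  have : IsClosedImmersion (cpt A) := IsClosedImmersion.spec_of_surjective _ IsLocalRing.residue_surjective
  have : IsIntegralHom (cpt A) := inferInstance
  have := push_preservesFiniteColimits (cpt A)
  have := push_preservesFiniteLimits (cpt A)
  let L := EtCoh.pull (cpt A)
  let R := EtCoh.push (cpt A)
  let adj := EtCoh.pullPushAdj (cpt A)
  let Z := EtCoh.const (Spec (CommRingCat.of A)) ℤ
  have : PreservesFiniteLimits (L ⋙ R) := comp_preservesFiniteLimits _ _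
  have : PreservesFiniteColimits (L ⋙ R) := comp_preservesFiniteColimits _ _
  have hkey : ∀ α : Ext Z F n, EtMVLib.adjExtMap adj Z (L.obj F) n (α.mapExactFunctor L) =
      α.comp (Ext.mk₀ (adj.unit.app F)) (add_zero n) := fun α => by
    have h := EtMVLib.mapExactFunctor_natTrans (𝟭 _) (L ⋙ R) adj.unit α
    rw [mapExactFunctor_id, EtMVLib.mapExactFunctor_functorComp] at h
    exact h.symm
  have hmap : Function.Bijective (fun α : Ext Z F n => α.mapExactFunctor L) := by
    refine (Function.Bijective.of_comp_iff' (EtMVLib.adjExtMap_bijective adj Z (L.obj F) n) _).1 ?_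
    refine Eq.mpr (congrArg Function.Bijective (funext hkey))
      (postcomp_bijective (adj.unit.app F) (fun Ω _ _ ξ hξ => isIso_stalk_unit A F Ω ξ hξ) n)
  let e := EtCore.pullConst (cpt A) ℤ
  refine ⟨fun a b hab => hmap.1 ?_, fun c => ?_⟩
  · have h2 := congrArg (fun z => (Ext.mk₀ e.hom).comp z (zero_add n)) hab
    simp only [EtMVLib.Hpull_apply] at h2
    rw [Ext.mk₀_comp_mk₀_assoc, Ext.mk₀_comp_mk₀_assoc, Iso.hom_inv_id, Ext.mk₀_id_comp,
      Ext.mk₀_id_comp] at h2
    exact h2
  · obtain ⟨a, ha⟩ := hmap.2 ((Ext.mk₀ e.hom).comp c (zero_add n))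
    refine ⟨a, ?_⟩
    rw [EtMVLib.Hpull_apply]
    simp only at ha
    rw [ha, Ext.mk₀_comp_mk₀_assoc, Iso.inv_hom_id, Ext.mk₀_id_comp]

end Groth.Agent.EtLC12.HenselClosedPoint
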