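import Groth.Agent.EtLC12.HenzRigidity
import Groth.Prelude.Def_Hens2

/-!
# Morphisms between strict localisations
-/

set_option autoImplicit false

universe u

open CategoryTheory AlgebraicGeometry IsLocalRing

namespace Groth.Agent.EtLC12.Specialization

variable (X : Scheme.{u}) (x x' : X)
  (R : Type u) [CommRing R] [IsLocalRing R] [Algebra (X.presheaf.stalk x) R]
  (R' : Type u) [CommRing R'] [IsLocalRing R'] [Algebra (X.presheaf.stalk x') R']
  [IsLocalHom (algebraMap (X.presheaf.stalk x') R')]

/-- The closed point of a strict localisation lies over the centre. -/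
theorem geomPt_base (w : Spec (CommRingCat.of (ResidueField R'))) :
    (Hens2.geomPt X x' R').base w = x' := by
  show (X.fromSpecStalk x').base ((Spec.map (CommRingCat.ofHom (algebraMap (X.presheaf.stalk x') R'))).base
    ((Spec.map (CommRingCat.ofHom (residue R'))).base w)) = x'
  refine (congrArg (X.fromSpecStalk x').base ?_).trans Scheme.fromSpecStalk_closedPoint
  have h1 : (Spec.map (CommRingCat.ofHom (residue R'))).base w = closedPoint R' := by
    refine PrimeSpectrum.ext ?_
    change w.asIdeal.comap (residue R') = _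
    rw [← ((Ideal.eq_bot_or_top w.asIdeal).resolve_right w.2.ne_top).symm]
    exact Ideal.mk_ker
  rw [h1]
  exact IsLocalRing.comap_closedPoint (algebraMap (X.presheaf.stalk x') R')

/-- An arrow forces specialisation. -/
theorem specializes_of_hom {h : Spec (CommRingCat.of (ResidueField R')) ⟶ Spec (CommRingCat.of R)}
    (hh : h ≫ Hens2.specOf X x R = Hens2.geomPt X x' R') : x' ⤳ x := by
  let w : Spec (CommRingCat.of (ResidueField R')) := ⟨⊥, Ideal.isPrime_bot⟩
  have h1 : (h ≫ Hens2.specOf X x R).base w ∈ Set.range (X.fromSpecStalk x).base :=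
    ⟨_, rfl⟩
  rw [hh, geomPt_base, Scheme.range_fromSpecStalk] at h1
  exact h1

variable (hx : x' ⤳ x)

/-- The map of the local ring at `x` to `R'` of a specialisation. -/
noncomputable def toR' : X.presheaf.stalk x →+* R' :=
  (algebraMap (X.presheaf.stalk x') R').comp (X.presheaf.stalkSpecializes hx).hom

omit [IsLocalRing R'] [IsLocalHom (algebraMap (X.presheaf.stalk x') R')] in
theorem specOf_eq : Hens2.specOf X x' R' =
    Spec.map (CommRingCat.ofHom (toR' X x x' R' hx)) ≫ X.fromSpecStalk x := by
  show _ = Spec.map (X.presheaf.stalkSpecializes hx ≫ CommRingCat.ofHom (algebraMap (X.presheaf.stalk x') R')) ≫ _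
  rw [Spec.map_comp, Category.assoc, Scheme.SpecMap_stalkSpecializes_fromSpecStalk]
  rfl

variable {S : Type u} [CommRing S] (ρ : R' →+* S)

omit [IsLocalRing R] [IsLocalRing R'] [IsLocalHom (algebraMap (X.presheaf.stalk x') R')] in
theorem comp_specOf_eq_iff (χ : R →+* S) :
    Spec.map (CommRingCat.ofHom χ) ≫ Hens2.specOf X x R =
        Spec.map (CommRingCat.ofHom ρ) ≫ Hens2.specOf X x' R' ↔
      χ.comp (algebraMap (X.presheaf.stalk x) R) = ρ.comp (toR' X x x' R' hx) := by
  rw [specOf_eq X x x' R' hx, ← Category.assoc, ← Category.assoc, cancel_mono, ← Spec.map_comp,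
    ← Spec.map_comp, Spec.map_inj]
  exact ⟨fun h => congr(($h).hom), fun h => CommRingCat.hom_ext h⟩

omit [IsLocalRing R] [IsLocalRing R'] [IsLocalHom (algebraMap (X.presheaf.stalk x') R')] in
theorem comp_specOf_eq_iff' (χ : R →+* R') :
    Spec.map (CommRingCat.ofHom χ) ≫ Hens2.specOf X x R = Hens2.specOf X x' R' ↔
      χ.comp (algebraMap (X.presheaf.stalk x) R) = toR' X x x' R' hx := by
  have := comp_specOf_eq_iff X x x' R R' hx (RingHom.id R') χ
  rwa [CommRingCat.ofHom_id, Spec.map_id, Category.id_comp, RingHom.id_comp] at this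

end Groth.Agent.EtLC12.Specialization
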