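import Groth.Agent.EtLC12.EtZarCompare
import Groth.Agent.EtFound.JContGen
import Groth.Agent.EtFound.ExtZeroExact
import Groth.Agent.EtFound.PullStalk
import Mathlib.CategoryTheory.MorphismProperty.OverAdjunction

/-!
# Sheaves with no étale cohomology on affine étale schemes
-/

set_option autoImplicit false
set_option backward.isDefEq.respectTransparency false
set_option backward.isDefEq.respectTransparency.types false

universe u

open CategoryTheory CategoryTheory.Limits AlgebraicGeometry Opposite TopologicalSpace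

namespace Groth.Agent.EtLC12.AffineLocalAcyclic

open Groth.Agent.EtFound Groth.Agent.Adeq2Lib

section

variable {U X : Scheme.{u}} (j : U ⟶ X) [AlgebraicGeometry.Etale j] [EtShriek.JCont j]

/-- Restriction along an étale morphism is the inverse image. -/
noncomputable def restrIsoPull : EtShriek.restrAlong j ≅ EtCoh.pull j :=
  let a : EtShriek.compEtale j ⊣ EtCoh.bc j :=
    MorphismProperty.Over.mapPullbackAdj EtCoh.etaleMP ⊤ j
      (inferInstanceAs (AlgebraicGeometry.Etale j)) trivial
  Adjunction.leftAdjointUniq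
    (a.sheafPushforwardContinuous
      (E := AddCommGrpCat.{u + 1}) U.smallEtaleTopology X.smallEtaleTopology)
    (EtCoh.pullPushAdj j)

theorem injective_pull (I : EtCoh.Ab X) [Injective I] : Injective ((EtCoh.pull j).obj I) := by
  haveI := extZero_preservesFiniteLimits j
  haveI : (EtShriek.extZero j).PreservesMonomorphisms := inferInstance
  exact Injective.injective_of_adjoint ((EtShriek.extZeroAdj j).ofNatIsoRight (restrIsoPull j)) I

omit [AlgebraicGeometry.Etale j] [EtShriek.JCont j] in
theorem shortExact_pull {E : ShortComplex (EtCoh.Ab X)} (hE : E.ShortExact) :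
    (E.map (EtCoh.pull j)).ShortExact := by
  haveI := pull_preservesFiniteLimits j
  exact hE.map_of_exact (EtCoh.pull j)

end

variable {S : Scheme.{u}}

/-- No cohomology in positive degrees on affine étale schemes. -/
def IsLocAcyclic (G : EtCoh.Ab S) : Prop :=
  ∀ (T : S.Etale), IsAffine T.left → ∀ i : ℕ, 1 ≤ i →
    Subsingleton (EtCoh.H T.left ((EtCoh.pull T.hom).obj G) i)

variable (E : ShortComplex (EtCoh.Ab S)) (hE : E.ShortExact)

include hE in
theorem isLocAcyclic_X₃ (hI : Injective E.X₂) (h1 : IsLocAcyclic E.X₁) : IsLocAcyclic E.X₃ := by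
  intro T hT i hi
  haveI := hI
  haveI : AlgebraicGeometry.Etale T.hom := T.prop
  haveI := jCont T.hom
  have hE' : (E.map (EtCoh.pull T.hom)).ShortExact := shortExact_pull (T.hom : T.left ⟶ S) hE
  haveI : Injective (E.map (EtCoh.pull T.hom)).X₂ := injective_pull T.hom E.X₂
  haveI : ∀ k, Subsingleton (Sheaf.H (E.map (EtCoh.pull T.hom)).X₂ (k + 1)) := fun k =>
    subsingleton_of_forall_eq 0 fun x => Abelian.Ext.eq_zero_of_injective x
  obtain ⟨k, rfl⟩ := Nat.exists_eq_add_of_le hi
  rw [add_comm]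
  obtain ⟨e⟩ := ZarCmp.shift _ hE' k
  haveI : Subsingleton (Sheaf.H (E.map (EtCoh.pull T.hom)).X₁ (k + 1 + 1)) := h1 T hT _ (by omega)
  exact e.toEquiv.subsingleton

include hE in
theorem sections_surjective (hI : Injective E.X₂) (h1 : IsLocAcyclic E.X₁) (T : S.Etale) [IsAffine T.left] :
    Function.Surjective (E.g.hom.app (op T)).hom := by
  haveI := hI
  haveI : AlgebraicGeometry.Etale T.hom := T.prop
  haveI := jCont T.hom
  have hE' : (E.map (EtCoh.pull T.hom)).ShortExact := shortExact_pull (T.hom : T.left ⟶ S) hE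
  haveI : Injective (E.map (EtCoh.pull T.hom)).X₂ := injective_pull T.hom E.X₂
  haveI : Subsingleton (Sheaf.H (E.map (EtCoh.pull T.hom)).X₂ 1) :=
    subsingleton_of_forall_eq 0 fun x => Abelian.Ext.eq_zero_of_injective x
  haveI : Subsingleton (Sheaf.H (E.map (EtCoh.pull T.hom)).X₁ 1) := h1 T ‹_› 1 le_rfl
  obtain ⟨φ, -, hk⟩ := ZarCmp.h1_pres (topIsTerminal T.left) _ hE'
  let c : (EtShriek.compEtale T.hom).obj (EtCoh.top T.left) ≅ T :=
    MorphismProperty.Over.isoMk (Iso.refl _) (by
      show 𝟙 T.left ≫ T.hom = 𝟙 T.left ≫ T.hom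
      rfl)
  intro y
  let e := restrIsoPull T.hom
  obtain ⟨x, hx⟩ := (hk (((e.hom.app E.X₃).hom.app (op (EtCoh.top T.left))).hom
    ((E.X₃.obj.map c.hom.op).hom y))).1 (Subsingleton.elim _ _)
  refine ⟨(E.X₂.obj.map c.inv.op).hom (((e.inv.app E.X₂).hom.app (op (EtCoh.top T.left))).hom x), ?_⟩
  refine (NatTrans.naturality_apply E.g.hom c.inv.op _).trans ?_
  have h1' : (E.g.hom.app (op ((EtShriek.compEtale T.hom).obj (EtCoh.top T.left)))).hom
      (((e.inv.app E.X₂).hom.app (op (EtCoh.top T.left))).hom x) = (E.X₃.obj.map c.hom.op).hom y := by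
    refine (congrArg (fun t : (EtCoh.pull T.hom).obj E.X₂ ⟶ (EtShriek.restrAlong T.hom).obj E.X₃ =>
      (t.hom.app (op (EtCoh.top T.left))).hom x) (e.inv.naturality E.g).symm).trans ?_
    refine (congrArg (fun z => ((e.inv.app E.X₃).hom.app (op (EtCoh.top T.left))).hom z) hx).trans ?_
    exact congrArg (fun t : (EtShriek.restrAlong T.hom).obj E.X₃ ⟶ _ =>
      (t.hom.app (op (EtCoh.top T.left))).hom ((E.X₃.obj.map c.hom.op).hom y)) (e.hom_inv_id_app E.X₃)
  refine (congrArg (E.X₃.obj.map c.inv.op).hom h1').trans ?_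
  rw [← ConcreteCategory.comp_apply, ← Functor.map_comp, ← op_comp, c.inv_hom_id]
  exact ConcreteCategory.congr_hom (E.X₃.obj.map_id _) y

variable [EtZar.ZarCont S]

include hE in
theorem shortExact_resZar (hI : Injective E.X₂) (h1 : IsLocAcyclic E.X₁) :
    (E.map (EtZar.resZar S)).ShortExact := by
  haveI := hE.mono_f
  haveI hm : Mono ((EtZar.resZar S).map E.f) := inferInstance
  have hepi : Epi ((EtZar.resZar S).map E.g) := by
    refine ⟨fun {H} p q hpq => ?_⟩
    ext U s
    refine ZarFl.eq_of_coverZ H (I := { V : S.affineOpens // V.1 ≤ U.unop }) (fun V => V.1.1) (fun V => V.2) (fun x hx => ?_) _ _ fun V => ?_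
    · obtain ⟨W, hW, hxW, hWU⟩ := (Opens.isBasis_iff_nbhd.1 S.isBasis_affineOpens) hx
      exact ⟨⟨⟨W, hW⟩, hWU⟩, hxW⟩
    · rw [← ZarFl.rz_nat, ← ZarFl.rz_nat]
      haveI : IsAffine ((EtZar.zarToEt S).obj V.1.1).left := V.1.2
      obtain ⟨t, ht⟩ := sections_surjective E hE hI h1 ((EtZar.zarToEt S).obj V.1.1)
        (ZarFl.rz ((EtZar.resZar S).obj E.X₃) V.2 s)
      rw [← ht]
      exact ConcreteCategory.congr_hom (congrArg (fun α : (EtZar.resZar S).obj E.X₂ ⟶ H => α.hom.app (op V.1.1)) hpq) t
  exact { exact := hE.exact.map_of_mono_of_preservesKernel _ hE.mono_f inferInstance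
          mono_f := hm
          epi_g := hepi }

omit hE in
theorem subsingleton_H_resZar [IsAffine S] (n : ℕ) : ∀ G : EtCoh.Ab S, IsLocAcyclic G →
    Subsingleton (EtZar.H ((EtZar.resZar S).obj G) (n + 1)) := by
  induction n with
  | zero =>
    intro G hG
    let Q := Classical.arbitrary (InjectivePresentation G)
    have hE := Q.shortExact_shortComplex
    haveI : Injective Q.shortComplex.X₂ := Q.injective
    have hE' := shortExact_resZar _ hE inferInstance hG
    haveI : Subsingleton (Sheaf.H (Q.shortComplex.map (EtZar.resZar S)).X₂ 1) :=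
      ZarFl.subsingleton_H_of_flq 0 _ (EtZarCompare.flq_resZar_injective Q.shortComplex.X₂)
    obtain ⟨φ, hφ, hk⟩ := ZarCmp.h1_pres (T := (⊤ : S.Opens)) (IsTerminal.ofUnique _) _ hE'
    refine subsingleton_of_forall_eq 0 fun z => ?_
    obtain ⟨y, rfl⟩ := hφ z
    haveI : IsAffine ((EtZar.zarToEt S).obj ⊤).left := isAffineOpen_top S
    exact (hk y).2 (sections_surjective _ hE inferInstance hG ((EtZar.zarToEt S).obj ⊤) y)
  | succ n ih =>
    intro G hG
    let Q := Classical.arbitrary (InjectivePresentation G)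
    have hE := Q.shortExact_shortComplex
    haveI : Injective Q.shortComplex.X₂ := Q.injective
    have hE' := shortExact_resZar _ hE inferInstance hG
    haveI : ∀ k, Subsingleton (Sheaf.H (Q.shortComplex.map (EtZar.resZar S)).X₂ (k + 1)) := fun k =>
      ZarFl.subsingleton_H_of_flq k _ (EtZarCompare.flq_resZar_injective Q.shortComplex.X₂)
    obtain ⟨e⟩ := ZarCmp.shift _ hE' n
    haveI : Subsingleton (Sheaf.H (Q.shortComplex.map (EtZar.resZar S)).X₃ (n + 1)) :=
      ih _ (isLocAcyclic_X₃ _ hE inferInstance hG)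
    exact e.symm.toEquiv.subsingleton

end Groth.Agent.EtLC12.AffineLocalAcyclic
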