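import Groth.Prelude.Def_EtGm
import Groth.Agent.EtFound.Detect
import Groth.Agent.EtFound.ConstStalk
import Groth.Agent.EtFound.Germ
import Groth.Agent.SiteBase.AbSecExact
import Mathlib.RingTheory.Polynomial.Cyclotomic.Roots
import Mathlib.RingTheory.RootsOfUnity.Complex
import Mathlib.Algebra.Polynomial.Derivative
import Mathlib.FieldTheory.KummerExtension

/-!
# `μ_n` is constant in the presence of a root of the cyclotomic polynomial
-/

set_option autoImplicit false
set_option backward.isDefEq.respectTransparency false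
set_option backward.isDefEq.respectTransparency.types false

universe u

open CategoryTheory CategoryTheory.Limits AlgebraicGeometry Opposite

namespace Groth.Agent.EtLC12.MuConst

open Groth.Agent.EtFound

section Algebra

open Polynomial

variable {R : Type u} [CommRing R] {n : ℕ} {ζ : R}

theorem pow_eq_one_of_root (hζ : aeval ζ (cyclotomic n ℤ) = 0) : ζ ^ n = 1 := by
  obtain ⟨g, hg⟩ := cyclotomic.dvd_X_pow_sub_one n ℤ
  have h := congrArg (aeval ζ) hg
  rw [map_mul, hζ, zero_mul, map_sub, map_pow, aeval_X, map_one] at h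
  exact sub_eq_zero.mp h

theorem X_pow_sub_one_eq (hn : 0 < n) (hζ : aeval ζ (cyclotomic n ℤ) = 0) :
    (X ^ n - 1 : R[X]) = ∏ i ∈ Finset.range n, (X - C (ζ ^ i)) := by
  let Φ := cyclotomic n ℤ
  let A := AdjoinRoot Φ
  let ρ : A →+* R := AdjoinRoot.lift (Int.castRingHom R) ζ (by simpa [aeval_def] using hζ)
  let z : ℂ := Complex.exp (2 * Real.pi * Complex.I / n)
  have hz : IsPrimitiveRoot z n := Complex.isPrimitiveRoot_exp n hn.ne'
  have hΦ : Φ = minpoly ℤ z := cyclotomic_eq_minpoly hz hn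
  let ι : A →+* ℂ := AdjoinRoot.lift (Int.castRingHom ℂ) z (by
    have := minpoly.aeval ℤ z
    rw [← hΦ] at this
    simpa [aeval_def] using this)
  have hι : Function.Injective ι := by
    rw [injective_iff_map_eq_zero]
    intro x hx
    obtain ⟨g, rfl⟩ := AdjoinRoot.mk_surjective x
    rw [AdjoinRoot.lift_mk] at hx
    have h : minpoly ℤ z ∣ g :=
      minpoly.isIntegrallyClosed_dvd (IsPrimitiveRoot.isIntegral hz hn) (by simpa [aeval_def] using hx)
    rw [← hΦ] at h
    exact AdjoinRoot.mk_eq_zero.mpr h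
  have key : (X ^ n - 1 : A[X]) = ∏ i ∈ Finset.range n, (X - C (AdjoinRoot.root Φ ^ i)) := by
    apply Polynomial.map_injective ι hι
    have e := X_pow_sub_C_eq_prod hz hn (one_pow n : (1 : ℂ) ^ n = 1)
    have hr : ι (AdjoinRoot.root Φ) = z := AdjoinRoot.lift_root _
    rw [Polynomial.map_prod, Polynomial.map_sub, Polynomial.map_pow, Polynomial.map_X, Polynomial.map_one]
    refine Eq.trans ?_ (e.trans (Finset.prod_congr rfl fun i _ => ?_))
    · rw [Polynomial.C_1]
    · rw [Polynomial.map_sub, Polynomial.map_X, Polynomial.map_C, map_pow, hr, mul_one]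
  have := congrArg (Polynomial.map ρ) key
  have hr : ρ (AdjoinRoot.root Φ) = ζ := AdjoinRoot.lift_root _
  rw [Polynomial.map_prod, Polynomial.map_sub, Polynomial.map_pow, Polynomial.map_X, Polynomial.map_one] at this
  refine this.trans (Finset.prod_congr rfl fun i _ => ?_)
  rw [Polynomial.map_sub, Polynomial.map_X, Polynomial.map_C, map_pow ρ, hr]

theorem prod_eq_zero (hn : 0 < n) (hζ : aeval ζ (cyclotomic n ℤ) = 0) {a : R} (ha : a ^ n = 1) :
    ∏ i ∈ Finset.range n, (a - ζ ^ i) = 0 := by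
  have h := congrArg (eval a) (X_pow_sub_one_eq hn hζ)
  simpa [eval_prod, ha] using h.symm

open scoped Classical in
theorem isUnit_sub (hn : 0 < n) (hu : IsUnit (n : R)) (hζ : aeval ζ (cyclotomic n ℤ) = 0) {i j : ℕ}
    (hi : i < n) (hj : j < n) (hij : j ≠ i) : IsUnit (ζ ^ i - ζ ^ j) := by
  have h := congrArg (fun f => eval (ζ ^ i) (derivative f)) (X_pow_sub_one_eq hn hζ)
  simp only [derivative_sub, derivative_one, sub_zero, derivative_X_pow, eval_mul, eval_C, eval_pow,
    eval_X, derivative_prod_finset, eval_finsetSum, eval_prod, eval_sub, derivative_X, derivative_C,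
    mul_one] at h
  rw [Finset.sum_eq_single i (fun k hk hki => ?_) (fun h' => absurd (Finset.mem_range.mpr hi) h')] at h
  · have hU : IsUnit ((n : R) * (ζ ^ i) ^ (n - 1)) :=
      hu.mul ((IsUnit.of_pow_eq_one (pow_eq_one_of_root hζ) hn.ne').pow i |>.pow (n - 1))
    rw [h] at hU
    exact (IsUnit.prod_iff.mp hU) j (Finset.mem_erase.mpr ⟨hij, Finset.mem_range.mpr hj⟩)
  · exact Finset.prod_eq_zero (Finset.mem_erase.mpr ⟨hki.symm, Finset.mem_range.mpr hi⟩) (sub_self _)

/-- The powers of `ζ`. -/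
noncomputable def φ (n : ℕ) (z : Rˣ) (hz : z ^ n = 1) : ZMod n →+ Additive Rˣ :=
  ZMod.lift n ⟨zmultiplesHom (Additive Rˣ) (Additive.ofMul z), by
    rw [zmultiplesHom_apply, natCast_zsmul, ← ofMul_pow, hz, ofMul_one]⟩

theorem φ_natCast (z : Rˣ) (hz : z ^ n = 1) (i : ℕ) : φ n z hz (i : ZMod n) = Additive.ofMul (z ^ i) := by
  rw [φ, ← Int.cast_natCast (R := ZMod n) i, ZMod.lift_coe, zmultiplesHom_apply, natCast_zsmul, ofMul_pow]

theorem val_φ [NeZero n] (z : Rˣ) (hz : z ^ n = 1) (i : ZMod n) :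
    ((φ n z hz i).toMul : R) = (z : R) ^ i.val := by
  conv_lhs => rw [← ZMod.natCast_zmod_val i]
  rw [φ_natCast]
  simp

end Algebra

variable {X : Scheme.{u}} {n : ℕ} [NeZero n] (hu : IsUnit (n : Γ(X, ⊤))) (ζ : Γ(X, ⊤))
  (hζ : Polynomial.aeval ζ (Polynomial.cyclotomic n ℤ) = 0)

/-- The image of `ζ` over an étale scheme. -/
noncomputable def zA (U : X.Etale) : Γ(U.left, ⊤) := (U.hom : U.left ⟶ X).appTop ζ

include hζ in
theorem zA_root (U : X.Etale) : Polynomial.aeval (zA ζ U) (Polynomial.cyclotomic n ℤ) = 0 := by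
  show Polynomial.aeval (((U.hom : U.left ⟶ X).appTop.hom.toIntAlgHom) ζ) _ = 0
  exact (Polynomial.aeval_algHom_apply (U.hom : U.left ⟶ X).appTop.hom.toIntAlgHom ζ _).trans
    ((congrArg _ hζ).trans (map_zero _))

include hu in
theorem isUnit_natCast (U : X.Etale) : IsUnit (n : Γ(U.left, ⊤)) := by
  have := hu.map (U.hom : U.left ⟶ X).appTop.hom
  rwa [map_natCast] at this

theorem map_zA {U V : X.Etale} (f : V ⟶ U) : f.left.appTop (zA ζ U) = zA ζ V := by
  show ((U.hom : U.left ⟶ X).appTop ≫ f.left.appTop) ζ = _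
  rw [← Scheme.Hom.comp_appTop, MorphismProperty.Over.w f]
  rfl

include hζ in
/-- The image of `ζ` as a unit. -/
theorem isUnit_zA (U : X.Etale) : IsUnit (zA ζ U) :=
  IsUnit.of_pow_eq_one (pow_eq_one_of_root (zA_root ζ hζ U)) (NeZero.ne n)

variable (n) in
/-- The constant presheaf `ℤ/n`. -/
noncomputable abbrev cP (X : Scheme.{u}) : X.Etaleᵒᵖ ⥤ AddCommGrpCat.{u + 1} :=
  (Functor.const X.Etaleᵒᵖ).obj (AddCommGrpCat.of (ULift.{u + 1} (ZMod n)))

include hζ in
theorem pow_zU (U : X.Etale) : (isUnit_zA ζ hζ U).unit ^ n = 1 :=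
  Units.ext (by rw [Units.val_pow_eq_pow_val, IsUnit.unit_spec, pow_eq_one_of_root (zA_root ζ hζ U), Units.val_one])

/-- `i ↦ ζ^i`, on presheaves. -/
noncomputable def η : cP n X ⟶ (EtCoh.Gm X).obj where
  app U := AddCommGrpCat.ofHom
    { toFun := fun m => ULift.up (φ n (isUnit_zA ζ hζ U.unop).unit (pow_zU ζ hζ U.unop) m.down)
      map_zero' := congrArg ULift.up (map_zero _)
      map_add' := fun a b => congrArg ULift.up (map_add _ a.down b.down) }
  naturality U V g := AddCommGrpCat.hom_ext <| AddMonoidHom.ext fun m => by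
    apply ULift.ext
    apply Units.ext (α := Γ(V.unop.left, ⊤))
    show ((φ n _ (pow_zU ζ hζ V.unop) m.down).toMul : Γ(V.unop.left, ⊤)) =
      g.unop.left.appTop ((φ n _ (pow_zU ζ hζ U.unop) m.down).toMul : Γ(U.unop.left, ⊤))
    rw [val_φ, val_φ, map_pow, IsUnit.unit_spec, IsUnit.unit_spec, map_zA]

/-- `i ↦ ζ^i`. -/
noncomputable def constToGm : EtCoh.const X (ZMod n) ⟶ EtCoh.Gm X :=
  ⟨sheafifyLift X.smallEtaleTopology (η ζ hζ) (EtCoh.Gm X).property⟩

lemma toSheafify_constToGm : toSheafify X.smallEtaleTopology (cP n X) ≫ (constToGm ζ hζ).hom = η ζ hζ :=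
  toSheafify_sheafifyLift _ _ _

theorem powMap_app (U : X.Etale) (t : (EtCoh.Gm X).obj.obj (op U)) :
    ((EtCoh.powMap X n).hom.app (op U)).hom t = n • t := by
  let Ev : (EtCoh.Gm X ⟶ EtCoh.Gm X) →+ (EtCoh.Gm X).obj.obj (op U) :=
    AddMonoidHom.mk' (fun ψ => (ψ.hom.app (op U)).hom t) (fun _ _ => rfl)
  exact map_nsmul Ev n (𝟙 _)

lemma constToGm_powMap : constToGm ζ hζ ≫ EtCoh.powMap X n = 0 := by
  refine Sheaf.hom_ext (sheafify_hom_ext _ _ _ (EtCoh.Gm X).property ?_)
  rw [ObjectProperty.FullSubcategory.comp_hom, ← Category.assoc, toSheafify_constToGm]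
  show η ζ hζ ≫ (EtCoh.powMap X n).hom = toSheafify X.smallEtaleTopology (cP n X) ≫ 0
  rw [comp_zero]
  refine NatTrans.ext (funext fun U => AddCommGrpCat.hom_ext (AddMonoidHom.ext fun m => ?_))
  refine (powMap_app U.unop _).trans ?_
  refine (map_nsmul ((η ζ hζ).app U).hom n m).symm.trans ?_
  have : n • m = 0 := ULift.ext _ _ (by simp)
  exact (congrArg _ this).trans (map_zero _)

/-- The comparison with `μ_n`. -/
noncomputable def constToMu : EtCoh.const X (ZMod n) ⟶ kernel (EtCoh.powMap X n) :=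
  kernel.lift _ (constToGm ζ hζ) (constToGm_powMap ζ hζ)

lemma ι_constToMu (U : X.Etale) (m : ULift.{u + 1} (ZMod n)) :
    ((kernel.ι (EtCoh.powMap X n)).hom.app (op U)).hom (((constToMu ζ hζ).hom.app (op U)).hom
      ((toSheafify X.smallEtaleTopology (cP n X)).app (op U) m)) =
      ((η ζ hζ).app (op U)).hom m := by
  have h : (toSheafify X.smallEtaleTopology (cP n X)) ≫ (constToMu ζ hζ).hom ≫ (kernel.ι (EtCoh.powMap X n)).hom = η ζ hζ := by
    rw [← ObjectProperty.FullSubcategory.comp_hom, constToMu, kernel.lift_ι, toSheafify_constToGm]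
  exact congrArg (fun t => (t.app (op U)).hom m) h

include hu in
theorem isIso_constToMu : IsIso (constToMu ζ hζ) := by
  haveI : LocallySmall.{u + 1} X.Etale := ⟨fun _ _ => inferInstance⟩
  refine isIso_of_stalks (constToMu ζ hζ) fun Ω _ _ ξ => ⟨?_, fun q => ?_⟩
  · intro a b hab
    obtain ⟨U, u, s, rfl⟩ := (Scheme.pointSmallEtale ξ).toPresheafFiber_jointly_surjective a
    obtain ⟨m, hm⟩ := (toSheafify_const_germ_bijective ξ AddCommGrpCat.{u + 1} _ U u).2
      ((Scheme.pointSmallEtale ξ).toPresheafFiber U u (EtCoh.const X (ZMod n)).obj s)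
    obtain ⟨m', hm'⟩ := (toSheafify_const_germ_bijective ξ AddCommGrpCat.{u + 1} _ U u).2 b
    suffices m = m' by
      rw [← hm', ← this]
      exact hm.symm
    rw [← hm'] at hab
    erw [← hm] at hab
    erw [(Scheme.pointSmallEtale ξ).toPresheafFiber_naturality_apply,
      (Scheme.pointSmallEtale ξ).toPresheafFiber_naturality_apply] at hab
    obtain ⟨V, f, v, -, hf⟩ := ((Scheme.pointSmallEtale ξ).toPresheafFiber_eq_iff' _ _ _ _).1 hab
    have h1 := congrArg ((kernel.ι (EtCoh.powMap X n)).hom.app (op V)).hom hf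
    have h3 : ((η ζ hζ).app (op V)).hom m = ((η ζ hζ).app (op V)).hom m' := by
      have e := fun t : ULift.{u + 1} (ZMod n) =>
        (ConcreteCategory.congr_hom ((η ζ hζ).naturality f.op) t :
          ((η ζ hζ).app (op V)).hom t = ((EtCoh.Gm X).obj.map f.op).hom (((η ζ hζ).app (op U)).hom t))
      rw [e, e]
      exact ((((congrArg ((EtCoh.Gm X).obj.map f.op).hom (ι_constToMu ζ hζ U m)).symm.trans
        (NatTrans.naturality_apply (kernel.ι (EtCoh.powMap X n)).hom f.op _).symm).trans h1).trans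
          ((NatTrans.naturality_apply (kernel.ι (EtCoh.powMap X n)).hom f.op _).trans
            (congrArg ((EtCoh.Gm X).obj.map f.op).hom (ι_constToMu ζ hζ U m'))))
    haveI : Nontrivial Γ(V.left, ⊤) :=
      (((Scheme.ΓSpecIso (CommRingCat.of Ω)).hom.hom).comp
        (v.left : Spec (CommRingCat.of Ω) ⟶ V.left).appTop.hom).domain_nontrivial
    have h2 : zA ζ V ^ m.down.val = zA ζ V ^ m'.down.val := by
      have := congrArg (fun t : ULift.{u + 1} (Additive Γ(V.left, ⊤)ˣ) => (t.down.toMul : Γ(V.left, ⊤))) h3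
      exact (val_φ _ (pow_zU ζ hζ V) m.down).symm.trans (this.trans (val_φ _ (pow_zU ζ hζ V) m'.down))
    refine ULift.ext _ _ (ZMod.val_injective n ?_)
    by_contra hne
    have hU := isUnit_sub (NeZero.pos n) (isUnit_natCast hu V) (zA_root ζ hζ V) (ZMod.val_lt m.down)
      (ZMod.val_lt m'.down) (Ne.symm hne)
    rw [h2, sub_self] at hU
    exact not_isUnit_zero hU
  · obtain ⟨U, u, k, rfl⟩ := (Scheme.pointSmallEtale ξ).toPresheafFiber_jointly_surjective q
    let a0 : ULift.{u + 1} (Additive Γ(U.left, ⊤)ˣ) := ((kernel.ι (EtCoh.powMap X n)).hom.app (op U)).hom k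
    let a : Γ(U.left, ⊤) := (a0.down.toMul : Γ(U.left, ⊤))
    have ha : a ^ n = 1 := by
      have h := (powMap_app U _).symm.trans
        (congrArg (fun t : kernel (EtCoh.powMap X n) ⟶ EtCoh.Gm X => (t.hom.app (op U)).hom k)
          (kernel.condition _))
      exact congrArg (fun t : ULift.{u + 1} (Additive Γ(U.left, ⊤)ˣ) => (t.down.toMul : Γ(U.left, ⊤))) h
    let ev : Γ(U.left, ⊤) →+* Ω := ((Scheme.ΓSpecIso (CommRingCat.of Ω)).hom.hom).comp
      (u.left : Spec (CommRingCat.of Ω) ⟶ U.left).appTop.hom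
    have h0 : ev (∏ i ∈ Finset.range n, (a - zA ζ U ^ i)) = 0 := by
      rw [prod_eq_zero (NeZero.pos n) (zA_root ζ hζ U) ha, map_zero]
    rw [map_prod, Finset.prod_eq_zero_iff] at h0
    obtain ⟨i, hi, hi0⟩ := h0
    let r : Γ(U.left, ⊤) := ∏ j ∈ (Finset.range n).erase i, (a - zA ζ U ^ j)
    have hbr : (a - zA ζ U ^ i) * r = 0 :=
      (Finset.mul_prod_erase _ _ hi).trans (prod_eq_zero (NeZero.pos n) (zA_root ζ hζ U) ha)
    have hevr : IsUnit (ev r) := by
      have e : ev r = ev (∏ j ∈ (Finset.range n).erase i, (zA ζ U ^ i - zA ζ U ^ j)) := by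
        rw [map_prod, map_prod]
        refine Finset.prod_congr rfl fun j _ => ?_
        rw [map_sub, sub_eq_zero] at hi0
        rw [map_sub, map_sub, hi0]
      rw [e]
      refine IsUnit.map ev (IsUnit.prod_iff.mpr fun j hj => ?_)
      obtain ⟨hji, hj⟩ := Finset.mem_erase.mp hj
      exact isUnit_sub (NeZero.pos n) (isUnit_natCast hu U) (zA_root ζ hζ U) (Finset.mem_range.mp hi)
        (Finset.mem_range.mp hj) hji
    haveI : AlgebraicGeometry.Etale U.hom := U.prop
    let V : X.Etale := Scheme.Etale.mk ((U.left.basicOpen r).ι ≫ U.hom)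
    let f : V ⟶ U := MorphismProperty.Over.homMk (U.left.basicOpen r).ι rfl trivial
    have hmem : (u.left : Spec (CommRingCat.of Ω) ⟶ U.left).base (default : Spec (CommRingCat.of Ω)) ∈
        U.left.basicOpen r := by
      have hu' : IsUnit ((u.left : Spec (CommRingCat.of Ω) ⟶ U.left).appTop r) := by
        refine (MulEquiv.isUnit_map (Scheme.ΓSpecIso (CommRingCat.of Ω)).commRingCatIsoToRingEquiv.toMulEquiv).1 ?_
        exact hevr
      have h := (Spec (CommRingCat.of Ω)).basicOpen_of_isUnit hu'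
      exact ((Scheme.preimage_basicOpen_top (u.left : Spec (CommRingCat.of Ω) ⟶ U.left) r).trans h).ge (TopologicalSpace.Opens.mem_top (default : Spec (CommRingCat.of Ω)))
    obtain ⟨v, hv, -⟩ := exists_lift_point f u ⟨_, hmem⟩ rfl
    subst hv
    have hr : IsUnit (f.left.appTop r) := by
      show IsUnit ((U.left.basicOpen r).ι.appTop r)
      have h := (U.left.toRingedSpace.isUnit_res_basicOpen r).map (U.left.basicOpen r).topIso.inv.hom
      rw [Scheme.Opens.ι_appTop]
      convert h using 1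
      simp [Scheme.Opens.topIso]
      erw [← ConcreteCategory.comp_apply, ← Functor.map_comp]
      rfl
    have hfb : f.left.appTop a = zA ζ V ^ i := by
      have := hr.mul_left_eq_zero.1 (by rw [← map_mul, hbr, map_zero] : f.left.appTop (a - zA ζ U ^ i) * f.left.appTop r = 0)
      rwa [map_sub, sub_eq_zero, map_pow, map_zA] at this
    refine ⟨(Scheme.pointSmallEtale ξ).toPresheafFiber V v (EtCoh.const X (ZMod n)).obj
      ((toSheafify X.smallEtaleTopology (cP n X)).app (op V) (ULift.up (i : ZMod n))), ?_⟩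
    erw [(Scheme.pointSmallEtale ξ).toPresheafFiber_naturality_apply]
    rw [← (Scheme.pointSmallEtale ξ).toPresheafFiber_w_apply f v]
    refine congrArg _ (SiteBase.sheaf_app_injective (kernel.ι (EtCoh.powMap X n)) V ?_)
    refine (ι_constToMu ζ hζ V (ULift.up (i : ZMod n))).trans ?_
    refine Eq.trans ?_ (NatTrans.naturality_apply (kernel.ι (EtCoh.powMap X n)).hom f.op k).symm
    refine ULift.ext _ _ (Units.ext (α := Γ(V.left, ⊤)) ?_)
    show ((φ n _ (pow_zU ζ hζ V) (i : ZMod n)).toMul : Γ(V.left, ⊤)) = f.left.appTop a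
    rw [val_φ, IsUnit.unit_spec, ZMod.val_natCast, Nat.mod_eq_of_lt (Finset.mem_range.mp hi), hfb]

include hu hζ in
/-- `μ_n ≅ ℤ/n`. -/
theorem nonempty_mu_iso_const : Nonempty (EtCoh.mu X n ≅ EtCoh.const X (ZMod n)) :=
  haveI := isIso_constToMu hu ζ hζ
  ⟨(asIso (constToMu ζ hζ)).symm⟩

end Groth.Agent.EtLC12.MuConst
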