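import Groth.Agent.EtFound.QcqsCech
import Groth.Agent.EtFound.CechInjGen
import Groth.Agent.EtFound.CechSurjGen
import Groth.Agent.EtFound.Henselian
import Groth.Agent.EtFound.CoprodSections
import Groth.Agent.SiteBase.AbSecExact
import Mathlib.Algebra.Homology.DerivedCategory.Ext.EnoughInjectives
import Mathlib.AlgebraicGeometry.Morphisms.UnderlyingMap

/-!
# Cartan's criterion on affine objects of the étale site
-/

set_option autoImplicit false
set_option backward.isDefEq.respectTransparency false
set_option backward.isDefEq.respectTransparency.types false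

universe u

open CategoryTheory CategoryTheory.Limits AlgebraicGeometry Opposite Abelian

namespace Groth.Agent.EtLC12.AffineCartan

open Groth.Agent.EtFound

variable {X : Scheme.{u}}

/-- No higher Čech cohomology for one affine covering of an affine object. -/
def IsAffAcyclic (G : EtCoh.Ab X) : Prop :=
  ∀ (U : X.Etale) [HasFiniteProducts (Over U)] (Y : Over U), IsAffine U.left → IsAffine Y.left.left →
    Surjective Y.hom.left → ∀ p, IsZero (EtCech.cechH (fun _ : PUnit.{u + 2} => Y) G.obj (p + 1))

theorem isAffine_of_iso {U V : X.Etale} (e : U ≅ V) (hV : IsAffine V.left) : IsAffine U.left :=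
  haveI : IsAffine ((Scheme.Etale.forget X ⋙ CategoryTheory.Over.forget X).obj V) := hV
  IsAffine.of_isIso ((Scheme.Etale.forget X ⋙ CategoryTheory.Over.forget X).mapIso e).hom

theorem isAffine_pullback {U V W : X.Etale} (a : V ⟶ U) (b : W ⟶ U) [IsAffine U.left] [IsAffine V.left]
    [IsAffine W.left] : IsAffine (pullback a b).left := by
  haveI : PreservesFiniteLimits (Scheme.Etale.forget X) := inferInstance
  haveI : PreservesLimitsOfShape WalkingCospan (Scheme.Etale.forget X ⋙ CategoryTheory.Over.forget X) :=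
    comp_preservesLimitsOfShape _ _
  let e : (pullback a b).left ≅ pullback a.left b.left :=
    PreservesPullback.iso (Scheme.Etale.forget X ⋙ CategoryTheory.Over.forget X) a b
  exact IsAffine.of_isIso e.hom

/-- Finite products over an affine object of affine objects are affine. -/
theorem isAffine_prod {U : X.Etale} [HasFiniteProducts (Over U)] [IsAffine U.left] :
    ∀ (n : ℕ) (Y : Fin (n + 1) → Over U), (∀ k, IsAffine (Y k).left.left) → IsAffine (∏ᶜ Y).left.left := by
  intro n
  induction n with
  | zero =>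
    intro Y hY
    haveI := hY 0
    haveI : IsIso (Pi.π Y 0) := by
      refine ⟨Pi.lift fun k => eqToHom (by rw [Fin.fin_one_eq_zero k]), ?_, ?_⟩
      · refine Pi.hom_ext _ _ fun k => ?_
        obtain rfl := Fin.fin_one_eq_zero k
        simp
      · simp
    exact isAffine_of_iso ((CategoryTheory.Over.forget U).mapIso (asIso (Pi.π Y 0))) (hY 0)
  | succ n ih =>
    intro Y hY
    haveI : HasBinaryProducts (Over U) := inferInstance
    haveI := hY 0
    haveI := ih (fun k => Y (Fin.succ k)) fun k => hY _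
    let e : ∏ᶜ Y ≅ (Y 0 ⨯ ∏ᶜ fun k => Y (Fin.succ k)) :=
      { hom := prod.lift (Pi.π Y 0) (Pi.lift fun k => Pi.π Y (Fin.succ k))
        inv := Pi.lift (Fin.cases prod.fst fun k => prod.snd ≫ Pi.π (fun k => Y (Fin.succ k)) k)
        hom_inv_id := Pi.hom_ext _ _ fun k => by
          rw [Category.assoc, Pi.lift_π, Category.id_comp]
          induction k using Fin.cases with
          | zero => exact prod.lift_fst _ _
          | succ k =>
            refine (Category.assoc _ _ _).symm.trans ?_
            exact (congrArg (· ≫ _) (prod.lift_snd _ _)).trans (Pi.lift_π _ _)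
        inv_hom_id := by
          refine prod.hom_ext ?_ (Pi.hom_ext _ _ fun k => ?_)
          · rw [Category.assoc, Category.id_comp]
            exact (congrArg (_ ≫ ·) (prod.lift_fst _ _)).trans (Pi.lift_π _ 0)
          · rw [Category.assoc, Category.assoc, Category.id_comp]
            refine (congrArg (_ ≫ ·) ((Category.assoc _ _ _).symm.trans
              ((congrArg (· ≫ _) (prod.lift_snd _ _)).trans (Pi.lift_π _ k)))).trans ?_
            exact Pi.lift_π _ (Fin.succ k) }
    haveI : IsAffine (Y 0 ⨯ ∏ᶜ fun k => Y (Fin.succ k)).left.left := by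
      haveI := isAffine_pullback (Y 0).hom (∏ᶜ fun k => Y (Fin.succ k)).hom
      exact isAffine_of_iso (CategoryTheory.Over.prodLeftIsoPullback (Y 0) (∏ᶜ fun k => Y (Fin.succ k))) this
    exact isAffine_of_iso ((CategoryTheory.Over.forget U).mapIso e) this

theorem isAffAcyclic_of_injective (G : EtCoh.Ab X) [Injective G] : IsAffAcyclic G := by
  intro U _ Y _ _ _ p
  haveI : LocallySmall.{u + 1} X.Etale := ⟨fun _ _ => inferInstance⟩
  haveI : Injective G.obj :=
    Injective.injective_of_adjoint (sheafificationAdjunction X.smallEtaleTopology AddCommGrpCat.{u + 1}) G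
  exact CechInjGen.isZero_cechH_injective _ G.obj p

/-- A covering of an affine object is refined by one affine covering. -/
theorem exists_affine_refinement {V : X.Etale} [IsAffine V.left] (R : Sieve V) (hR : R ∈ X.smallEtaleTopology V) :
    ∃ (n : ℕ) (W : Fin n → X.Etale) (T : X.Etale) (g : T ⟶ V) (i : ∀ k, W k ⟶ T),
      IsAffine T.left ∧ Surjective g.left ∧ (∀ k, R (i k ≫ g)) ∧ (∀ k, Mono (i k)) ∧
      (∀ x : T.left, ∃ (k : Fin n) (z : (W k).left), (i k).left.base z = x) ∧
      ∀ k l, k ≠ l → ∀ a b, (i k).left.base a ≠ (i l).left.base b := by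
  classical
  choose W₀ g₀ v hg hv using (mem_topology_iff R).1 hR
  choose A hA hvA _ using fun x => exists_isAffineOpen_mem_and_subset (U := (⊤ : (W₀ x).left.Opens))
    (TopologicalSpace.Opens.mem_top (v x))
  haveI : ∀ x, AlgebraicGeometry.Etale (W₀ x).hom := fun x => (W₀ x).prop
  let W₁ : V.left → X.Etale := fun x => Scheme.Etale.mk ((A x).ι ≫ (W₀ x).hom)
  let a : ∀ x, W₁ x ⟶ V := fun x =>
    (MorphismProperty.Over.homMk (A x).ι rfl trivial : W₁ x ⟶ W₀ x) ≫ g₀ x
  have ho : ∀ x, IsOpen (Set.range (a x).left.base) := fun x => by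
    haveI := etale_left (a x)
    exact (Scheme.Hom.isOpenMap (a x).left).isOpen_range
  have hx : ∀ x, x ∈ Set.range (a x).left.base := fun x =>
    ⟨⟨v x, hvA x⟩, (Scheme.Hom.comp_apply _ _ _).trans (hv x)⟩
  obtain ⟨t, ht⟩ := isCompact_univ.elim_finite_subcover _ ho fun x _ => Set.mem_iUnion.2 ⟨x, hx x⟩
  let q : Fin t.card → V.left := fun k => (t.equivFin.symm k).1
  let W : Fin t.card → X.Etale := fun k => W₁ (q k)
  haveI : ∀ k, IsAffine (W k).left := fun k => hA (q k)
  haveI : AlgebraicGeometry.Etale (Sigma.desc fun k => (W k).hom) :=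
    IsZariskiLocalAtSource.sigmaDesc fun k => (W k).prop
  let T : X.Etale := Scheme.Etale.mk (Sigma.desc fun k => (W k).hom)
  let g : T ⟶ V := MorphismProperty.Over.homMk (Sigma.desc fun k => (a (q k)).left)
    (Sigma.hom_ext _ _ fun k => by
      show Sigma.ι _ k ≫ (Sigma.desc _ ≫ V.hom) = Sigma.ι _ k ≫ Sigma.desc _
      rw [Sigma.ι_desc_assoc, Sigma.ι_desc]
      exact MorphismProperty.Over.w (a (q k))) trivial
  let i : ∀ k, W k ⟶ T := fun k =>
    MorphismProperty.Over.homMk (Sigma.ι (fun k => (W k).left) k) (Sigma.ι_desc _ _) trivial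
  refine ⟨t.card, W, T, g, i, inferInstanceAs (IsAffine (∐ fun k => (W k).left)), ⟨fun x => ?_⟩, fun k => ?_,
    fun k => ?_, fun x => ?_, fun k l hkl p p' h => ?_⟩
  · obtain ⟨y, hy, z, rfl⟩ := Set.mem_iUnion₂.1 (ht (Set.mem_univ x))
    obtain ⟨k, rfl⟩ : ∃ k, q k = y := ⟨t.equivFin ⟨y, hy⟩, by simp [q]⟩
    refine ⟨(Sigma.ι (fun k => (W k).left) k).base z, ?_⟩
    refine (Scheme.Hom.comp_apply _ _ _).symm.trans ?_
    exact congrArg (fun f : (W k).left ⟶ V.left => f.base z) (Sigma.ι_desc (f := fun k => (W k).left) _ k)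
  · have : i k ≫ g = a (q k) := MorphismProperty.Over.Hom.ext (Sigma.ι_desc _ k)
    rw [this]
    exact R.downward_closed (hg _) _
  · haveI : Mono (i k).left := inferInstanceAs (Mono (Sigma.ι (fun k => (W k).left) k))
    exact ⟨fun b c h => MorphismProperty.Over.Hom.ext
      ((cancel_mono (i k).left).1 (congrArg (fun m => m.left) h))⟩
  · obtain ⟨k, z, hz⟩ := (sigmaOpenCover fun k => (W k).left).exists_eq x
    exact ⟨k, z, hz⟩
  · exact Set.disjoint_iff_forall_ne.1
      (TopologicalSpace.Opens.coe_disjoint.2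
        (disjoint_opensRange_sigmaι (fun k => (W k).left) k l hkl)) ⟨p, rfl⟩ ⟨p', rfl⟩ h

variable (S : ShortComplex (EtCoh.Ab X)) (hS : S.ShortExact)

include hS

theorem sections_surjective (h1 : IsAffAcyclic S.X₁) {V : X.Etale} [IsAffine V.left] :
    Function.Surjective (S.g.hom.app (op V)).hom := by
  intro z
  haveI : LocallySmall.{u + 1} X.Etale := ⟨fun _ _ => inferInstance⟩
  haveI := hS.mono_f
  haveI := hS.epi_g
  haveI : HasFiniteProducts (Over V) := hasFiniteProducts_of_has_binary_and_terminal
  have hloc : Presheaf.IsLocallySurjective X.smallEtaleTopology S.g.hom :=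
    (Sheaf.isLocallySurjective_iff_epi' AddCommGrpCat.{u + 1} S.g).2 inferInstance
  obtain ⟨n, W, T, g, i, hT, hg, hR, hi, hcov, hdisj⟩ :=
    exists_affine_refinement _ (hloc.imageSieve_mem (U := V) z)
  choose s hs using hR
  haveI := hi
  obtain ⟨t, ht⟩ := (bijective_sections_of_disjoint S.X₂ W i hcov hdisj).2 s
  have htg : S.g.hom.app (op T) t = S.X₃.obj.map g.op z := by
    refine (bijective_sections_of_disjoint S.X₃ W i hcov hdisj).1 (funext fun k => ?_)
    refine (NatTrans.naturality_apply S.g.hom (i k).op t).symm.trans ?_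
    refine (congrArg _ (congrFun ht k)).trans ((hs k).trans ?_)
    rw [op_comp, Functor.map_comp]
    rfl
  let Uf : PUnit.{u + 2} → Over V := fun _ => Over.mk g
  have hsheaf : ∀ F : EtCoh.Ab X, Presieve.IsSheafFor (F.obj ⋙ forget AddCommGrpCat.{u + 1})
      (Presieve.ofArrows (fun k => (Uf k).left) fun k => (Uf k).hom) := fun F =>
    isSheafFor_of_covers F _ _ fun x => by
      obtain ⟨y, hy⟩ := hg.1 x
      exact ⟨⟨⟩, y, hy⟩
  exact CechSurjGen.exists_lift_of_isZero_cechH_one (Uf := Uf) S.f.hom S.g.hom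
    (fun T => SiteBase.sheaf_app_injective S.f T.unop)
    (fun T y hy => (SiteBase.secExact_iff S T.unop).1 (hS.exact.map_of_mono_of_preservesKernel
      (sheafToPresheaf X.smallEtaleTopology AddCommGrpCat.{u + 1} ⋙
        (evaluation X.Etaleᵒᵖ AddCommGrpCat.{u + 1}).obj T) inferInstance inferInstance) y hy)
    (fun T x => congrArg (fun t : S.X₁ ⟶ S.X₃ => (t.hom.app T).hom x) S.zero)
    (h1 V (Over.mk g) inferInstance hT hg 0) (hsheaf _) (hsheaf _) z (fun _ => t) (fun _ => htg)

theorem isAffAcyclic_X₃ (h1 : IsAffAcyclic S.X₁) (h2 : IsAffAcyclic S.X₂) : IsAffAcyclic S.X₃ := by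
  intro U _ Y hU hY hs p
  haveI : LocallySmall.{u + 1} X.Etale := ⟨fun _ _ => inferInstance⟩
  haveI := hS.mono_f
  haveI := hS.epi_g
  exact CechSurjGen.isZero_cechH_quot S.f.hom S.g.hom
    (fun T => SiteBase.sheaf_app_injective S.f T.unop)
    (fun T y hy => (SiteBase.secExact_iff S T.unop).1 (hS.exact.map_of_mono_of_preservesKernel
      (sheafToPresheaf X.smallEtaleTopology AddCommGrpCat.{u + 1} ⋙
        (evaluation X.Etaleᵒᵖ AddCommGrpCat.{u + 1}).obj T) inferInstance inferInstance) y hy)
    (fun T x => congrArg (fun t : S.X₁ ⟶ S.X₃ => (t.hom.app T).hom x) S.zero) p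
    (h1 U Y hU hY hs (p + 1)) (h2 U Y hU hY hs p)
    (fun n i =>
      haveI := isAffine_prod (U := U) n (fun _ => Y) fun _ => hY
      sections_surjective S hS h1)

omit hS

/-- Cartan's criterion. -/
theorem subsingleton_H_of_isAffAcyclic [IsAffine X] (n : ℕ)
    (G : EtCoh.Ab X) (hG : IsAffAcyclic G) : Subsingleton (EtCoh.H X G (n + 1)) := by
  induction n generalizing G with
  | zero =>
    let S := ShortComplex.mk (Injective.ι G) (cokernel.π _) (cokernel.condition (Injective.ι G))
    have hS : S.ShortExact := { exact := ShortComplex.exact_of_g_is_cokernel _ (cokernelIsCokernel _) }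
    refine subsingleton_of_forall_eq 0 fun x => ?_
    obtain ⟨z, rfl⟩ := Ext.covariant_sequence_exact₁ _ hS x
      (haveI : Injective S.X₂ := inferInstanceAs (Injective (Injective.under G)); Ext.eq_zero_of_injective _)
      (rfl : 0 + 1 = 1)
    obtain ⟨φ, rfl⟩ := (Ext.mk₀_bijective _ _).2 z
    let adj := constantSheafAdj X.smallEtaleTopology AddCommGrpCat.{u + 1} (topIsTerminal X)
    haveI : IsAffine (EtCoh.top X).left := ‹IsAffine X›
    obtain ⟨a, ha⟩ := sections_surjective S hS hG (V := EtCoh.top X) (adj.homEquiv _ _ φ ⟨1⟩)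
    have hφ : (adj.homEquiv _ _).symm ((AddCommGrpCat.uliftZMultiplesAddEquiv _).symm a) ≫ S.g = φ := by
      apply (adj.homEquiv _ _).injective
      rw [Adjunction.homEquiv_naturality_right, Equiv.apply_symm_apply]
      apply (AddCommGrpCat.uliftZMultiplesAddEquiv _).injective
      refine Eq.trans ?_ ha
      exact congrArg (S.g.hom.app (op (EtCoh.top X))) ((AddCommGrpCat.uliftZMultiplesAddEquiv _).apply_symm_apply a)
    rw [← hφ, ← Ext.mk₀_comp_mk₀, Ext.comp_assoc_of_second_deg_zero, hS.comp_extClass, Ext.comp_zero]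
  | succ n ih =>
    let S := ShortComplex.mk (Injective.ι G) (cokernel.π _) (cokernel.condition (Injective.ι G))
    have hS : S.ShortExact := { exact := ShortComplex.exact_of_g_is_cokernel _ (cokernelIsCokernel _) }
    haveI hI : Injective S.X₂ := inferInstanceAs (Injective (Injective.under G))
    refine subsingleton_of_forall_eq 0 fun x => ?_
    obtain ⟨z, rfl⟩ := Ext.covariant_sequence_exact₁ _ hS x (Ext.eq_zero_of_injective _) (rfl : (n + 1) + 1 = _)
    haveI := ih S.X₃ (isAffAcyclic_X₃ S hS hG (isAffAcyclic_of_injective S.X₂))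
    rw [Subsingleton.elim z 0, Ext.zero_comp]

end Groth.Agent.EtLC12.AffineCartan
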