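import Groth.Prelude.Def_EtGm
import Groth.Agent.EtLC12.AffineCartan
import Groth.Agent.DescLib.AmitsurAll
import Mathlib.AlgebraicGeometry.Morphisms.Flat

/-!
# The additive group has no higher Čech cohomology on affine objects
-/

set_option autoImplicit false
set_option backward.isDefEq.respectTransparency false
set_option backward.isDefEq.respectTransparency.types false

universe u

open CategoryTheory CategoryTheory.Limits AlgebraicGeometry Opposite

namespace Groth.Agent.EtLC12.GaAmitsur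

open Groth.Agent.EtFound Groth.Agent.DescLib

variable {X : Scheme.{u}} {U : X.Etale}

/-- Global functions of an object over `U`, as an algebra over those of `U`. -/
noncomputable def Sec (Z : Over U) : CommAlgCat.{u} Γ(U.left, ⊤) :=
  letI : Algebra Γ(U.left, ⊤) Γ(Z.left.left, ⊤) := (Z.hom.left.appTop).hom.toAlgebra
  CommAlgCat.of Γ(U.left, ⊤) Γ(Z.left.left, ⊤)

lemma comp_appTop {Z Z' : Over U} (f : Z' ⟶ Z) :
    Z.hom.left.appTop ≫ f.left.left.appTop = Z'.hom.left.appTop := by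
  rw [← Scheme.Hom.comp_appTop]
  exact congrArg Scheme.Hom.appTop (congrArg (fun m => m.left) (Over.w f))

/-- Restriction of functions. -/
noncomputable def secMap {Z Z' : Over U} (f : Z' ⟶ Z) : Sec Z →ₐ[Γ(U.left, ⊤)] Sec Z' where
  toRingHom := f.left.left.appTop.hom
  commutes' r := congrArg (fun φ => φ.hom r) (comp_appTop f)

lemma secMap_comp {Z Z' Z'' : Over U} (f : Z' ⟶ Z) (g : Z'' ⟶ Z') (a : Sec Z) :
    secMap (g ≫ f) a = secMap g (secMap f a) :=
  congrArg (fun φ : Γ(Z.left.left, ⊤) ⟶ Γ(Z''.left.left, ⊤) => φ.hom a)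
    (Scheme.Hom.comp_appTop g.left.left f.left.left)

instance etale_sec [IsAffine U.left] (Y : Over U) [IsAffine Y.left.left] :
    Algebra.Etale Γ(U.left, ⊤) (Sec Y) := by
  haveI := etale_left Y.hom
  exact RingHom.etale_algebraMap.1
    ((HasRingHomProperty.iff_of_isAffine (P := @AlgebraicGeometry.Etale)).1 this)

variable [IsAffine U.left] (Y : Over U) [IsAffine Y.left.left] [HasFiniteProducts (Over U)]

instance etale_T (n : ℕ) : Algebra.Etale Γ(U.left, ⊤) (AmitsurAll.T Γ(U.left, ⊤) (Sec Y) n) := by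
  induction n with
  | zero => exact etale_sec Y
  | succ n ih =>
    show Algebra.Etale Γ(U.left, ⊤) (TensorProduct Γ(U.left, ⊤) (Sec Y) (AmitsurAll.T Γ(U.left, ⊤) (Sec Y) n))
    exact Algebra.Etale.comp _ (Sec Y) _

/-- The functions on a power of `Y` receive the tensor power. -/
noncomputable def Φ (n : ℕ) : AmitsurAll.T Γ(U.left, ⊤) (Sec Y) n →ₐ[Γ(U.left, ⊤)]
    Sec (∏ᶜ fun _ : Fin (n + 1) => Y) :=
  AmitsurAll.lift fun k => secMap (Pi.π (fun _ : Fin (n + 1) => Y) k)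

lemma Φ_incl (n : ℕ) (k : Fin (n + 1)) (a : Sec Y) :
    Φ Y n (AmitsurAll.incl _ _ n k a) = secMap (Pi.π (fun _ : Fin (n + 1) => Y) k) a :=
  AmitsurAll.lift_incl _ _ _

/-- `Spec` of the tensor power, as an object over `U`. -/
noncomputable def Q (n : ℕ) : Over U :=
  haveI : AlgebraicGeometry.Etale (Spec.map (CommRingCat.ofHom
      (algebraMap Γ(U.left, ⊤) (AmitsurAll.T Γ(U.left, ⊤) (Sec Y) n))) ≫ U.left.isoSpec.inv) := by
    haveI : AlgebraicGeometry.Etale (Spec.map (CommRingCat.ofHom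
        (algebraMap Γ(U.left, ⊤) (AmitsurAll.T Γ(U.left, ⊤) (Sec Y) n)))) :=
      (HasRingHomProperty.Spec_iff (P := @AlgebraicGeometry.Etale)).2 (RingHom.etale_algebraMap.2 inferInstance)
    infer_instance
  haveI : AlgebraicGeometry.Etale U.hom := U.prop
  Over.mk (Y := Scheme.Etale.mk ((Spec.map (CommRingCat.ofHom
      (algebraMap Γ(U.left, ⊤) (AmitsurAll.T Γ(U.left, ⊤) (Sec Y) n))) ≫ U.left.isoSpec.inv) ≫ U.hom))
    (MorphismProperty.Over.homMk (Spec.map (CommRingCat.ofHom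
      (algebraMap Γ(U.left, ⊤) (AmitsurAll.T Γ(U.left, ⊤) (Sec Y) n))) ≫ U.left.isoSpec.inv) rfl trivial)

/-- The projections of `Q`. -/
noncomputable def qπ (n : ℕ) (k : Fin (n + 1)) : Q Y n ⟶ Y :=
  Over.homMk (MorphismProperty.Over.homMk
    (Spec.map (CommRingCat.ofHom (AmitsurAll.incl Γ(U.left, ⊤) (Sec Y) n k).toRingHom) ≫
      Y.left.left.isoSpec.inv)
    (by
      have h : CommRingCat.ofHom (algebraMap Γ(U.left, ⊤) (Sec Y)) ≫
          CommRingCat.ofHom (AmitsurAll.incl Γ(U.left, ⊤) (Sec Y) n k).toRingHom =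
          CommRingCat.ofHom (algebraMap Γ(U.left, ⊤) (AmitsurAll.T Γ(U.left, ⊤) (Sec Y) n)) :=
        CommRingCat.hom_ext (RingHom.ext fun r => AlgHom.commutes _ r)
      show (_ ≫ _) ≫ Y.left.hom = (_ ≫ _) ≫ U.hom
      rw [← MorphismProperty.Over.w Y.hom, ← h, Spec.map_comp]
      simp only [Category.assoc]
      rw [← Category.assoc Y.left.left.isoSpec.inv, ← Scheme.isoSpec_inv_naturality, Category.assoc]
      rfl) trivial)
    (MorphismProperty.Over.Hom.ext (by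
      show (_ ≫ _) ≫ Y.hom.left = _ ≫ _
      rw [Category.assoc, ← Scheme.isoSpec_inv_naturality, ← Category.assoc, ← Spec.map_comp]
      congr 2
      exact CommRingCat.hom_ext (RingHom.ext fun r => AlgHom.commutes _ r)))

omit [IsAffine U.left] in
lemma isoSpec_inv_appTop (V : Scheme.{u}) [IsAffine V] :
    V.isoSpec.inv.appTop = (Scheme.ΓSpecIso Γ(V, ⊤)).inv := by
  have h : (Scheme.ΓSpecIso Γ(V, ⊤)).hom = V.isoSpec.hom.appTop := (Scheme.toSpecΓ_appTop V).symm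
  haveI : IsIso V.isoSpec.hom.appTop := by rw [← h]; infer_instance
  rw [← cancel_mono V.isoSpec.hom.appTop, ← Scheme.Hom.comp_appTop, Iso.hom_inv_id, Scheme.Hom.id_appTop, ← h,
    Iso.inv_hom_id]

/-- Functions on `Q`. -/
noncomputable def qSec (n : ℕ) : Sec (Q Y n) →ₐ[Γ(U.left, ⊤)] AmitsurAll.T Γ(U.left, ⊤) (Sec Y) n where
  toRingHom := (Scheme.ΓSpecIso (CommRingCat.of (AmitsurAll.T Γ(U.left, ⊤) (Sec Y) n))).hom.hom
  commutes' r := by
    have h : (Spec.map (CommRingCat.ofHom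
        (algebraMap Γ(U.left, ⊤) (AmitsurAll.T Γ(U.left, ⊤) (Sec Y) n))) ≫ U.left.isoSpec.inv).appTop ≫
          (Scheme.ΓSpecIso _).hom =
        CommRingCat.ofHom (algebraMap Γ(U.left, ⊤) (AmitsurAll.T Γ(U.left, ⊤) (Sec Y) n)) := by
      rw [Scheme.Hom.comp_appTop, Category.assoc, Scheme.ΓSpecIso_naturality, isoSpec_inv_appTop]
      exact (Scheme.ΓSpecIso Γ(U.left, ⊤)).inv_hom_id_assoc _
    exact congrArg (fun φ => φ.hom r) h

/-- The comparison `Q ⟶ Yⁿ⁺¹`. -/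
noncomputable def σ (n : ℕ) : Q Y n ⟶ ∏ᶜ fun _ : Fin (n + 1) => Y := Pi.lift (qπ Y n)

lemma qSec_qπ (n : ℕ) (k : Fin (n + 1)) (a : Sec Y) :
    qSec Y n (secMap (qπ Y n k) a) = AmitsurAll.incl _ _ n k a := by
  have h : (Spec.map (CommRingCat.ofHom (AmitsurAll.incl Γ(U.left, ⊤) (Sec Y) n k).toRingHom) ≫
      Y.left.left.isoSpec.inv).appTop ≫ (Scheme.ΓSpecIso _).hom =
      CommRingCat.ofHom (AmitsurAll.incl Γ(U.left, ⊤) (Sec Y) n k).toRingHom := by
    rw [Scheme.Hom.comp_appTop, Category.assoc, Scheme.ΓSpecIso_naturality, isoSpec_inv_appTop]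
    exact (Scheme.ΓSpecIso Γ(Y.left.left, ⊤)).inv_hom_id_assoc _
  exact congrArg (fun φ => φ.hom a) h

lemma left_inv (n : ℕ) (t : AmitsurAll.T Γ(U.left, ⊤) (Sec Y) n) :
    qSec Y n (secMap (σ Y n) (Φ Y n t)) = t := by
  refine DFunLike.congr_fun (f := ((qSec Y n).comp (secMap (σ Y n))).comp (Φ Y n)) (g := AlgHom.id _ _)
    (AmitsurAll.hom_ext fun k a => ?_) t
  show qSec Y n (secMap (σ Y n) (Φ Y n _)) = _
  rw [Φ_incl, ← secMap_comp, σ, Pi.lift_π, qSec_qπ]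
  rfl

/-- The comparison `Yⁿ⁺¹ ⟶ Q`. -/
noncomputable def τ (n : ℕ) : (∏ᶜ fun _ : Fin (n + 1) => Y) ⟶ Q Y n :=
  let P := ∏ᶜ fun _ : Fin (n + 1) => Y
  have h : (P.left.left.toSpecΓ ≫ Spec.map (CommRingCat.ofHom (Φ Y n).toRingHom)) ≫
      (Spec.map (CommRingCat.ofHom
        (algebraMap Γ(U.left, ⊤) (AmitsurAll.T Γ(U.left, ⊤) (Sec Y) n))) ≫ U.left.isoSpec.inv) =
      P.hom.left := by
    have h0 : CommRingCat.ofHom (algebraMap Γ(U.left, ⊤) (AmitsurAll.T Γ(U.left, ⊤) (Sec Y) n)) ≫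
        CommRingCat.ofHom (Φ Y n).toRingHom = P.hom.left.appTop :=
      CommRingCat.hom_ext (RingHom.ext fun r => AlgHom.commutes _ r)
    rw [Category.assoc, ← Category.assoc (Spec.map _), ← Spec.map_comp, h0,
      ← Scheme.toSpecΓ_naturality_assoc]
    simp
  Over.homMk (MorphismProperty.Over.homMk
    (P.left.left.toSpecΓ ≫ Spec.map (CommRingCat.ofHom (Φ Y n).toRingHom))
    (by
      show _ ≫ ((_ ≫ _) ≫ U.hom) = P.left.hom
      rw [← Category.assoc, h]
      exact MorphismProperty.Over.w P.hom) trivial)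
    (MorphismProperty.Over.Hom.ext h)

lemma τ_σ (n : ℕ) : τ Y n ≫ σ Y n = 𝟙 _ := by
  refine Pi.hom_ext _ _ fun k => ?_
  rw [Category.assoc, σ, Pi.lift_π, Category.id_comp]
  refine Over.OverMorphism.ext (MorphismProperty.Over.Hom.ext ?_)
  show ((∏ᶜ fun _ : Fin (n + 1) => Y).left.left.toSpecΓ ≫ Spec.map (CommRingCat.ofHom (Φ Y n).toRingHom)) ≫
    (Spec.map (CommRingCat.ofHom (AmitsurAll.incl Γ(U.left, ⊤) (Sec Y) n k).toRingHom) ≫
      Y.left.left.isoSpec.inv) = _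
  have h0 : CommRingCat.ofHom (AmitsurAll.incl Γ(U.left, ⊤) (Sec Y) n k).toRingHom ≫
      CommRingCat.ofHom (Φ Y n).toRingHom = (Pi.π (fun _ : Fin (n + 1) => Y) k).left.left.appTop :=
    CommRingCat.hom_ext (RingHom.ext fun a => Φ_incl Y n k a)
  rw [Category.assoc, ← Category.assoc (Spec.map _), ← Spec.map_comp, h0,
    ← Scheme.toSpecΓ_naturality_assoc]
  simp

lemma right_inv (n : ℕ) (z : Sec (∏ᶜ fun _ : Fin (n + 1) => Y)) :
    Φ Y n (qSec Y n (secMap (σ Y n) z)) = z := by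
  have h : (τ Y n).left.left.appTop =
      (Scheme.ΓSpecIso _).hom ≫ CommRingCat.ofHom (Φ Y n).toRingHom := by
    show (_ ≫ Spec.map _).appTop = _
    rw [Scheme.Hom.comp_appTop, Scheme.toSpecΓ_appTop, Scheme.ΓSpecIso_naturality]
  refine (congrArg (fun φ => φ.hom (secMap (σ Y n) z)) h).symm.trans ?_
  refine (secMap_comp (σ Y n) (τ Y n) z).symm.trans ?_
  rw [τ_σ]
  exact congrArg (fun φ : Γ((∏ᶜ fun _ : Fin (n + 1) => Y).left.left, ⊤) ⟶ _ => φ.hom z) Scheme.Hom.id_appTop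

/-- The transition map of the Čech complex. -/
noncomputable abbrev tm (n : ℕ) (j : Fin (n + 2)) :
    (∏ᶜ fun _ : Fin (n + 2) => Y) ⟶ ∏ᶜ fun _ : Fin (n + 1) => Y :=
  Pi.lift fun k => Pi.π (fun _ : Fin (n + 2) => Y) (j.succAbove k)

lemma Φ_face (n : ℕ) (j : Fin (n + 2)) (t : AmitsurAll.T Γ(U.left, ⊤) (Sec Y) n) :
    Φ Y (n + 1) (AmitsurAll.face _ _ n j t) = secMap (tm Y n j) (Φ Y n t) := by
  refine DFunLike.congr_fun (f := (Φ Y (n + 1)).comp (AmitsurAll.face _ _ n j))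
    (g := (secMap (tm Y n j)).comp (Φ Y n)) (AmitsurAll.hom_ext fun k a => ?_) t
  show Φ Y (n + 1) (AmitsurAll.face _ _ n j _) = secMap (tm Y n j) (Φ Y n _)
  rw [AmitsurAll.face, AmitsurAll.lift_incl, Φ_incl, Φ_incl, ← secMap_comp, tm, Pi.lift_π]

lemma Φ_D (n : ℕ) (t : AmitsurAll.T Γ(U.left, ⊤) (Sec Y) n) :
    Φ Y (n + 1) (AmitsurAll.D _ _ n t) =
      ∑ j : Fin (n + 2), (-1 : ℤ) ^ (j : ℕ) • secMap (tm Y n j) (Φ Y n t) := by
  rw [AmitsurAll.D, LinearMap.sum_apply, map_sum]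
  refine Finset.sum_congr rfl fun j _ => ?_
  rw [LinearMap.smul_apply, map_zsmul, AlgHom.toLinearMap_apply, Φ_face]

omit [IsAffine U.left] [IsAffine Y.left.left] in
lemma down_sum {n : ℕ} (f : Fin n → (EtCoh.Ga X).obj.obj (op (U : X.Etale))) :
    (∑ j, f j).down = ∑ j, (f j).down :=
  map_sum (AddEquiv.ulift.{u, u + 1} (α := Γ(U.left, ⊤))).toAddMonoidHom f Finset.univ

variable (U) in
omit [HasFiniteProducts (Over U)] in
lemma faithfullyFlat_sec [Surjective Y.hom.left] : Module.FaithfullyFlat Γ(U.left, ⊤) (Sec Y) := by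
  haveI := etale_left Y.hom
  exact RingHom.faithfullyFlat_algebraMap_iff.1
    ((Flat.flat_and_surjective_iff_faithfullyFlat_of_isAffine Y.hom.left).1 ⟨inferInstance, inferInstance⟩)

end Groth.Agent.EtLC12.GaAmitsur

namespace Groth.Agent.EtLC12.GaAmitsur

open Groth.Agent.EtFound Groth.Agent.DescLib

theorem isAffAcyclic_Ga (X : Scheme.{u}) : AffineCartan.IsAffAcyclic (EtCoh.Ga X) := by
  intro U _ Y hU hY hs p
  haveI := hs
  haveI := faithfullyFlat_sec U Y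
  refine (HomologicalComplex.exactAt_iff_isZero_homology _ _).1 ?_
  rw [HomologicalComplex.exactAt_iff' _ p (p + 1) (p + 2) (by simp) (by simp), ShortComplex.ab_exact_iff]
  intro (x : (EtCech.cechComplex (fun _ : PUnit.{u + 2} => Y) (EtCoh.Ga X).obj).X (p + 1))
    (hx : ((EtCech.cechComplex (fun _ : PUnit.{u + 2} => Y) (EtCoh.Ga X).obj).d (p + 1) (p + 2)).hom x = 0)
  haveI : LocallySmall.{u + 1} X.Etale := ⟨fun _ _ => inferInstance⟩
  let v : Sec (∏ᶜ fun _ : Fin (p + 2) => Y) :=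
    (CechInjGen.cev (fun _ : PUnit.{u + 2} => Y) (EtCoh.Ga X).obj (p + 1) (fun _ => ⟨⟩) x).down
  let y := qSec Y (p + 1) (secMap (σ Y (p + 1)) v)
  have hy : Φ Y (p + 1) y = v := right_inv Y (p + 1) v
  have hD : AmitsurAll.D _ _ (p + 1) y = 0 := by
    refine ((left_inv Y (p + 2) _).symm.trans ?_).trans
      (show qSec Y (p + 2) (secMap (σ Y (p + 2)) 0) = 0 by rw [map_zero, map_zero])
    refine congrArg (fun z => qSec Y (p + 2) (secMap (σ Y (p + 2)) z)) ?_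
    rw [Φ_D, hy]
    refine Eq.trans ?_ (congrArg ULift.down ((congrArg (CechInjGen.cev (fun _ : PUnit.{u + 2} => Y)
      (EtCoh.Ga X).obj (p + 2) (fun _ => ⟨⟩)) hx).trans (map_zero _)))
    rw [CechInjGen.cev_d]
    exact (down_sum (U := (∏ᶜ fun _ : Fin (p + 3) => Y).left) _).symm
  obtain ⟨w, hw⟩ := AmitsurAll.exact_D p y hD
  obtain ⟨z, hz⟩ := CechInjGen.exists_cev (fun _ : PUnit.{u + 2} => Y) (EtCoh.Ga X).obj (n := p)
    fun _ => ULift.up (Φ Y p w)
  refine ⟨z, CechInjGen.cev_ext _ _ fun i => ?_⟩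
  refine (CechInjGen.cev_d _ _ p i z).trans (ULift.down_injective ?_)
  refine (down_sum (U := (∏ᶜ fun _ : Fin (p + 2) => Y).left) _).trans ?_
  refine Eq.trans ?_ ((congrArg (Φ Y (p + 1)) hw).trans hy)
  rw [Φ_D]
  refine Finset.sum_congr rfl fun j _ => ?_
  rw [hz]
  rfl

end Groth.Agent.EtLC12.GaAmitsur
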