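import Groth.Agent.Adeq2Lib.ZarCompare
import Mathlib.CategoryTheory.Preadditive.Injective.Basic

/-!
# Comparison of sheaf cohomology on two sites by dimension shifting
-/

set_option autoImplicit false

universe w₁' w₂' w₁ w₂ v₁ v₂ u₁ u₂

open CategoryTheory Limits Opposite Abelian

namespace Groth.Agent.EtLC12.HCompare

open Groth.Agent.Adeq2Lib

variable {C₁ : Type u₁} [Category.{v₁} C₁] {J₁ : GrothendieckTopology C₁}
  [HasSheafify J₁ AddCommGrpCat.{w₁}] [HasExt.{w₁'} (Sheaf J₁ AddCommGrpCat.{w₁})]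
  [EnoughInjectives (Sheaf J₁ AddCommGrpCat.{w₁})]
  {C₂ : Type u₂} [Category.{v₂} C₂] {J₂ : GrothendieckTopology C₂}
  [HasSheafify J₂ AddCommGrpCat.{w₂}] [HasExt.{w₂'} (Sheaf J₂ AddCommGrpCat.{w₂})]

/-- A functor matching global sections, exact on the injective presentations of the class `P` and sending
injectives to acyclic sheaves, respects the cohomology of the class. -/
theorem nonempty_H_addEquiv {T₁ : C₁} (hT₁ : IsTerminal T₁) {T₂ : C₂} (hT₂ : IsTerminal T₂)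
    (Φ : Sheaf J₁ AddCommGrpCat.{w₁} ⥤ Sheaf J₂ AddCommGrpCat.{w₂}) [Φ.PreservesZeroMorphisms]
    (sec : ∀ G : Sheaf J₁ AddCommGrpCat.{w₁}, G.obj.obj (op T₁) ≃+ (Φ.obj G).obj.obj (op T₂))
    (hsec : ∀ {G G' : Sheaf J₁ AddCommGrpCat.{w₁}} (f : G ⟶ G') (x : G.obj.obj (op T₁)),
      ((Φ.map f).hom.app (op T₂)).hom (sec G x) = sec G' ((f.hom.app (op T₁)).hom x))
    (P : Sheaf J₁ AddCommGrpCat.{w₁} → Prop)
    (hP : ∀ E : ShortComplex (Sheaf J₁ AddCommGrpCat.{w₁}), E.ShortExact → Injective E.X₂ → P E.X₁ → P E.X₃)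
    (hex : ∀ E : ShortComplex (Sheaf J₁ AddCommGrpCat.{w₁}), E.ShortExact → Injective E.X₂ → P E.X₁ →
      (E.map Φ).ShortExact)
    (hinj : ∀ I : Sheaf J₁ AddCommGrpCat.{w₁}, Injective I → ∀ k, Subsingleton (Sheaf.H (Φ.obj I) (k + 1)))
    (n : ℕ) : ∀ G, P G → Nonempty (Sheaf.H G n ≃+ Sheaf.H (Φ.obj G) n) := by
  induction n with
  | zero => exact fun G _ => ⟨((Sheaf.H.equiv₀ G hT₁).trans (sec G)).trans (Sheaf.H.equiv₀ _ hT₂).symm⟩
  | succ m ih =>
    intro G hG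
    let Q := Classical.arbitrary (InjectivePresentation G)
    have hE := Q.shortExact_shortComplex
    haveI hI : Injective Q.shortComplex.X₂ := Q.injective
    have hE' := hex _ hE hI hG
    haveI : ∀ k, Subsingleton (Sheaf.H Q.shortComplex.X₂ (k + 1)) := fun k =>
      subsingleton_of_forall_eq 0 fun x => Ext.eq_zero_of_injective x
    haveI : ∀ k, Subsingleton (Sheaf.H (Q.shortComplex.map Φ).X₂ (k + 1)) := hinj _ hI
    cases m with
    | zero =>
      obtain ⟨φ, hφ, hk⟩ := ZarCmp.h1_pres hT₁ _ hE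
      obtain ⟨φ', hφ', hk'⟩ := ZarCmp.h1_pres hT₂ _ hE'
      refine ZarCmp.quot_congr φ hφ φ' hφ' (sec Q.shortComplex.X₃) fun y => (hk y).trans (Iff.trans ⟨?_, ?_⟩ (hk' _).symm)
      · rintro ⟨x, rfl⟩
        exact ⟨sec Q.shortComplex.X₂ x, hsec _ _⟩
      · rintro ⟨x, hx⟩
        refine ⟨(sec Q.shortComplex.X₂).symm x, (sec Q.shortComplex.X₃).injective ?_⟩
        refine (hsec _ _).symm.trans ?_
        rw [AddEquiv.apply_symm_apply]
        exact hx
    | succ k =>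
      obtain ⟨e₁⟩ := ZarCmp.shift _ hE k
      obtain ⟨e₂⟩ := ZarCmp.shift _ hE' k
      obtain ⟨e₃⟩ := ih _ (hP _ hE hI hG)
      exact ⟨(e₁.symm.trans e₃).trans e₂⟩

end Groth.Agent.EtLC12.HCompare
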