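import Groth.Agent.EtLC12.AffineCartan
import Groth.Agent.EtLC12.HCompare
import Groth.Agent.EtFound.OpenSubterminal
import Groth.Agent.SiteBase.Horseshoe

/-!
# Étale and Zariski cohomology of sheaves without affine Čech cohomology
-/

set_option autoImplicit false
set_option backward.isDefEq.respectTransparency false
set_option backward.isDefEq.respectTransparency.types false

universe w v u

open CategoryTheory CategoryTheory.Limits AlgebraicGeometry Opposite TopologicalSpace

namespace Groth.Agent.EtLC12.EtZarCompare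

open Groth.Agent.EtFound Groth.Agent.Adeq2Lib AffineCartan

variable {X : Scheme.{u}}

/-- Opens to étale schemes is continuous. -/
theorem zarCont (X : Scheme.{u}) : EtZar.ZarCont X := by
  refine Functor.isContinuous_of_coverPreserving ⟨fun ℱ {Z T x} hx {Y₁ Y₂ W} f₁ f₂ {g₁ g₂} h₁ h₂ _ => ?_⟩
    ⟨fun {U S} hS => (mem_topology_iff _).2 fun (y : U.toScheme) => ?_⟩
  · obtain ⟨k⟩ := (nonempty_hom_ofOpen_iff (Y₁ ⊓ Y₂) W).2 fun w =>
      ⟨(nonempty_hom_ofOpen_iff Y₁ W).1 ⟨f₁⟩ w, (nonempty_hom_ofOpen_iff Y₂ W).1 ⟨f₂⟩ w⟩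
    let k' : W ⟶ (EtZar.zarToEt X).obj (Y₁ ⊓ Y₂) := k
    have e₁ : f₁ = k' ≫ (EtZar.zarToEt X).map (homOfLE inf_le_left) :=
      @Subsingleton.elim _ (subsingleton_hom_ofOpen Y₁ W) _ _
    have e₂ : f₂ = k' ≫ (EtZar.zarToEt X).map (homOfLE inf_le_right) :=
      @Subsingleton.elim _ (subsingleton_hom_ofOpen Y₂ W) _ _
    rw [e₁, e₂, op_comp, op_comp, Functor.map_comp, Functor.map_comp]
    exact congrArg (ℱ.obj.map k'.op) (hx (homOfLE inf_le_left) (homOfLE inf_le_right) h₁ h₂ rfl)
  · obtain ⟨y, hy⟩ := y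
    obtain ⟨V, i, hi, hyV⟩ := hS y hy
    exact ⟨(EtZar.zarToEt X).obj V, (EtZar.zarToEt X).map i, ⟨y, hyV⟩,
      ⟨V, i, 𝟙 _, hi, (Category.id_comp _).symm⟩, Subtype.ext (Scheme.homOfLE_apply (leOfHom i) _)⟩

section Injective

variable {C : Type w} [Category.{v} C]

/-- Injective presheaves have surjective restrictions along monomorphisms. -/
theorem surjective_map_of_mono (P : Cᵒᵖ ⥤ AddCommGrpCat.{max w v}) [Injective P] {U V : C} (m : U ⟶ V)
    [Mono m] : Function.Surjective (P.map m.op).hom := by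
  classical
  let Q : Cᵒᵖ ⥤ AddCommGrpCat.{max w v} :=
    { obj := fun U => AddCommGrpCat.of (∀ W : C, (W ⟶ U.unop) → P.obj (op W))
      map := fun f => AddCommGrpCat.ofHom
        { toFun := fun x W h => x W (h ≫ f.unop)
          map_zero' := rfl
          map_add' := fun _ _ => rfl }
      map_id := fun U => AddCommGrpCat.hom_ext <| AddMonoidHom.ext fun x => funext₂ fun W h =>
        congrArg (x W) (Category.comp_id h)
      map_comp := fun f g => AddCommGrpCat.hom_ext <| AddMonoidHom.ext fun x => funext₂ fun W h =>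
        congrArg (x W) (Category.assoc h _ _).symm }
  let j : P ⟶ Q :=
    { app := fun U => AddCommGrpCat.ofHom
        { toFun := fun s W h => (P.map h.op).hom s
          map_zero' := by funext W h; exact map_zero _
          map_add' := fun _ _ => by funext W h; exact map_add _ _ _ }
      naturality := fun U V f => AddCommGrpCat.hom_ext <| AddMonoidHom.ext fun s => funext fun W => funext fun h =>
        congrArg (fun t => t.hom s) (P.map_comp f h.op).symm }
  haveI : Mono j := by
    have : ∀ U, Mono (j.app U) := fun U => (AddCommGrpCat.mono_iff_injective _).2 fun s s' hs => by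
      have h : (P.map (𝟙 U.unop).op).hom s = (P.map (𝟙 U.unop).op).hom s' := congrFun (congrFun hs U.unop) (𝟙 _)
      rwa [op_id, CategoryTheory.Functor.map_id] at h
    exact NatTrans.mono_of_mono_app _
  let ρ := Injective.factorThru (𝟙 P) j
  intro x
  let y : Q.obj (op V) := fun W h => if hk : ∃ k : W ⟶ U, k ≫ m = h then (P.map hk.choose.op).hom x else 0
  refine ⟨(ρ.app (op V)).hom y, ?_⟩
  refine (ConcreteCategory.congr_hom (ρ.naturality m.op) y).symm.trans ?_
  have hy : (Q.map m.op).hom y = (j.app (op U)).hom x := funext₂ fun W k => by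
    have hk : ∃ k' : W ⟶ U, k' ≫ m = k ≫ m := ⟨k, rfl⟩
    show (if hk : ∃ k' : W ⟶ U, k' ≫ m = k ≫ m then (P.map hk.choose.op).hom x else 0) = (P.map k.op).hom x
    rw [dif_pos hk, (cancel_mono m).1 hk.choose_spec]
  refine (congrArg (ρ.app (op U)).hom hy).trans ?_
  exact ConcreteCategory.congr_hom (congrArg (fun α => NatTrans.app α (op U)) (Injective.comp_factorThru (𝟙 P) j)) x

end Injective

variable [EtZar.ZarCont X]

theorem flq_resZar_injective (I : EtCoh.Ab X) [Injective I] : ZarFl.Flq ((EtZar.resZar X).obj I) := fun V U h => by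
  haveI : Mono ((EtZar.zarToEt X).map (homOfLE h)) := ⟨fun a b _ => @Subsingleton.elim _ (subsingleton_hom_ofOpen V _) a b⟩
  haveI : Injective I.obj :=
    Injective.injective_of_adjoint (sheafificationAdjunction X.smallEtaleTopology AddCommGrpCat.{u + 1}) I
  exact surjective_map_of_mono I.obj ((EtZar.zarToEt X).map (homOfLE h))

instance additive_resZar : (EtZar.resZar X).Additive := ⟨fun {_ _ _ _} => rfl⟩

instance preservesFiniteLimits_resZar : PreservesFiniteLimits (EtZar.resZar X) := by
  haveI : PreservesFiniteLimits (EtZar.resZar X ⋙ sheafToPresheaf (Opens.grothendieckTopology X) AddCommGrpCat.{u + 1}) :=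
    inferInstanceAs (PreservesFiniteLimits (sheafToPresheaf X.smallEtaleTopology AddCommGrpCat.{u + 1} ⋙
      (Functor.whiskeringLeft _ _ _).obj (EtZar.zarToEt X).op))
  exact preservesFiniteLimits_of_reflects_of_preserves _ (sheafToPresheaf (Opens.grothendieckTopology X) AddCommGrpCat.{u + 1})

theorem shortExact_resZar (E : ShortComplex (EtCoh.Ab X)) (hE : E.ShortExact) (h1 : IsAffAcyclic E.X₁) :
    (E.map (EtZar.resZar X)).ShortExact := by
  haveI := hE.mono_f
  haveI hm : Mono ((EtZar.resZar X).map E.f) := inferInstance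
  have hepi : Epi ((EtZar.resZar X).map E.g) := by
    refine ⟨fun {H} p q hpq => ?_⟩
    ext U s
    refine ZarFl.eq_of_coverZ H (I := { V : X.affineOpens // V.1 ≤ U.unop }) (fun V => V.1.1) (fun V => V.2) (fun x hx => ?_) _ _ fun V => ?_
    · obtain ⟨W, hW, hxW, hWU⟩ := (Opens.isBasis_iff_nbhd.1 X.isBasis_affineOpens) hx
      exact ⟨⟨⟨W, hW⟩, hWU⟩, hxW⟩
    · rw [← ZarFl.rz_nat, ← ZarFl.rz_nat]
      haveI : IsAffine ((EtZar.zarToEt X).obj V.1.1).left := V.1.2
      obtain ⟨t, ht⟩ := sections_surjective E hE h1 (V := (EtZar.zarToEt X).obj V.1.1)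
        (ZarFl.rz ((EtZar.resZar X).obj E.X₃) V.2 s)
      rw [← ht]
      exact ConcreteCategory.congr_hom (congrArg (fun α : (EtZar.resZar X).obj E.X₂ ⟶ H => α.hom.app (op V.1.1)) hpq) t
  exact { exact := hE.exact.map_of_mono_of_preservesKernel _ hE.mono_f inferInstance
          mono_f := hm
          epi_g := hepi }

/-- The global open is the final étale scheme. -/
noncomputable def topIso : (EtZar.zarToEt X).obj ⊤ ≅ EtCoh.top X :=
  MorphismProperty.Over.isoMk X.topIso (Category.comp_id _)

/-- Étale cohomology is Zariski cohomology for sheaves without affine Čech cohomology. -/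
theorem nonempty_H_addEquiv (G : EtCoh.Ab X) (hG : IsAffAcyclic G) (n : ℕ) :
    Nonempty (EtCoh.H X G n ≃+ EtZar.H ((EtZar.resZar X).obj G) n) :=
  HCompare.nonempty_H_addEquiv (topIsTerminal X) (T₂ := (⊤ : X.Opens)) (IsTerminal.ofUnique _) (EtZar.resZar X)
    (fun G => (G.obj.mapIso (topIso (X := X)).op).addCommGroupIsoToAddEquiv)
    (fun f x => (NatTrans.naturality_apply f.hom (topIso (X := X)).op.hom x))
    IsAffAcyclic (fun E hE hI h1 => isAffAcyclic_X₃ E hE h1 (isAffAcyclic_of_injective E.X₂))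
    (fun E hE _ h1 => shortExact_resZar E hE h1)
    (fun I hI k => haveI := hI; ZarFl.subsingleton_H_of_flq k _ (flq_resZar_injective I)) n G hG

/-- `R^q` of the restriction to the Zariski site vanishes on sheaves without affine Čech cohomology. -/
theorem isZero_rightDerived_resZar (q : ℕ) : ∀ (G : EtCoh.Ab X), IsAffAcyclic G →
    IsZero (((EtZar.resZar X).rightDerived (q + 1)).obj G) := by
  let L := SESResLib.derivedLES (EtZar.resZar X)
  induction q with
  | zero =>
    intro G hG
    let Q := Classical.arbitrary (InjectivePresentation G)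
    have hE := Q.shortExact_shortComplex
    haveI : Injective Q.shortComplex.X₂ := Q.injective
    haveI he : Epi ((EtZar.resZar X).map Q.shortComplex.g) := (shortExact_resZar _ hE hG).epi_g
    haveI : Epi (((EtZar.resZar X).rightDerived 0).map Q.shortComplex.g) :=
      ((MorphismProperty.epimorphisms _).arrow_mk_iso_iff
        (Arrow.isoMk ((EtZar.resZar X).rightDerivedZeroIsoSelf.app _) ((EtZar.resZar X).rightDerivedZeroIsoSelf.app _)
          ((EtZar.resZar X).rightDerivedZeroIsoSelf.hom.naturality Q.shortComplex.g).symm)).2 he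
    haveI : Epi (L.δ _ hE 0 1 rfl) :=
      (L.exact₁ _ hE 0 1 rfl).epi_f (((EtZar.resZar X).isZero_rightDerived_obj_injective_succ 0 _).eq_of_tgt _ _)
    exact IsZero.of_epi_eq_zero (L.δ _ hE 0 1 rfl) (zero_of_epi_comp _ (L.comp_δ _ hE 0 1 rfl))
  | succ q ih =>
    intro G hG
    let Q := Classical.arbitrary (InjectivePresentation G)
    have hE := Q.shortExact_shortComplex
    haveI : Injective Q.shortComplex.X₂ := Q.injective
    haveI : Epi (L.δ _ hE (q + 1) (q + 2) rfl) :=
      (L.exact₁ _ hE (q + 1) (q + 2) rfl).epi_f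
        (((EtZar.resZar X).isZero_rightDerived_obj_injective_succ (q + 1) _).eq_of_tgt _ _)
    exact IsZero.of_epi_eq_zero (L.δ _ hE (q + 1) (q + 2) rfl)
      ((ih _ (isAffAcyclic_X₃ _ hE hG (isAffAcyclic_of_injective _))).eq_of_src _ _)

end Groth.Agent.EtLC12.EtZarCompare
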