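import Groth.Prelude.Def_W4c5etcohweilstudentAS
import Groth.Agent.S18415
import Groth.Agent.EtFound.Detect
import Groth.Agent.EtFound.ConstStalk
import Groth.Agent.EtFound.Germ
import Groth.Agent.SiteBase.AbSecExact
import Mathlib.FieldTheory.Finite.Basic

/-!
# The kernel of `F - 1` on `G_a` is the constant sheaf `ℤ/p`
-/

set_option autoImplicit false
set_option backward.isDefEq.respectTransparency false
set_option backward.isDefEq.respectTransparency.types false

universe u

open CategoryTheory CategoryTheory.Limits AlgebraicGeometry Opposite W4c5etcohweilstudent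

namespace Groth.Agent.EtLC12.ArtinSchreier

open Groth.Agent.EtFound

variable (p : ℕ) [Fact p.Prime]

/-- The prime field map. -/
noncomputable def φ (R : Type u) [CommRing R] (h0 : (p : R) = 0) : ZMod p →+* R :=
  letI := ringChar.charP R
  ZMod.castHom ((ringChar.spec R p).1 h0) R

lemma map_φ {R S : Type u} [CommRing R] [CommRing S] (g : R →+* S) (hR : (p : R) = 0) (hS : (p : S) = 0)
    (i : ZMod p) : g (φ p R hR i) = φ p S hS i :=
  DFunLike.congr_fun (RingHom.ext_zmod (g.comp (φ p R hR)) (φ p S hS)) i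

lemma φ_pow {R : Type u} [CommRing R] (h0 : (p : R) = 0) (i : ZMod p) : φ p R h0 i ^ p = φ p R h0 i := by
  rw [← map_pow, ZMod.pow_card]

lemma exists_eq_φ {Ω : Type u} [Field Ω] (h0 : (p : Ω) = 0) (c : Ω) (hc : c ^ p = c) :
    ∃ i, φ p Ω h0 i = c := by
  classical
  by_contra h
  have hp := (Fact.out : p.Prime)
  have hsub : (insert c (Finset.univ.image (φ p Ω h0))).val ⊆
      (Polynomial.X ^ p - Polynomial.X : Polynomial Ω).roots := by
    intro x hx
    rw [Polynomial.mem_roots (FiniteField.X_pow_card_sub_X_ne_zero Ω hp.one_lt)]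
    obtain rfl | ⟨i, rfl⟩ : x = c ∨ ∃ i, φ p Ω h0 i = x := by simpa using hx
    · simp [hc]
    · simp [φ_pow]
  have h1 := Polynomial.card_le_degree_of_subset_roots hsub
  rw [Finset.card_insert_of_notMem (by simpa using h), Finset.card_image_of_injective _ (φ p Ω h0).injective,
    Finset.card_univ, ZMod.card, FiniteField.X_pow_card_sub_X_natDegree_eq Ω hp.one_lt] at h1
  omega

variable {X : Scheme.{u}} (h0 : (p : Γ(X, ⊤)) = 0)

/-- `F - 1`. -/
noncomputable abbrev as : EtCoh.Ga X ⟶ EtCoh.Ga X := artinSchreierEndo X p (Fact.out : p.Prime) h0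

variable (X) in
/-- The constant presheaf `ℤ/p`. -/
noncomputable abbrev cP : X.Etaleᵒᵖ ⥤ AddCommGrpCat.{u + 1} :=
  (Functor.const X.Etaleᵒᵖ).obj (AddCommGrpCat.of (ULift.{u + 1} (ZMod p)))

/-- The constant functions, on presheaves. -/
noncomputable def η : cP p X ⟶
    (EtCoh.Ga X).obj where
  app U := AddCommGrpCat.ofHom
    { toFun := fun m => ULift.up (φ p Γ(U.unop.left, ⊤) (natCast_eq_zero_etale p h0 U.unop) m.down)
      map_zero' := congrArg ULift.up (map_zero _)
      map_add' := fun a b => congrArg ULift.up (map_add _ a.down b.down) }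
  naturality U V g := AddCommGrpCat.hom_ext <| AddMonoidHom.ext fun m =>
    congrArg ULift.up (map_φ p (g.unop.left.appTop).hom (natCast_eq_zero_etale p h0 U.unop)
      (natCast_eq_zero_etale p h0 V.unop) m.down).symm

/-- The constant functions. -/
noncomputable def constToGa : EtCoh.const X (ZMod p) ⟶ EtCoh.Ga X :=
  ⟨sheafifyLift X.smallEtaleTopology (η p h0) (EtCoh.Ga X).property⟩

lemma toSheafify_constToGa : toSheafify X.smallEtaleTopology (cP p X) ≫ (constToGa p h0).hom = η p h0 :=
  toSheafify_sheafifyLift _ _ _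

lemma constToGa_as : constToGa p h0 ≫ as p h0 = 0 := by
  refine Sheaf.hom_ext (sheafify_hom_ext _ _ _ (EtCoh.Ga X).property ?_)
  rw [ObjectProperty.FullSubcategory.comp_hom, ← Category.assoc, toSheafify_constToGa]
  show η p h0 ≫ (as p h0).hom = toSheafify X.smallEtaleTopology (cP p X) ≫ 0
  rw [comp_zero]
  refine NatTrans.ext (funext fun U => AddCommGrpCat.hom_ext (AddMonoidHom.ext fun m => ?_))
  exact congrArg ULift.up (sub_eq_zero.2 (φ_pow p (natCast_eq_zero_etale p h0 U.unop) m.down))

/-- The comparison with the kernel. -/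
noncomputable def constToKer : EtCoh.const X (ZMod p) ⟶ kernel (as p h0) :=
  kernel.lift _ (constToGa p h0) (constToGa_as p h0)

lemma ι_constToKer (U : X.Etale) (m : ULift.{u + 1} (ZMod p)) :
    ((kernel.ι (as p h0)).hom.app (op U)).hom (((constToKer p h0).hom.app (op U)).hom
      ((toSheafify X.smallEtaleTopology (cP p X)).app (op U) m)) =
      ULift.up (φ p Γ(U.left, ⊤) (natCast_eq_zero_etale p h0 U) m.down) := by
  have h : (toSheafify X.smallEtaleTopology (cP p X)) ≫ (constToKer p h0).hom ≫ (kernel.ι (as p h0)).hom = η p h0 := by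
    rw [← ObjectProperty.FullSubcategory.comp_hom, constToKer, kernel.lift_ι, toSheafify_constToGa]
  exact congrArg (fun t => (t.app (op U)).hom m) h

instance isIso_constToKer : IsIso (constToKer p h0) := by
  haveI : LocallySmall.{u + 1} X.Etale := ⟨fun _ _ => inferInstance⟩
  refine isIso_of_stalks (constToKer p h0) fun Ω _ _ ξ => ⟨?_, fun q => ?_⟩
  · intro a b hab
    obtain ⟨U, u, s, rfl⟩ := (Scheme.pointSmallEtale ξ).toPresheafFiber_jointly_surjective a
    obtain ⟨m, hm⟩ := (toSheafify_const_germ_bijective ξ AddCommGrpCat.{u + 1} _ U u).2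
      ((Scheme.pointSmallEtale ξ).toPresheafFiber U u (EtCoh.const X (ZMod p)).obj s)
    obtain ⟨n, hn⟩ := (toSheafify_const_germ_bijective ξ AddCommGrpCat.{u + 1} _ U u).2 b
    suffices m = n by
      rw [← hn, ← this]
      exact hm.symm
    rw [← hn] at hab
    erw [← hm] at hab
    erw [(Scheme.pointSmallEtale ξ).toPresheafFiber_naturality_apply,
      (Scheme.pointSmallEtale ξ).toPresheafFiber_naturality_apply] at hab
    obtain ⟨V, f, v, -, hf⟩ := ((Scheme.pointSmallEtale ξ).toPresheafFiber_eq_iff' _ _ _ _).1 hab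
    have h1 := congrArg ((kernel.ι (as p h0)).hom.app (op V)).hom hf
    have h2 : φ p Γ(V.left, ⊤) (natCast_eq_zero_etale p h0 V) m.down =
        φ p Γ(V.left, ⊤) (natCast_eq_zero_etale p h0 V) n.down := by
      rw [← map_φ p f.left.appTop.hom (natCast_eq_zero_etale p h0 U),
        ← map_φ p f.left.appTop.hom (natCast_eq_zero_etale p h0 U)]
      exact congrArg ULift.down ((((congrArg ((EtCoh.Ga X).obj.map f.op).hom (ι_constToKer p h0 U m)).symm.trans
        (NatTrans.naturality_apply (kernel.ι (as p h0)).hom f.op _).symm).trans h1).trans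
          ((NatTrans.naturality_apply (kernel.ι (as p h0)).hom f.op _).trans
            (congrArg ((EtCoh.Ga X).obj.map f.op).hom (ι_constToKer p h0 U n))))
    haveI : Nontrivial Γ(V.left, ⊤) :=
      (((Scheme.ΓSpecIso (CommRingCat.of Ω)).hom.hom).comp
        (v.left : Spec (CommRingCat.of Ω) ⟶ V.left).appTop.hom).domain_nontrivial
    exact ULift.down_injective ((φ p Γ(V.left, ⊤) (natCast_eq_zero_etale p h0 V)).injective h2)
  · obtain ⟨U, u, k, rfl⟩ := (Scheme.pointSmallEtale ξ).toPresheafFiber_jointly_surjective q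
    let a : Γ(U.left, ⊤) := (((kernel.ι (as p h0)).hom.app (op U)).hom k).down
    have ha : a ^ p = a := sub_eq_zero.1 (congrArg ULift.down
      (congrArg (fun t : kernel (as p h0) ⟶ EtCoh.Ga X => (t.hom.app (op U)).hom k) (kernel.condition _)))
    let ev : Γ(U.left, ⊤) →+* Ω := ((Scheme.ΓSpecIso (CommRingCat.of Ω)).hom.hom).comp
      (u.left : Spec (CommRingCat.of Ω) ⟶ U.left).appTop.hom
    have hpΩ : (p : Ω) = 0 := by
      rw [← map_natCast ev, natCast_eq_zero_etale p h0 U, map_zero]
    obtain ⟨i, hi⟩ := exists_eq_φ p hpΩ (ev a) (by rw [← map_pow, ha])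
    let b : Γ(U.left, ⊤) := a - φ p _ (natCast_eq_zero_etale p h0 U) i
    have hb : b ^ p = b := by
      have := map_sub (asHom Γ(U.left, ⊤) p (Fact.out : p.Prime) (natCast_eq_zero_etale p h0 U)) a
        (φ p _ (natCast_eq_zero_etale p h0 U) i)
      rw [asHom_apply, asHom_apply, asHom_apply, ha, φ_pow, sub_self, sub_self, sub_zero] at this
      exact sub_eq_zero.1 this
    let r : Γ(U.left, ⊤) := b ^ (p - 1) - 1
    have hbr : b * r = 0 := by
      rw [mul_sub, mul_one, ← pow_succ', Nat.sub_add_cancel (Fact.out : p.Prime).one_le, hb, sub_self]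
    have hevr : ev r = -1 := by
      have : ev b = 0 := by rw [map_sub, map_φ p ev _ hpΩ, hi, sub_self]
      rw [map_sub, map_pow, this, map_one, zero_pow (Nat.sub_ne_zero_of_lt (Fact.out : p.Prime).one_lt),
        zero_sub]
    haveI : AlgebraicGeometry.Etale U.hom := U.prop
    let V : X.Etale := Scheme.Etale.mk ((U.left.basicOpen r).ι ≫ U.hom)
    let f : V ⟶ U := MorphismProperty.Over.homMk (U.left.basicOpen r).ι rfl trivial
    have hmem : (u.left : Spec (CommRingCat.of Ω) ⟶ U.left).base (default : Spec (CommRingCat.of Ω)) ∈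
        U.left.basicOpen r := by
      have hu : IsUnit ((u.left : Spec (CommRingCat.of Ω) ⟶ U.left).appTop r) := by
        refine (MulEquiv.isUnit_map (Scheme.ΓSpecIso (CommRingCat.of Ω)).commRingCatIsoToRingEquiv.toMulEquiv).1 ?_
        show IsUnit (ev r)
        rw [hevr]
        exact isUnit_one.neg
      have h := (Spec (CommRingCat.of Ω)).basicOpen_of_isUnit hu
      exact ((Scheme.preimage_basicOpen_top (u.left : Spec (CommRingCat.of Ω) ⟶ U.left) r).trans h).ge (TopologicalSpace.Opens.mem_top (default : Spec (CommRingCat.of Ω)))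
    obtain ⟨v, hv, -⟩ := exists_lift_point f u ⟨_, hmem⟩ rfl
    subst hv
    have hr : IsUnit (f.left.appTop r) := by
      show IsUnit ((U.left.basicOpen r).ι.appTop r)
      have h := (U.left.toRingedSpace.isUnit_res_basicOpen r).map (U.left.basicOpen r).topIso.inv.hom
      rw [Scheme.Opens.ι_appTop]
      convert h using 1
      simp [Scheme.Opens.topIso]
      erw [← ConcreteCategory.comp_apply, ← Functor.map_comp]
      rfl
    have hfb : f.left.appTop b = 0 := by
      refine hr.mul_left_eq_zero.1 ?_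
      rw [← map_mul, hbr, map_zero]
    refine ⟨(Scheme.pointSmallEtale ξ).toPresheafFiber V v (EtCoh.const X (ZMod p)).obj
      ((toSheafify X.smallEtaleTopology (cP p X)).app (op V) (ULift.up i)), ?_⟩
    erw [(Scheme.pointSmallEtale ξ).toPresheafFiber_naturality_apply]
    rw [← (Scheme.pointSmallEtale ξ).toPresheafFiber_w_apply f v]
    refine congrArg _ (SiteBase.sheaf_app_injective (kernel.ι (as p h0)) V ?_)
    refine (ι_constToKer p h0 V (ULift.up i)).trans ?_
    refine Eq.trans ?_ (NatTrans.naturality_apply (kernel.ι (as p h0)).hom f.op k).symm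
    refine congrArg ULift.up ?_
    show φ p Γ(V.left, ⊤) (natCast_eq_zero_etale p h0 V) i = f.left.appTop a
    rw [map_sub, sub_eq_zero] at hfb
    rw [hfb, map_φ]

/-- The Artin–Schreier sequence. -/
theorem shortExact_kernel : (ShortComplex.mk (kernel.ι (as p h0)) (as p h0) (kernel.condition _)).ShortExact :=
  haveI : Epi (as p h0) := Groth.Agent.S18415.result p Fact.out h0
  { exact := ShortComplex.exact_of_f_is_kernel _ (kernelIsKernel _) }

end Groth.Agent.EtLC12.ArtinSchreier
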