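import Groth.Prelude.Def_Coh
import Groth.Agent.EtLC12.HCompare
import Groth.Agent.SiteBase.Top
import Mathlib.CategoryTheory.Sites.EpiMono

/-!
# Zariski cohomology does not see the universe of the values
-/

set_option autoImplicit false
set_option backward.isDefEq.respectTransparency false
set_option backward.isDefEq.respectTransparency.types false

universe u

open CategoryTheory Limits AlgebraicGeometry Opposite TopologicalSpace

namespace Groth.Agent.EtLC12.ZarLift

open Groth.Agent.Adeq2Lib

variable (X : Scheme.{u})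

/-- Zariski sheaves of abelian groups in the universe of `X`. -/
abbrev Ab₀ : Type (u + 1) := Sheaf (Opens.grothendieckTopology X) AddCommGrpCat.{u}

instance hasSheafCompose : (Opens.grothendieckTopology X).HasSheafCompose AddCommGrpCat.uliftFunctor.{u + 1, u} :=
  hasSheafCompose_of_preservesLimitsOfSize _

/-- The universe lift. -/
noncomputable abbrev lift : Ab₀ X ⥤ EtZar.Ab X :=
  sheafCompose (Opens.grothendieckTopology X) AddCommGrpCat.uliftFunctor.{u + 1, u}

instance : (lift X).PreservesZeroMorphisms where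
  map_zero _ _ := Sheaf.hom_ext (NatTrans.ext (funext fun _ => AddCommGrpCat.uliftFunctor.map_zero _ _))

variable {X}

theorem sections_exact {E : ShortComplex (Ab₀ X)} (hE : E.ShortExact) (U : X.Opens) :
    Function.Injective (E.f.hom.app (op U)).hom ∧
      ∀ y, (E.g.hom.app (op U)).hom y = 0 → ∃ x, (E.f.hom.app (op U)).hom x = y := by
  haveI := hE.mono_f
  let F := sheafToPresheaf (Opens.grothendieckTopology X) AddCommGrpCat.{u} ⋙
    (evaluation _ _).obj (op U)
  haveI : F.Additive := ⟨fun {_ _ _ _} => rfl⟩
  haveI : Mono (F.map E.f) := inferInstance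
  exact ⟨(AddCommGrpCat.mono_iff_injective (F.map E.f)).1 inferInstance,
    (E.map F).ab_exact_iff.1 (hE.exact.map_of_mono_of_preservesKernel F ‹_› inferInstance)⟩

theorem shortExact_lift {E : ShortComplex (Ab₀ X)} (hE : E.ShortExact) : (E.map (lift X)).ShortExact := by
  have hm : Mono ((lift X).map E.f) := by
    haveI : ∀ U, Mono (((lift X).map E.f).hom.app U) := fun U =>
      (AddCommGrpCat.mono_iff_injective _).2 fun a b h =>
        ULift.down_injective ((sections_exact hE U.unop).1 (congrArg ULift.down h))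
    haveI : Mono ((lift X).map E.f).hom := NatTrans.mono_of_mono_app _
    exact (sheafToPresheaf _ _).mono_of_mono_map (by assumption)
  have he : Epi ((lift X).map E.g) := by
    haveI := hE.epi_g
    have h : Presheaf.IsLocallySurjective (Opens.grothendieckTopology X) E.g.hom :=
      (Sheaf.isLocallySurjective_iff_epi' AddCommGrpCat.{u} E.g).2 inferInstance
    refine ⟨fun {H} p q hpq => ?_⟩
    ext U s
    let T := Presheaf.imageSieve E.g.hom s.down
    refine ZarFl.eq_of_coverZ H (I := { V : X.Opens // ∃ hV : V ≤ U.unop, T (homOfLE hV) }) (fun V => V.1)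
      (fun V => V.2.choose) (fun x hx => ?_) _ _ fun V => ?_
    · obtain ⟨V, i, hi, hxV⟩ := h.imageSieve_mem s.down x hx
      exact ⟨⟨V, leOfHom i, hi⟩, hxV⟩
    · obtain ⟨t, ht⟩ := V.2.choose_spec
      rw [← ZarFl.rz_nat, ← ZarFl.rz_nat]
      have ht' : ((lift X).map E.g).hom.app (op V.1) (ULift.up t) = ZarFl.rz ((lift X).obj E.X₃) V.2.choose s :=
        congrArg ULift.up ht
      rw [← ht']
      exact ConcreteCategory.congr_hom (congrArg (fun α : (lift X).obj E.X₂ ⟶ H => α.hom.app (op V.1)) hpq) (ULift.up t)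
  haveI : Mono (E.map (lift X)).f := hm
  refine { exact := ?_, mono_f := hm, epi_g := he }
  refine ShortComplex.exact_of_f_is_kernel _ (KernelFork.IsLimit.ofι' _ _ fun {W} g hg => ?_)
  have hz : ∀ (U : (Opens X)ᵒᵖ) (w : W.obj.obj U), ∃ x, (E.f.hom.app U).hom x = ((g.hom.app U).hom w).down :=
    fun U w => (sections_exact hE U.unop).2 _
      (congrArg ULift.down (congrArg (fun t : W ⟶ (E.map (lift X)).X₃ => (t.hom.app U).hom w) hg))
  choose x hx using hz
  refine ⟨⟨{ app := fun U => AddCommGrpCat.ofHom (AddMonoidHom.mk' (fun w => ULift.up (x U w)) fun a b => ?_)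
             naturality := fun U V i => ?_ }⟩, ?_⟩
  · refine congrArg ULift.up ((sections_exact hE U.unop).1 ?_)
    rw [map_add, hx, hx, hx, map_add]
    rfl
  · ext w
    refine congrArg ULift.up ((sections_exact hE V.unop).1 ?_)
    rw [hx]
    exact (congrArg ULift.down (NatTrans.naturality_apply g.hom i w)).trans
      ((congrArg (E.X₂.obj.map i).hom (hx U w).symm).trans (NatTrans.naturality_apply E.f.hom i (x U w)).symm)
  · exact Sheaf.hom_ext (NatTrans.ext (funext fun U => AddCommGrpCat.hom_ext (AddMonoidHom.ext fun w =>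
      congrArg ULift.up (hx U w))))

theorem flq_lift_injective (I : Ab₀ X) [Injective I] : ZarFl.Flq ((lift X).obj I) := fun V U h => by
  intro x
  haveI : Injective (show CohTop.Ab X.toTopCat from I) := ‹Injective I›
  obtain ⟨y, hy⟩ := (AddCommGrpCat.epi_iff_surjective _).1
    ((SiteBase.isFlasque_of_injective (show CohTop.Ab X.toTopCat from I)).epi (homOfLE h).op) x.down
  exact ⟨ULift.up y, congrArg ULift.up hy⟩

/-- Sheaf cohomology is unchanged by the universe lift. -/
theorem nonempty_H_addEquiv (G : Ab₀ X) (n : ℕ) : Nonempty (Sheaf.H G n ≃+ EtZar.H ((lift X).obj G) n) :=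
  HCompare.nonempty_H_addEquiv (T₁ := (⊤ : X.Opens)) (IsTerminal.ofUnique _) (T₂ := (⊤ : X.Opens))
    (IsTerminal.ofUnique _) (lift X) (fun G => AddEquiv.ulift.symm) (fun _ _ => rfl) (fun _ => True)
    (fun _ _ _ _ => trivial) (fun _ hE _ _ => shortExact_lift hE)
    (fun I hI k => haveI := hI; ZarFl.subsingleton_H_of_flq k _ (flq_lift_injective I)) n G trivial

end Groth.Agent.EtLC12.ZarLift
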