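import Groth.Agent.EtLC12.GaAmitsur
import Groth.Agent.EtLC12.EtZarCompare
import Groth.Agent.EtLC12.ZarLift

/-!
# The restriction of `G_a` to the Zariski site is the structure sheaf
-/

set_option autoImplicit false
set_option backward.isDefEq.respectTransparency false
set_option backward.isDefEq.respectTransparency.types false

universe u

open CategoryTheory CategoryTheory.Limits AlgebraicGeometry Opposite TopologicalSpace

namespace Groth.Agent.EtLC12.GaZar

variable (X : Scheme.{u}) [EtZar.ZarCont X]

/-- `Γ(U, ⊤) = Γ(X, U)`. -/
noncomputable def resGaIso : (EtZar.resZar X).obj (EtCoh.Ga X) ≅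
    (ZarLift.lift X).obj (Coh.toAb (Coh.structureModule X)) :=
  (fullyFaithfulSheafToPresheaf _ _).preimageIso (NatIso.ofComponents
    (fun U => (AddCommGrpCat.uliftFunctor.{u + 1, u}).mapIso
      ((forget₂ CommRingCat RingCat ⋙ forget₂ RingCat AddCommGrpCat).mapIso (Scheme.Opens.topIso U.unop)))
    fun {U V} i => by
      ext x
      refine congrArg ULift.up ?_
      have h : (X.homOfLE (leOfHom i.unop)).appTop ≫ (Scheme.Opens.topIso V.unop).hom =
          (Scheme.Opens.topIso U.unop).hom ≫ X.presheaf.map i := by
        rw [Scheme.homOfLE_appTop]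
        simp only [Scheme.Opens.topIso_hom]
        dsimp [Scheme.Opens.toScheme_presheaf_obj]
        rw [← Functor.map_comp, ← Functor.map_comp]
        rfl
      exact congrArg (fun t => t.hom x.down) h)

end Groth.Agent.EtLC12.GaZar
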