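import Groth.Agent.EtLC12.AffineCartan
import Mathlib.AlgebraicGeometry.Morphisms.FlatMono

/-!
# A criterion for sheaves on the small étale site
-/

set_option autoImplicit false
set_option backward.isDefEq.respectTransparency false
set_option backward.isDefEq.respectTransparency.types false

universe u

open CategoryTheory CategoryTheory.Limits AlgebraicGeometry Opposite

namespace Groth.Agent.EtLC12.AffineSheafCrit

open Groth.Agent.EtFound

variable {X : Scheme.{u}} (P : X.Etaleᵒᵖ ⥤ AddCommGrpCat.{u + 1})

/-- The sheaf condition for families of jointly surjective open immersions. -/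
def ZariskiSheaf : Prop :=
  ∀ (U : X.Etale) {I : Type u} (W : I → X.Etale) (g : ∀ i, W i ⟶ U), (∀ i, IsOpenImmersion (g i).left) →
    (∀ x : U.left, ∃ (i : I) (w : (W i).left), (g i).left.base w = x) →
    Presieve.IsSheafFor (P ⋙ CategoryTheory.forget AddCommGrpCat.{u + 1}) (Presieve.ofArrows W g)

/-- The sheaf condition for surjective morphisms of affine objects. -/
def AffineSheaf : Prop :=
  ∀ (V T : X.Etale) (g : T ⟶ V), IsAffine V.left → IsAffine T.left → Surjective g.left →
    Function.Injective (P.map g.op).hom ∧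
      ∀ t : P.obj (op T), (P.map (pullback.fst g g).op).hom t = (P.map (pullback.snd g g).op).hom t →
        ∃ z, (P.map g.op).hom z = t

variable {P}

lemma map_comp_apply {A B C : X.Etale} (a : A ⟶ B) (b : B ⟶ C) (x : P.obj (op C)) :
    (P.map (a ≫ b).op).hom x = (P.map a.op).hom ((P.map b.op).hom x) :=
  ConcreteCategory.congr_hom (P.map_comp b.op a.op) x

/-- The affine open subobjects. -/
noncomputable def openObj (U : X.Etale) (O : U.left.Opens) : X.Etale :=
  haveI : AlgebraicGeometry.Etale U.hom := U.prop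
  Scheme.Etale.mk (O.ι ≫ U.hom)

/-- Their inclusions. -/
noncomputable def openι (U : X.Etale) (O : U.left.Opens) : openObj U O ⟶ U :=
  MorphismProperty.Over.homMk O.ι rfl trivial

instance (U : X.Etale) (O : U.left.Opens) : IsOpenImmersion (openι U O).left :=
  inferInstanceAs (IsOpenImmersion O.ι)

lemma affine_cover (U : X.Etale) (x : U.left) :
    ∃ (O : U.left.affineOpens) (w : (openObj U O.1).left), (openι U O.1).left.base w = x := by
  obtain ⟨O, hO, hxO, -⟩ := exists_isAffineOpen_mem_and_subset (U := (⊤ : U.left.Opens))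
    (TopologicalSpace.Opens.mem_top x)
  exact ⟨⟨O, hO⟩, ⟨x, hxO⟩, rfl⟩

lemma isOpenImmersion_left {V W : X.Etale} (g : V ⟶ W) [Mono g] : IsOpenImmersion g.left := by
  haveI : PreservesFiniteLimits (Scheme.Etale.forget X) := inferInstance
  haveI : PreservesLimitsOfShape WalkingCospan (Scheme.Etale.forget X ⋙ CategoryTheory.Over.forget X) :=
    comp_preservesLimitsOfShape _ _
  haveI : Mono g.left := preserves_mono_of_preservesLimit (Scheme.Etale.forget X ⋙ CategoryTheory.Over.forget X) g
  haveI := etale_left g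
  exact IsOpenImmersion.of_flat_of_mono g.left

variable (hZ : ZariskiSheaf P) (hA : AffineSheaf P)
include hZ hA

lemma separated_affine {V : X.Etale} [IsAffine V.left] (R : Sieve V) (hR : R ∈ X.smallEtaleTopology V)
    (x y : P.obj (op V)) (h : ∀ {Y : X.Etale} (f : Y ⟶ V), R f → (P.map f.op).hom x = (P.map f.op).hom y) :
    x = y := by
  obtain ⟨n, W, T, g, i, hT, hg, hgR, hi, hcov, -⟩ := AffineCartan.exists_affine_refinement R hR
  refine (hA V T g inferInstance hT hg).1 ?_
  haveI := hi
  refine (hZ T (fun k : ULift.{u} (Fin n) => W k.down) (fun k => i k.down) (fun k => isOpenImmersion_left _)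
    (fun z => by obtain ⟨k, w, hw⟩ := hcov z; exact ⟨⟨k⟩, w, hw⟩)).isSeparatedFor.ext fun Y f hf => ?_
  obtain ⟨k⟩ := hf
  show (P.map (i k.down).op).hom ((P.map g.op).hom x) = (P.map (i k.down).op).hom ((P.map g.op).hom y)
  rw [← map_comp_apply, ← map_comp_apply]
  exact h _ (hgR k.down)

lemma separated {U : X.Etale} (R : Sieve U) (hR : R ∈ X.smallEtaleTopology U)
    (x y : P.obj (op U)) (h : ∀ {Y : X.Etale} (f : Y ⟶ U), R f → (P.map f.op).hom x = (P.map f.op).hom y) :
    x = y := by
  refine (hZ U (fun O : U.left.affineOpens => openObj U O.1) (fun O => openι U O.1) (fun O => inferInstance)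
    (affine_cover U)).isSeparatedFor.ext fun Y f hf => ?_
  obtain ⟨O⟩ := hf
  haveI : IsAffine (openObj U O.1).left := O.2
  refine separated_affine hZ hA (R.pullback (openι U O.1)) (X.smallEtaleTopology.pullback_stable _ hR) _ _
    fun {Z} a ha => ?_
  show (P.map a.op).hom ((P.map (openι U O.1).op).hom x) = (P.map a.op).hom ((P.map (openι U O.1).op).hom y)
  rw [← map_comp_apply, ← map_comp_apply]
  exact h _ ha

lemma exists_glue_affine {V : X.Etale} [IsAffine V.left] (R : Sieve V) (hR : R ∈ X.smallEtaleTopology V)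
    (x : Presieve.FamilyOfElements (P ⋙ CategoryTheory.forget AddCommGrpCat.{u + 1}) R.arrows)
    (hx : x.Compatible) : ∃ z, x.IsAmalgamation z := by
  obtain ⟨n, W, T, g, i, hT, hg, hgR, hi, hcov, -⟩ := AffineCartan.exists_affine_refinement R hR
  haveI := hi
  have hcovT : ∀ z : T.left, ∃ (k : ULift.{u} (Fin n)) (w : (W k.down).left), (i k.down).left.base w = z :=
    fun z => by obtain ⟨k, w, hw⟩ := hcov z; exact ⟨⟨k⟩, w, hw⟩
  obtain ⟨t, ht, -⟩ := (Presieve.isSheafFor_arrows_iff _ _).1
    (hZ T (fun k : ULift.{u} (Fin n) => W k.down) (fun k => i k.down) (fun k => isOpenImmersion_left _) hcovT)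
    (fun k => x (i k.down ≫ g) (hgR k.down))
    (fun k l Y a b hab => hx a b (hgR k.down) (hgR l.down) (by rw [← Category.assoc, hab, Category.assoc]))
  have hsieve : Sieve.ofArrows (fun k : ULift.{u} (Fin n) => W k.down) (fun k => i k.down) ∈
      X.smallEtaleTopology T := (mem_topology_iff _).2 fun z => by
    obtain ⟨k, w, hw⟩ := hcovT z
    exact ⟨_, i k.down, w, Sieve.ofArrows_mk _ _ k, hw⟩
  have key : ∀ {Y : X.Etale} (h : Y ⟶ T) (hh : R (h ≫ g)), (P.map h.op).hom t = x (h ≫ g) hh := by
    intro Y h hh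
    refine separated hZ hA _ (X.smallEtaleTopology.pullback_stable h hsieve) _ _ fun {Z} f hf => ?_
    obtain ⟨Z', a, q, hq, e⟩ := hf
    obtain ⟨k⟩ := hq
    rw [← map_comp_apply, ← e, map_comp_apply]
    exact (congrArg (P.map a.op).hom (ht k)).trans
      (hx a f (hgR k.down) hh (by rw [← Category.assoc, e, Category.assoc]))
  have hpair : (P.map (pullback.fst g g).op).hom t = (P.map (pullback.snd g g).op).hom t := by
    refine separated hZ hA _ (X.smallEtaleTopology.pullback_stable (pullback.fst g g ≫ g) hR) _ _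
      fun {Y} f hf => ?_
    have hf' : R ((f ≫ pullback.fst g g) ≫ g) := by rw [Category.assoc]; exact hf
    have hf'' : R ((f ≫ pullback.snd g g) ≫ g) := by rw [Category.assoc, ← pullback.condition]; exact hf
    rw [← map_comp_apply, ← map_comp_apply, key _ hf', key _ hf'']
    congr 1
    rw [Category.assoc, Category.assoc, pullback.condition]
  obtain ⟨z, hz⟩ := (hA V T g inferInstance hT hg).2 t hpair
  have hgsieve : Sieve.ofArrows (fun _ : PUnit.{u + 1} => T) (fun _ => g) ∈ X.smallEtaleTopology V :=
    (mem_topology_iff _).2 fun v => by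
      obtain ⟨w, hw⟩ := hg.1 v
      exact ⟨T, g, w, Sieve.ofArrows_mk _ _ PUnit.unit, hw⟩
  refine ⟨z, fun Y f hf => separated hZ hA _ (X.smallEtaleTopology.pullback_stable f hgsieve) _ _ fun {Z} q hq => ?_⟩
  obtain ⟨Z', a, g', hg', e⟩ := hq
  obtain ⟨⟩ := hg'
  have ha : R (a ≫ g) := e ▸ R.downward_closed hf q
  show (P.map q.op).hom ((P.map f.op).hom z) = (P.map q.op).hom (x f hf)
  rw [← map_comp_apply, ← e, map_comp_apply, hz, key a ha]
  have h := hx (𝟙 Z) q ha hf (by rw [Category.id_comp, e])
  rw [op_id, CategoryTheory.Functor.map_id] at h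
  exact h

/-- A presheaf satisfying both conditions is a sheaf. -/
theorem isSheaf : Presheaf.IsSheaf X.smallEtaleTopology P := by
  refine Presheaf.isSheaf_of_isSheaf_comp _ _ (CategoryTheory.forget AddCommGrpCat.{u + 1}) ?_
  rw [isSheaf_iff_isSheaf_of_type]
  intro U R hR x hx
  haveI : ∀ O : U.left.affineOpens, IsAffine (openObj U O.1).left := fun O => O.2
  choose z hz using fun O : U.left.affineOpens => exists_glue_affine hZ hA (R.pullback (openι U O.1))
    (X.smallEtaleTopology.pullback_stable _ hR)
    (x.pullback (openι U O.1) : Presieve.FamilyOfElements _ (R.pullback (openι U O.1)).arrows) (hx.pullback _)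
  obtain ⟨s, hs, -⟩ := (Presieve.isSheafFor_arrows_iff _ _).1
    (hZ U (fun O : U.left.affineOpens => openObj U O.1) (fun O => openι U O.1) (fun O => inferInstance)
      (affine_cover U)) z fun O O' Y a b hab => by
    refine separated hZ hA _ (X.smallEtaleTopology.pullback_stable (a ≫ openι U O.1) hR) _ _ fun {Z} f hf => ?_
    show (P.map f.op).hom ((P.map a.op).hom (z O)) = (P.map f.op).hom ((P.map b.op).hom (z O'))
    have h₁ : (R.pullback (openι U O.1)) (f ≫ a) := by
      show R ((f ≫ a) ≫ openι U O.1)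
      rw [Category.assoc]; exact hf
    have h₂ : (R.pullback (openι U O'.1)) (f ≫ b) := by
      show R ((f ≫ b) ≫ openι U O'.1)
      rw [Category.assoc, ← hab]; exact hf
    rw [← map_comp_apply, ← map_comp_apply]
    refine (hz O (f ≫ a) h₁).trans (Eq.trans ?_ (hz O' (f ≫ b) h₂).symm)
    show x ((f ≫ a) ≫ openι U O.1) h₁ = x ((f ≫ b) ≫ openι U O'.1) h₂
    congr 1
    rw [Category.assoc, Category.assoc, hab]
  have hcover : Sieve.ofArrows (fun O : U.left.affineOpens => openObj U O.1) (fun O => openι U O.1) ∈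
      X.smallEtaleTopology U := (mem_topology_iff _).2 fun y => by
    obtain ⟨O, w, hw⟩ := affine_cover U y
    exact ⟨_, openι U O.1, w, Sieve.ofArrows_mk _ _ O, hw⟩
  refine ⟨s, fun Y f hf => separated hZ hA _ (X.smallEtaleTopology.pullback_stable f hcover) _ _ fun {Z} q hq => ?_,
    fun s' hs' => separated hZ hA R hR _ _ fun f hf => ?_⟩
  · obtain ⟨Z', a, g', hg', e⟩ := hq
    obtain ⟨O⟩ := hg'
    have ha : R (a ≫ openι U O.1) := e ▸ R.downward_closed hf q
    show (P.map q.op).hom ((P.map f.op).hom s) = (P.map q.op).hom (x f hf)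
    rw [← map_comp_apply, ← e, map_comp_apply]
    refine (congrArg (P.map a.op).hom (hs O)).trans ((hz O a ha).trans ?_)
    show x (a ≫ openι U O.1) ha = (P.map q.op).hom (x f hf)
    have h := hx (𝟙 Z) q ha hf (by rw [Category.id_comp, e])
    rw [op_id, CategoryTheory.Functor.map_id] at h
    exact h
  · refine (hs' f hf).trans (Eq.symm ?_)
    refine separated hZ hA _ (X.smallEtaleTopology.pullback_stable f hcover) _ _ fun {Z} q hq => ?_
    obtain ⟨Z', a, g', hg', e⟩ := hq
    obtain ⟨O⟩ := hg'
    have ha : R (a ≫ openι U O.1) := e ▸ R.downward_closed hf q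
    show (P.map q.op).hom ((P.map f.op).hom s) = (P.map q.op).hom (x f hf)
    rw [← map_comp_apply, ← e, map_comp_apply]
    refine (congrArg (P.map a.op).hom (hs O)).trans ((hz O a ha).trans ?_)
    show x (a ≫ openι U O.1) ha = (P.map q.op).hom (x f hf)
    have h := hx (𝟙 Z) q ha hf (by rw [Category.id_comp, e])
    rw [op_id, CategoryTheory.Functor.map_id] at h
    exact h

end Groth.Agent.EtLC12.AffineSheafCrit
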