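import Groth.Agent.DescLib.AmitsurAll

/-!
# The Amitsur complex with coefficients in a module
-/

universe u

set_option autoImplicit false
set_option backward.isDefEq.respectTransparency false
set_option backward.isDefEq.respectTransparency.types false

open TensorProduct

namespace Groth.Agent.EtLC12.AmitsurMod

open Groth.Agent.DescLib

variable {R A : Type u} [CommRing R] [CommRing A] [Algebra R A] (M : Type u) [AddCommGroup M] [Module R M]

variable (R A) in
/-- The differential with coefficients. -/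
noncomputable def DM (n : ℕ) : AmitsurAll.T R A n ⊗[R] M →ₗ[R] AmitsurAll.T R A (n + 1) ⊗[R] M :=
  (AmitsurAll.D R A n).rTensor M

lemma DM_apply (n : ℕ) (z : AmitsurAll.T R A n ⊗[R] M) :
    DM R A M n z = ∑ i : Fin (n + 2), (-1 : ℤ) ^ (i : ℕ) • (AmitsurAll.face R A n i).toLinearMap.rTensor M z := by
  induction z using TensorProduct.induction_on with
  | zero => simp
  | add a b ha hb => simp only [map_add, ha, hb, smul_add, Finset.sum_add_distrib]
  | tmul t m =>
    simp only [DM, LinearMap.rTensor_tmul, AmitsurAll.D, LinearMap.sum_apply, TensorProduct.sum_tmul,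
      LinearMap.smul_apply]
    exact Finset.sum_congr rfl fun i _ => (TensorProduct.smul_tmul' _ _ _).symm

theorem exact_DM [Module.FaithfullyFlat R A] (n : ℕ) (x : AmitsurAll.T R A (n + 1) ⊗[R] M)
    (hx : DM R A M (n + 1) x = 0) : x ∈ LinearMap.range (DM R A M n) := by
  have key₀ : ∀ (a : A) (w : A ⊗[R] AmitsurAll.T R A n),
      AmitsurAll.h R A (AmitsurAll.T R A (n + 1))
          (LinearMap.lTensor A (AmitsurAll.D R A (n + 1)) (a ⊗ₜ[R] (w : AmitsurAll.T R A (n + 1)))) +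
        LinearMap.lTensor A (AmitsurAll.D R A n) (AmitsurAll.h R A (AmitsurAll.T R A n) (a ⊗ₜ[R] w)) =
          (a ⊗ₜ[R] w : A ⊗[R] AmitsurAll.T R A (n + 1)) := by
    intro a w
    rw [LinearMap.lTensor_tmul, AmitsurAll.D_succ_apply, TensorProduct.tmul_sub, map_sub,
      show AmitsurAll.h R A (AmitsurAll.T R A (n + 1)) (a ⊗ₜ[R] ((1 : A) ⊗ₜ[R] w)) = (a * 1) ⊗ₜ[R] w from
        AmitsurAll.h_tmul a 1 w, mul_one]
    have : AmitsurAll.h R A (AmitsurAll.T R A (n + 1)) (a ⊗ₜ[R] LinearMap.lTensor A (AmitsurAll.D R A n) w) =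
        LinearMap.lTensor A (AmitsurAll.D R A n) (AmitsurAll.h R A (AmitsurAll.T R A n) (a ⊗ₜ[R] w)) := by
      induction w using TensorProduct.induction_on with
      | zero => simp
      | tmul b t => rw [LinearMap.lTensor_tmul, AmitsurAll.h_tmul, AmitsurAll.h_tmul, LinearMap.lTensor_tmul]
      | add y z hy hz => simp only [map_add, TensorProduct.tmul_add, hy, hz]
    rw [this, sub_add_cancel]
  let c₀ := TensorProduct.assoc R A (AmitsurAll.T R A n) M
  let c₁ := TensorProduct.assoc R A (AmitsurAll.T R A (n + 1)) M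
  let H : A ⊗[R] (AmitsurAll.T R A (n + 1) ⊗[R] M) →ₗ[R] A ⊗[R] (AmitsurAll.T R A n ⊗[R] M) :=
    c₀.toLinearMap ∘ₗ (AmitsurAll.h R A (AmitsurAll.T R A n) : A ⊗[R] AmitsurAll.T R A (n + 1) →ₗ[R] _).rTensor M
      ∘ₗ c₁.symm.toLinearMap
  let H' : A ⊗[R] (AmitsurAll.T R A (n + 2) ⊗[R] M) →ₗ[R] A ⊗[R] (AmitsurAll.T R A (n + 1) ⊗[R] M) :=
    c₁.toLinearMap ∘ₗ (AmitsurAll.h R A (AmitsurAll.T R A (n + 1)) : A ⊗[R] AmitsurAll.T R A (n + 2) →ₗ[R] _).rTensor M
      ∘ₗ (TensorProduct.assoc R A (AmitsurAll.T R A (n + 2)) M).symm.toLinearMap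
  have key : ∀ z : A ⊗[R] (AmitsurAll.T R A (n + 1) ⊗[R] M),
      H' (LinearMap.lTensor A (DM R A M (n + 1)) z) + LinearMap.lTensor A (DM R A M n) (H z) = z := by
    suffices h : H' ∘ₗ LinearMap.lTensor A (DM R A M (n + 1)) + LinearMap.lTensor A (DM R A M n) ∘ₗ H =
        LinearMap.id from fun z => DFunLike.congr_fun h z
    refine TensorProduct.ext' fun a y => ?_
    induction y using TensorProduct.induction_on with
    | zero => simp
    | add p q hp hq => rw [TensorProduct.tmul_add, map_add, map_add, hp, hq]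
    | tmul w m =>
      show H' (LinearMap.lTensor A (DM R A M (n + 1)) (a ⊗ₜ[R] (w ⊗ₜ[R] m))) +
        LinearMap.lTensor A (DM R A M n) (H (a ⊗ₜ[R] (w ⊗ₜ[R] m))) = a ⊗ₜ[R] (w ⊗ₜ[R] m)
      have h₀ := key₀ a w
      rw [LinearMap.lTensor_tmul] at h₀
      have e : ∀ u : A ⊗[R] AmitsurAll.T R A n, LinearMap.lTensor A (DM R A M n) (c₀ (u ⊗ₜ[R] m)) =
          c₁ (LinearMap.lTensor A (AmitsurAll.D R A n) u ⊗ₜ[R] m) := fun u => by
        induction u using TensorProduct.induction_on with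
        | zero => simp
        | add p q hp hq => simp only [map_add, TensorProduct.add_tmul, hp, hq]
        | tmul b t => simp [c₀, c₁, DM]
      show c₁ (AmitsurAll.h R A (AmitsurAll.T R A (n + 1)) (a ⊗ₜ[R] AmitsurAll.D R A (n + 1) w) ⊗ₜ[R] m) +
          LinearMap.lTensor A (DM R A M n) (c₀ (AmitsurAll.h R A (AmitsurAll.T R A n) (a ⊗ₜ[R] w) ⊗ₜ[R] m)) =
        a ⊗ₜ[R] (w ⊗ₜ[R] m)
      rw [e, ← map_add, ← TensorProduct.add_tmul, h₀]
      exact TensorProduct.assoc_tmul _ _ _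
  refine mem_range_of_one_tmul_mem (R := R) (A := A) (DM R A M n) x ⟨H ((1 : A) ⊗ₜ[R] x), ?_⟩
  have := key ((1 : A) ⊗ₜ[R] x)
  rwa [LinearMap.lTensor_tmul, hx, TensorProduct.tmul_zero, map_zero, zero_add] at this

end Groth.Agent.EtLC12.AmitsurMod
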