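import Groth.Agent.EtLC12.AssocUnit
import Groth.Agent.EtLC12.AmitsurMod
import Groth.Agent.EtLC12.GaAmitsur
import Groth.Agent.EtLC12.EtZarCompare
import Groth.Agent.EtLC12.ZarLift

/-!
# Étale sheaves associated to quasi-coherent modules
-/

set_option autoImplicit false
set_option backward.isDefEq.respectTransparency false
set_option backward.isDefEq.respectTransparency.types false

universe u

open CategoryTheory CategoryTheory.Limits AlgebraicGeometry TopologicalSpace Opposite
open scoped TensorProduct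

namespace Groth.Agent.EtLC12.AssocSec

open Groth.Agent.EtFound Groth.Agent.DescLib AssocUnit

variable {S : Scheme.{u}} (F : S.Modules)

/-- Restriction of sections. -/
noncomputable def res {U U' : S.Etale} (g : U' ⟶ U) : Γ(N F U, ⊤) →+ Γ(N F U', ⊤) := ρ F g ⊤

lemma res_eq {U U' : S.Etale} (g : U' ⟶ U) (z : EtAssoc.obj F U) : EtAssoc.resMap F g z = res F g z :=
  resMap_eq F g z

lemma res_smul {U U' : S.Etale} (g : U' ⟶ U) (r : Γ(U.left, ⊤)) (z : Γ(N F U, ⊤)) :
    res F g (r • z) = g.left.appTop r • res F g z :=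
  ρ_smul F g ⊤ r z

lemma res_id [F.IsQuasicoherent] (U : S.Etale) (z : Γ(N F U, ⊤)) : res F (𝟙 U) z = z := ρ_id F U ⊤ z

lemma res_comp [F.IsQuasicoherent] {U U' U'' : S.Etale} (g' : U'' ⟶ U') (g : U' ⟶ U) (z : Γ(N F U, ⊤)) :
    res F (g' ≫ g) z = res F g' (res F g z) :=
  ρ_comp F g' g ⊤ z

/-- The presheaf associated to a quasi-coherent module. -/
noncomputable def pre [F.IsQuasicoherent] : S.Etaleᵒᵖ ⥤ AddCommGrpCat.{u + 1} where
  obj U := AddCommGrpCat.of (ULift.{u + 1} Γ(N F U.unop, ⊤))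
  map g := AddCommGrpCat.ofHom
    (AddMonoidHom.mk' (fun z => ULift.up (res F g.unop z.down)) fun a b => congrArg ULift.up (map_add _ a.down b.down))
  map_id U := AddCommGrpCat.hom_ext <| AddMonoidHom.ext fun z => ULift.down_injective (res_id F U.unop z.down)
  map_comp f g := AddCommGrpCat.hom_ext <| AddMonoidHom.ext fun z =>
    ULift.down_injective (res_comp F g.unop f.unop z.down)

lemma preimage_ι (O : S.Opens) : ((EtZar.zarToEt S).obj O).hom ⁻¹ᵁ O = ⊤ := O.ι_preimage_self

/-- Sections over an open. -/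
noncomputable def θ (O : S.Opens) : Γ(F, O) →+ Γ(N F ((EtZar.zarToEt S).obj O), ⊤) :=
  ((((Scheme.Modules.pullbackPushforwardAdjunction ((EtZar.zarToEt S).obj O).hom).unit.app F).app O) ≫
    (N F ((EtZar.zarToEt S).obj O)).presheaf.map (eqToHom (preimage_ι O).symm).op).hom

lemma θ_apply (O : S.Opens) (x : Γ(F, O)) :
    θ F O x = (N F ((EtZar.zarToEt S).obj O)).presheaf.map (eqToHom (preimage_ι O).symm).op
      (usec ((EtZar.zarToEt S).obj O).hom F O x) := rfl

lemma bijective_θ (O : S.Opens) : Function.Bijective (θ F O) := by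
  haveI : IsOpenImmersion ((EtZar.zarToEt S).obj O).hom := inferInstanceAs (IsOpenImmersion O.ι)
  have h := bijective_usec_of_isOpenImmersion ((EtZar.zarToEt S).obj O).hom F O
    (by show O ≤ O.ι.opensRange; rw [Scheme.Opens.opensRange_ι])
  exact (ConcreteCategory.bijective_of_isIso
    ((N F ((EtZar.zarToEt S).obj O)).presheaf.map (eqToHom (preimage_ι O).symm).op)).comp h

lemma res_θ {O O' : S.Opens} (i : O' ⟶ O) (x : Γ(F, O)) :
    res F ((EtZar.zarToEt S).map i) (θ F O x) = θ F O' (F.presheaf.map i.op x) := by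
  rw [θ_apply, θ_apply, usec_map, res]
  erw [ρ_map, ρ_usec]
  refine (QCoh.map_map (M := N F ((EtZar.zarToEt S).obj O')) _ _ _).trans ?_
  show _ = (((N F ((EtZar.zarToEt S).obj O')).presheaf.map _ ≫ (N F ((EtZar.zarToEt S).obj O')).presheaf.map _).hom _)
  rw [← Functor.map_comp]
  rfl

variable {G : EtCoh.Ab S} (hG : EtAssoc.IsAssoc F G)

/-- The identification of the sections of an associated sheaf. -/
noncomputable def secE (U : S.Etale) : G.obj.obj (op U) ≃+ Γ(N F U, ⊤) :=
  (hG.choose U).trans AddEquiv.ulift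

lemma secE_map {U U' : S.Etale} (g : U' ⟶ U) (s : G.obj.obj (op U)) :
    secE F hG U' (G.obj.map g.op s) = res F g (secE F hG U s) :=
  (hG.choose_spec U U' g s).trans (res_eq F g _)

/-- The restriction of an associated sheaf to the Zariski site. -/
noncomputable def resZarIso [EtZar.ZarCont S] : (EtZar.resZar S).obj G ≅ (ZarLift.lift S).obj (Coh.toAb F) :=
  let e : ∀ O : S.Opens, G.obj.obj (op ((EtZar.zarToEt S).obj O)) ≃+ ULift.{u + 1} Γ(F, O) := fun O =>
    ((secE F hG _).trans (AddEquiv.ofBijective (θ F O) (bijective_θ F O)).symm).trans AddEquiv.ulift.symm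
  (fullyFaithfulSheafToPresheaf _ _).preimageIso (NatIso.ofComponents
    (fun O => AddEquiv.toAddCommGrpIso (e O.unop)) fun {O O'} i => AddCommGrpCat.hom_ext (AddMonoidHom.ext fun s => by
      refine ULift.down_injective ((bijective_θ F O'.unop).1 ?_)
      show θ F O'.unop ((AddEquiv.ofBijective _ (bijective_θ F O'.unop)).symm
          (secE F hG _ (G.obj.map ((EtZar.zarToEt S).map i.unop).op s))) =
        θ F O'.unop (F.presheaf.map i
          ((AddEquiv.ofBijective _ (bijective_θ F O.unop)).symm (secE F hG _ s)))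
      rw [secE_map]
      refine ((AddEquiv.ofBijective _ (bijective_θ F O'.unop)).apply_symm_apply _).trans ?_
      refine Eq.trans ?_ (res_θ F i.unop _)
      exact congrArg (res F _) ((AddEquiv.ofBijective _ (bijective_θ F O.unop)).apply_symm_apply _).symm))

section Affine

variable [F.IsQuasicoherent] {U : S.Etale}

/-- Scaled restriction. -/
noncomputable def smulRes (Z : Over U) : Γ(Z.left.left, ⊤) →+ Γ(N F U, ⊤) →+ Γ(N F Z.left, ⊤) :=
  AddMonoidHom.mk' (fun s => AddMonoidHom.mk' (fun m => s • res F Z.hom m)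
      fun a b => by rw [map_add, smul_add])
    fun a b => AddMonoidHom.ext fun m => add_smul a b _

lemma smulRes_smul (Z : Over U) (r : Γ(U.left, ⊤)) (s : Γ(Z.left.left, ⊤)) (m : Γ(N F U, ⊤)) :
    smulRes F Z (Z.hom.left.appTop r * s) m = smulRes F Z s (r • m) := by
  show (Z.hom.left.appTop r * s) • res F Z.hom m = s • res F Z.hom (r • m)
  rw [res_smul, ← mul_smul, mul_comm]

/-- Sections on an affine object over an affine object are the base change. -/
noncomputable def Ψ (Z : Over U) : GaAmitsur.Sec Z ⊗[Γ(U.left, ⊤)] Γ(N F U, ⊤) →+ Γ(N F Z.left, ⊤) :=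
  TensorProduct.liftAddHom (smulRes F Z) fun r s m => smulRes_smul F Z r s m

/-- The function underlying an element of `Sec`. -/
noncomputable def fn (Z : Over U) : GaAmitsur.Sec Z → Γ(Z.left.left, ⊤) := fun s => s

lemma Ψ_tmul (Z : Over U) (s : GaAmitsur.Sec Z) (m : Γ(N F U, ⊤)) :
    Ψ F Z (s ⊗ₜ[Γ(U.left, ⊤)] m) = fn Z s • res F Z.hom m := rfl

lemma bijective_Ψ [IsAffine U.left] (Z : Over U) [IsAffine Z.left.left] : Function.Bijective (Ψ F Z) := by
  let g := Z.hom.left
  let P := (Scheme.Modules.pullback g).obj (N F U)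
  letI : Algebra Γ(U.left, ⊤) Γ(Z.left.left, ⊤) := g.appTop.hom.toAlgebra
  letI : Module Γ(U.left, ⊤) Γ(P, ⊤) := Module.compHom _ (algebraMap Γ(U.left, ⊤) Γ(Z.left.left, ⊤))
  haveI : IsScalarTower Γ(U.left, ⊤) Γ(Z.left.left, ⊤) Γ(P, ⊤) := .of_algebraMap_smul fun _ _ => rfl
  have hle : (⊤ : Z.left.left.Opens) ≤ g ⁻¹ᵁ (⊤ : U.left.Opens) := le_rfl
  have happ : ∀ r, g.appLE ⊤ ⊤ hle r = g.appTop r := fun r => by
    rw [Scheme.Hom.appLE]
    exact QCoh.ringMap_id _ _
  let l : Γ(N F U, ⊤) →ₗ[Γ(U.left, ⊤)] Γ(P, ⊤) :=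
    { toFun := QCoh.pullSec g (N F U) hle
      map_add' := QCoh.pullSec_add g (N F U) hle
      map_smul' := fun r x => (QCoh.pullSec_smul g (N F U) hle r x).trans (congrArg (· • _) (happ r)) }
  have hb := QCoh.isBaseChange_pullback (isAffineOpen_top U.left) g (isAffineOpen_top Z.left.left)
    (QCoh.isQCoh_pullback U.hom ‹F.IsQuasicoherent›) hle (fun r => (happ r).symm) l fun _ => rfl
  have h2 : Function.Bijective ((EtAssoc.step2a F Z.hom).app ⊤) := by
    haveI : IsIso (EtAssoc.step2a F Z.hom) := by rw [EtAssoc.step2a]; infer_instance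
    haveI := Scheme.Modules.Hom.isIso_iff_isIso_app.1 (inferInstance : IsIso (EtAssoc.step2a F Z.hom)) ⊤
    exact ConcreteCategory.bijective_of_isIso _
  have h3 : Function.Bijective (fun x : GaAmitsur.Sec Z ⊗[Γ(U.left, ⊤)] Γ(N F U, ⊤) =>
      (EtAssoc.step2a F Z.hom).app ⊤ (hb.equiv x)) := h2.comp hb.equiv.bijective
  refine (congrArg Function.Bijective (funext fun x => ?_)).mpr h3
  induction x using TensorProduct.induction_on with
  | zero => rw [map_zero, map_zero, map_zero]
  | add a b ha hb' => rw [map_add, map_add, map_add, ha, hb']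
  | tmul s m =>
    rw [IsBaseChange.equiv_tmul]
    refine (Ψ_tmul F Z s m).trans (Eq.trans ?_ (Scheme.Modules.Hom.app_smul (EtAssoc.step2a F Z.hom) _ _).symm)
    refine congrArg (fn Z s • ·) ?_
    exact congrArg ((EtAssoc.step2a F Z.hom).app ⊤) (QCoh.map_id' (homOfLE hle) _).symm

lemma Ψ_natural {Z Z' : Over U} (f : Z' ⟶ Z) (x : GaAmitsur.Sec Z ⊗[Γ(U.left, ⊤)] Γ(N F U, ⊤)) :
    Ψ F Z' ((GaAmitsur.secMap f).toLinearMap.rTensor _ x) = res F f.left (Ψ F Z x) := by
  induction x using TensorProduct.induction_on with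
  | zero => simp
  | add a b ha hb => simp only [map_add, ha, hb]
  | tmul s m =>
    rw [LinearMap.rTensor_tmul]
    refine (Ψ_tmul F Z' _ m).trans ((congrArg (fn Z' (GaAmitsur.secMap f s) • ·) ?_).trans
      ((res_smul F f.left s (res F Z.hom m)).symm.trans (congrArg (res F f.left) (Ψ_tmul F Z s m).symm)))
    rw [← res_comp, CategoryTheory.Over.w f]

end Affine

lemma secE_sum {U : S.Etale} {n : ℕ} (f : Fin n → G.obj.obj (op U)) :
    secE F hG U (∑ j, f j) = ∑ j, secE F hG U (f j) :=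
  map_sum (secE F hG U) f Finset.univ

include hG in
/-- An associated sheaf has no higher Čech cohomology on affine objects. -/
theorem isAffAcyclic [F.IsQuasicoherent] : AffineCartan.IsAffAcyclic G := by
  intro U _ Y hU hY hs p
  haveI := hs
  haveI := GaAmitsur.faithfullyFlat_sec U Y
  haveI : LocallySmall.{u + 1} S.Etale := ⟨fun _ _ => inferInstance⟩
  let M := Γ(N F U, ⊤)
  have hbij : ∀ n, Function.Bijective fun y => Ψ F (∏ᶜ fun _ : Fin (n + 1) => Y)
      ((GaAmitsur.Φ Y n).toLinearMap.rTensor M y) := fun n => by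
    haveI : IsAffine (∏ᶜ fun _ : Fin (n + 1) => Y).left.left :=
      AffineCartan.isAffine_prod n (fun _ => Y) fun _ => hY
    refine (bijective_Ψ F _).comp ?_
    exact (TensorProduct.congr (LinearEquiv.ofBijective (GaAmitsur.Φ Y n).toLinearMap
      ⟨Function.LeftInverse.injective (g := fun z => GaAmitsur.qSec Y n (GaAmitsur.secMap (GaAmitsur.σ Y n) z))
        (GaAmitsur.left_inv Y n),
        Function.RightInverse.surjective (GaAmitsur.right_inv Y n)⟩) (LinearEquiv.refl _ M)).bijective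
  have hD : ∀ (n : ℕ) y, Ψ F (∏ᶜ fun _ : Fin (n + 2) => Y)
      ((GaAmitsur.Φ Y (n + 1)).toLinearMap.rTensor M (AmitsurMod.DM _ _ M n y)) =
      ∑ j : Fin (n + 2), (-1 : ℤ) ^ (j : ℕ) •
        res F (GaAmitsur.tm Y n j).left (Ψ F _ ((GaAmitsur.Φ Y n).toLinearMap.rTensor M y)) := by
    intro n y
    rw [AmitsurMod.DM_apply, map_sum, map_sum]
    refine Finset.sum_congr rfl fun j _ => ?_
    rw [map_zsmul, map_zsmul]
    congr 1
    rw [← Ψ_natural, ← LinearMap.rTensor_comp_apply, ← LinearMap.rTensor_comp_apply]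
    congr 3
    exact LinearMap.ext fun t => GaAmitsur.Φ_face Y n j t
  refine (HomologicalComplex.exactAt_iff_isZero_homology _ _).1 ?_
  rw [HomologicalComplex.exactAt_iff' _ p (p + 1) (p + 2) (by simp) (by simp), ShortComplex.ab_exact_iff]
  intro (x : (EtCech.cechComplex (fun _ : PUnit.{u + 2} => Y) G.obj).X (p + 1))
    (hx : ((EtCech.cechComplex (fun _ : PUnit.{u + 2} => Y) G.obj).d (p + 1) (p + 2)).hom x = 0)
  obtain ⟨y, hy⟩ := (hbij (p + 1)).2 (secE F hG _
    (CechInjGen.cev (fun _ : PUnit.{u + 2} => Y) G.obj (p + 1) (fun _ => ⟨⟩) x))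
  have hy0 : AmitsurMod.DM Γ(U.left, ⊤) (GaAmitsur.Sec Y) M (p + 1) y = 0 := by
    refine (hbij (p + 2)).1 ?_
    show Ψ F _ _ = Ψ F _ _
    rw [hD, map_zero, map_zero]
    refine Eq.trans ?_ ((congrArg (secE F hG _) ((congrArg (CechInjGen.cev (fun _ : PUnit.{u + 2} => Y)
      G.obj (p + 2) (fun _ => ⟨⟩)) hx).trans (map_zero _))).trans (map_zero _))
    rw [CechInjGen.cev_d]
    refine Eq.trans ?_ (secE_sum F hG _).symm
    refine Finset.sum_congr rfl fun j _ => ?_
    refine Eq.trans ?_ (map_zsmul (secE F hG _) _ _).symm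
    exact congrArg (_ • ·) ((congrArg (res F _) hy).trans (secE_map F hG _ _).symm)
  obtain ⟨w, hw⟩ := AmitsurMod.exact_DM M p y hy0
  obtain ⟨z, hz⟩ := CechInjGen.exists_cev (fun _ : PUnit.{u + 2} => Y) G.obj (n := p)
    fun _ => (secE F hG _).symm (Ψ F _ ((GaAmitsur.Φ Y p).toLinearMap.rTensor M w))
  refine ⟨z, CechInjGen.cev_ext _ _ fun i => ?_⟩
  refine (CechInjGen.cev_d _ _ p i z).trans ((secE F hG _).injective ?_)
  refine (secE_sum F hG _).trans ?_
  refine Eq.trans ?_ ((congrArg (fun t => Ψ F _ ((GaAmitsur.Φ Y (p + 1)).toLinearMap.rTensor M t)) hw).trans hy)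
  rw [hD]
  refine Finset.sum_congr rfl fun j _ => ?_
  refine (map_zsmul (secE F hG _) _ _).trans (congrArg (_ • ·) ?_)
  refine (secE_map F hG _ _).trans (congrArg (res F _) ?_)
  rw [hz]
  exact (secE F hG _).apply_symm_apply _

end Groth.Agent.EtLC12.AssocSec
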