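import Groth.Agent.EtLC12.AssocZariski

/-!
# The presheaf associated to a quasi-coherent module is an étale sheaf
-/

set_option autoImplicit false
set_option backward.isDefEq.respectTransparency false
set_option backward.isDefEq.respectTransparency.types false

universe u

open CategoryTheory CategoryTheory.Limits AlgebraicGeometry TopologicalSpace Opposite
open scoped TensorProduct

namespace Groth.Agent.EtLC12.AssocSheaf

open Groth.Agent.DescLib AssocUnit AssocSec AffineSheafCrit

variable {S : Scheme.{u}} (F : S.Modules) [F.IsQuasicoherent]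

theorem affineSheaf : AffineSheaf (pre F) := by
  intro V T g hV hT hg
  haveI : HasFiniteProducts (Over V) := hasFiniteProducts_of_has_binary_and_terminal
  let Y : Over V := CategoryTheory.Over.mk g
  haveI : IsAffine Y.left.left := hT
  haveI : Surjective Y.hom.left := hg
  haveI := GaAmitsur.faithfullyFlat_sec V Y
  let M := Γ(N F V, ⊤)
  have hΨ := bijective_Ψ F Y
  have h1 : ∀ m, res F g m = Ψ F Y ((1 : GaAmitsur.Sec Y) ⊗ₜ[Γ(V.left, ⊤)] m) := fun m =>
    ((Ψ_tmul F Y 1 m).trans (one_smul Γ(T.left, ⊤) _)).symm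
  refine ⟨fun a b hab => ?_, fun t ht => ?_⟩
  · refine ULift.down_injective (Module.FaithfullyFlat.tensorProduct_mk_injective
      (A := Γ(V.left, ⊤)) (B := GaAmitsur.Sec Y) M (hΨ.1 ?_))
    exact (h1 a.down).symm.trans ((congrArg ULift.down hab).trans (h1 b.down))
  obtain ⟨z, hz⟩ := hΨ.2 t.down
  haveI : IsAffine (∏ᶜ fun _ : Fin 2 => Y).left.left := AffineCartan.isAffine_prod 1 (fun _ => Y) fun _ => hT
  let π : ∀ _ : Fin 2, (∏ᶜ fun _ : Fin 2 => Y) ⟶ Y := fun k => Pi.π (fun _ : Fin 2 => Y) k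
  have hw : ∀ k : Fin 2, (π k).left ≫ g = (∏ᶜ fun _ : Fin 2 => Y).hom := fun k => CategoryTheory.Over.w (π k)
  have hπ : res F (π 1).left t.down = res F (π 0).left t.down := by
    let l := pullback.lift (π 1).left (π 0).left ((hw 1).trans (hw 0).symm)
    rw [show (π 1).left = l ≫ pullback.fst g g from (pullback.lift_fst _ _ _).symm,
      show (π 0).left = l ≫ pullback.snd g g from (pullback.lift_snd _ _ _).symm, res_comp, res_comp]
    exact congrArg (res F l) (congrArg ULift.down ht)
  let A := GaAmitsur.Sec Y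
  let R := Γ(V.left, ⊤)
  have e : ∀ j : Fin 2, Ψ F (∏ᶜ fun _ : Fin 2 => Y) ((GaAmitsur.Φ Y 1).toLinearMap.rTensor M
      ((AmitsurAll.face R A 0 j).toLinearMap.rTensor M (z : AmitsurAll.T R A 0 ⊗[R] M))) =
        res F (π (j.succAbove 0)).left t.down := fun j => by
    rw [← LinearMap.rTensor_comp_apply]
    refine Eq.trans ?_ (congrArg (res F (π (j.succAbove 0)).left) hz)
    refine Eq.trans ?_ (Ψ_natural F (π (j.succAbove 0)) z)
    congr 3
    exact LinearMap.ext fun a => (congrArg (GaAmitsur.Φ Y 1) (show AmitsurAll.face R A 0 j a = AmitsurAll.incl R A 1 (j.succAbove 0) a from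
      AmitsurAll.lift_incl (R := R) (A := A) (n := 0) _ 0 a)).trans
      (GaAmitsur.Φ_incl Y 1 _ a)
  have hbij : Function.Bijective fun y => Ψ F (∏ᶜ fun _ : Fin 2 => Y)
      ((GaAmitsur.Φ Y 1).toLinearMap.rTensor M y) :=
    (bijective_Ψ F _).comp (TensorProduct.congr (LinearEquiv.ofBijective (GaAmitsur.Φ Y 1).toLinearMap
      ⟨Function.LeftInverse.injective (g := fun z => GaAmitsur.qSec Y 1 (GaAmitsur.secMap (GaAmitsur.σ Y 1) z))
        (GaAmitsur.left_inv Y 1),
        Function.RightInverse.surjective (GaAmitsur.right_inv Y 1)⟩) (LinearEquiv.refl _ M)).bijective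
  have heq : (AmitsurAll.face R A 0 0).toLinearMap.rTensor M (z : AmitsurAll.T R A 0 ⊗[R] M) =
      (AmitsurAll.face R A 0 1).toLinearMap.rTensor M (z : AmitsurAll.T R A 0 ⊗[R] M) :=
    hbij.1 ((e 0).trans (hπ.trans (e 1).symm))
  have hassoc : ∀ w : A ⊗[R] M,
      TensorProduct.assoc R A A M ((AmitsurAll.face R A 0 0).toLinearMap.rTensor M (w : AmitsurAll.T R A 0 ⊗[R] M)) =
        TensorProduct.mk R A (A ⊗[R] M) 1 w ∧
      TensorProduct.assoc R A A M ((AmitsurAll.face R A 0 1).toLinearMap.rTensor M (w : AmitsurAll.T R A 0 ⊗[R] M)) =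
        LinearMap.lTensor A (TensorProduct.mk R A M 1) w := by
    intro w
    induction w using TensorProduct.induction_on with
    | zero => exact ⟨by simp only [map_zero], by simp only [map_zero]⟩
    | add u v hu hv =>
      exact ⟨((congrArg _ (map_add _ u v)).trans (map_add _ _ _)).trans
          ((congrArg₂ (· + ·) hu.1 hv.1).trans (map_add _ u v).symm),
        ((congrArg _ (map_add _ u v)).trans (map_add _ _ _)).trans
          ((congrArg₂ (· + ·) hu.2 hv.2).trans (map_add _ u v).symm)⟩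
    | tmul a m =>
      refine ⟨?_, ?_⟩
      · show TensorProduct.assoc R A A M (((1 : A) ⊗ₜ[R] a) ⊗ₜ[R] m) = _
        rfl
      · show TensorProduct.assoc R A A M ((a ⊗ₜ[R] (1 : A)) ⊗ₜ[R] m) = _
        rfl
  obtain ⟨m, hm⟩ := amitsur_degree_zero M z
    ((hassoc z).1.symm.trans ((congrArg (TensorProduct.assoc R A A M) heq).trans (hassoc z).2))
  refine ⟨ULift.up m, ULift.down_injective ((h1 m).trans ?_)⟩
  exact (congrArg (Ψ F Y) hm).trans hz

/-- The associated sheaf. -/
theorem exists_isAssoc : ∃ G : EtCoh.Ab S, EtAssoc.IsAssoc F G :=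
  ⟨⟨pre F, AffineSheafCrit.isSheaf (zariskiSheaf F) (affineSheaf F)⟩,
    fun _ => AddEquiv.refl _, fun _ _ g s => (res_eq F g s.down).symm⟩

end Groth.Agent.EtLC12.AssocSheaf
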