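import Groth.Prelude.Def_EtAssoc2
import Groth.Agent.QCoh.PullbackBC

/-!
# Pulled-back sections along étale morphisms and their restriction maps
-/

set_option autoImplicit false
set_option backward.isDefEq.respectTransparency false
set_option backward.isDefEq.respectTransparency.types false

universe u

open CategoryTheory CategoryTheory.Limits AlgebraicGeometry TopologicalSpace Opposite

namespace Groth.Agent.EtLC12.AssocUnit

open Groth.Agent.QCoh

variable {X Y Z : Scheme.{u}}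

/-- Pulled-back sections. -/
noncomputable def usec (f : X ⟶ Y) (M : Y.Modules) (O : Y.Opens) (x : Γ(M, O)) :
    Γ((Scheme.Modules.pullback f).obj M, f ⁻¹ᵁ O) :=
  ((Scheme.Modules.pullbackPushforwardAdjunction f).unit.app M).app O x

lemma usec_map (f : X ⟶ Y) (M : Y.Modules) {O O' : Y.Opens} (i : O' ⟶ O) (x : Γ(M, O)) :
    usec f M O' (M.presheaf.map i.op x) =
      ((Scheme.Modules.pullback f).obj M).presheaf.map ((Opens.map f.base).map i).op (usec f M O x) :=
  map_app_comm _ i x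

lemma usec_comp (f : X ⟶ Y) (g : Y ⟶ Z) (M : Z.Modules) (O : Z.Opens) (x : Γ(M, O)) :
    ((Scheme.Modules.pullbackComp f g).hom.app M).app (f ⁻¹ᵁ (g ⁻¹ᵁ O))
        (usec f _ (g ⁻¹ᵁ O) (usec g M O x)) = usec (f ≫ g) M O x := by
  let a₁ := (Scheme.Modules.pullbackPushforwardAdjunction g).comp (Scheme.Modules.pullbackPushforwardAdjunction f)
  let a₂ := Scheme.Modules.pullbackPushforwardAdjunction (f ≫ g)
  have h := unit_conjugateEquiv a₁ a₂ (Scheme.Modules.pullbackComp f g).inv M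
  rw [Scheme.Modules.conjugateEquiv_pullbackComp_inv] at h
  have h' := congrArg (fun t => t ≫ (Scheme.Modules.pushforward (f ≫ g)).map
    ((Scheme.Modules.pullbackComp f g).hom.app M)) h
  simp only [Category.assoc, ← Functor.map_comp, Iso.inv_hom_id_app, CategoryTheory.Functor.map_id,
    Category.comp_id] at h'
  exact congrArg (fun t : M ⟶ (Scheme.Modules.pushforward (f ≫ g)).obj _ => t.app O x) h'

lemma usec_congr {f g : X ⟶ Y} (h : f = g) (M : Y.Modules) (O : Y.Opens) (x : Γ(M, O)) :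
    (eqToHom (congrArg (fun h => (Scheme.Modules.pullback h).obj M) h)).app (f ⁻¹ᵁ O) (usec f M O x) =
      ((Scheme.Modules.pullback g).obj M).presheaf.map (eqToHom (by rw [h])).op (usec g M O x) := by
  subst h
  simp

lemma bijective_usec_of_isOpenImmersion (f : X ⟶ Y) [IsOpenImmersion f] (M : Y.Modules) (O : Y.Opens)
    (hO : O ≤ f.opensRange) : Function.Bijective (usec f M O) := by
  have h := Adjunction.unit_leftAdjointUniq_hom_app (Scheme.Modules.restrictAdjunction f)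
    (Scheme.Modules.pullbackPushforwardAdjunction f) M
  have hbij : Function.Bijective (((Scheme.Modules.restrictAdjunction f).unit.app M).app O) := by
    rw [Scheme.Modules.restrictAdjunction_unit_app_app]
    have e : f ''ᵁ f ⁻¹ᵁ O = O := by
      rw [Scheme.Hom.image_preimage_eq_opensRange_inf, inf_eq_right.2 hO]
    have : IsIso (homOfLE (f.image_preimage_le O)).op := ⟨(homOfLE e.ge).op, Subsingleton.elim _ _, Subsingleton.elim _ _⟩
    exact ConcreteCategory.bijective_of_isIso (M.presheaf.map (homOfLE (f.image_preimage_le O)).op)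
  let e := (Scheme.Modules.restrictFunctorIsoPullback f).app M
  have he : Function.Bijective (e.hom.app (f ⁻¹ᵁ O)) := by
    haveI := Scheme.Modules.Hom.isIso_iff_isIso_app.1 (inferInstance : IsIso e.hom) (f ⁻¹ᵁ O)
    exact ConcreteCategory.bijective_of_isIso _
  have : usec f M O = fun x => e.hom.app (f ⁻¹ᵁ O) (((Scheme.Modules.restrictAdjunction f).unit.app M).app O x) :=
    funext fun x => (congrArg (fun t : M ⟶ (Scheme.Modules.pushforward f).obj _ => t.app O x) h).symm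
  rw [this]
  exact he.comp hbij

variable {S : Scheme.{u}} (F : S.Modules)

/-- The pullback of `F` to an étale scheme. -/
noncomputable abbrev N (U : S.Etale) : U.left.Modules := (Scheme.Modules.pullback U.hom).obj F

/-- The restriction map over all opens. -/
noncomputable def ρ {U U' : S.Etale} (g : U' ⟶ U) (W : U.left.Opens) :
    Γ(N F U, W) →+ Γ(N F U', g.left ⁻¹ᵁ W) :=
  (((Scheme.Modules.pullbackPushforwardAdjunction g.left).unit.app (N F U)).app W ≫
    (EtAssoc.step2a F g).app (g.left ⁻¹ᵁ W)).hom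

lemma ρ_apply {U U' : S.Etale} (g : U' ⟶ U) (W : U.left.Opens) (z : Γ(N F U, W)) :
    ρ F g W z = (EtAssoc.step2a F g).app (g.left ⁻¹ᵁ W) (usec g.left (N F U) W z) := rfl

lemma ρ_map {U U' : S.Etale} (g : U' ⟶ U) {W W' : U.left.Opens} (i : W' ⟶ W) (z : Γ(N F U, W)) :
    ρ F g W' ((N F U).presheaf.map i.op z) =
      (N F U').presheaf.map ((Opens.map g.left.base).map i).op (ρ F g W z) := by
  rw [ρ_apply, ρ_apply, usec_map]
  exact map_app_comm _ _ _

lemma resMap_eq {U U' : S.Etale} (g : U' ⟶ U) (z : EtAssoc.obj F U) :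
    EtAssoc.resMap F g z = ρ F g ⊤ z := by
  refine congrArg ((EtAssoc.step2a F g).app ⊤) ?_
  exact map_id' _ (show Γ((Scheme.Modules.pullback g.left).obj (N F U), (⊤ : U'.left.Opens)) from
    usec g.left (N F U) ⊤ z)

lemma ρ_smul {U U' : S.Etale} (g : U' ⟶ U) (W : U.left.Opens) (r : Γ(U.left, W)) (z : Γ(N F U, W)) :
    ρ F g W (r • z) = g.left.app W r • ρ F g W z := by
  rw [ρ_apply, ρ_apply, usec, Scheme.Modules.Hom.app_smul]
  exact Scheme.Modules.Hom.app_smul (EtAssoc.step2a F g) (g.left.app W r) _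

lemma preimage_hom {U U' : S.Etale} (g : U' ⟶ U) (O : S.Opens) :
    g.left ⁻¹ᵁ (U.hom ⁻¹ᵁ O) = U'.hom ⁻¹ᵁ O := by
  rw [← Scheme.Hom.comp_preimage]
  exact congrArg (fun h : U'.left ⟶ S => h ⁻¹ᵁ O) (MorphismProperty.Over.w g)

lemma ρ_usec {U U' : S.Etale} (g : U' ⟶ U) (O : S.Opens) (x : Γ(F, O)) :
    ρ F g (U.hom ⁻¹ᵁ O) (usec U.hom F O x) =
      (N F U').presheaf.map (eqToHom (preimage_hom g O)).op (usec U'.hom F O x) := by
  rw [ρ_apply, EtAssoc.step2a, Iso.app_hom, Scheme.Modules.Hom.comp_app, ConcreteCategory.comp_apply]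
  have h := usec_comp g.left U.hom F O x
  refine (congrArg (fun t => (eqToHom (congrArg (fun h => (Scheme.Modules.pullback h).obj F) (Over.w g.hom))).app
    (g.left ⁻¹ᵁ (U.hom ⁻¹ᵁ O)) t) h).trans ?_
  exact usec_congr (Over.w g.hom) F O x

lemma exists_affine_le {U : S.Etale} (p : U.left) : ∃ (V : S.Opens) (W : U.left.Opens),
    IsAffineOpen V ∧ IsAffineOpen W ∧ p ∈ W ∧ W ≤ U.hom ⁻¹ᵁ V := by
  obtain ⟨V, hV, hpV, -⟩ := exists_isAffineOpen_mem_and_subset (U := (⊤ : S.Opens))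
    (x := U.hom.base p) (Opens.mem_top _)
  obtain ⟨W, hW, hpW, hle⟩ := exists_isAffineOpen_mem_and_subset (U := U.hom ⁻¹ᵁ V) (x := p) hpV
  exact ⟨V, W, hV, hW, hpW, hle⟩

lemma span_usec [F.IsQuasicoherent] {U : S.Etale} {V : S.Opens} (hV : IsAffineOpen V) {W : U.left.Opens}
    (hW : IsAffineOpen W) (hle : W ≤ U.hom ⁻¹ᵁ V) (P : Γ(N F U, W) → Prop) (h0 : P 0)
    (hx : ∀ x, P ((N F U).presheaf.map (homOfLE hle).op (usec U.hom F V x)))
    (hsmul : ∀ (r : Γ(U.left, W)) z, P z → P (r • z)) (hadd : ∀ z z', P z → P z' → P (z + z'))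
    (z : Γ(N F U, W)) : P z := by
  let f : U.left ⟶ S := U.hom
  letI : Algebra Γ(S, V) Γ(U.left, W) := (f.appLE V W hle).hom.toAlgebra
  letI : Module Γ(S, V) Γ((Scheme.Modules.pullback f).obj F, W) :=
    Module.compHom _ (algebraMap Γ(S, V) Γ(U.left, W))
  haveI : IsScalarTower Γ(S, V) Γ(U.left, W) Γ((Scheme.Modules.pullback f).obj F, W) :=
    .of_algebraMap_smul fun _ _ => rfl
  let l : Γ(F, V) →ₗ[Γ(S, V)] Γ((Scheme.Modules.pullback f).obj F, W) :=
    { toFun := pullSec f F hle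
      map_add' := pullSec_add f F hle
      map_smul' := fun r x => pullSec_smul f F hle r x }
  exact (isBaseChange_pullback hV f hW ‹_› hle (fun _ => rfl) l fun _ => rfl).inductionOn z P h0 hx
    hsmul hadd

/-- Semilinear natural families agreeing on pulled-back sections are equal. -/
theorem family_ext [F.IsQuasicoherent] {U U' : S.Etale} (g : U'.left ⟶ U.left)
    (a b : ∀ W : U.left.Opens, Γ(N F U, W) →+ Γ(N F U', g ⁻¹ᵁ W))
    (ha : ∀ (W W' : U.left.Opens) (i : W' ⟶ W) z,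
      a W' ((N F U).presheaf.map i.op z) = (N F U').presheaf.map ((Opens.map g.base).map i).op (a W z))
    (hb : ∀ (W W' : U.left.Opens) (i : W' ⟶ W) z,
      b W' ((N F U).presheaf.map i.op z) = (N F U').presheaf.map ((Opens.map g.base).map i).op (b W z))
    (has : ∀ W (r : Γ(U.left, W)) z, a W (r • z) = g.app W r • a W z)
    (hbs : ∀ W (r : Γ(U.left, W)) z, b W (r • z) = g.app W r • b W z)
    (hab : ∀ (O : S.Opens) (x : Γ(F, O)), a _ (usec U.hom F O x) = b _ (usec U.hom F O x))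
    (W : U.left.Opens) (z : Γ(N F U, W)) : a W z = b W z := by
  refine sub_eq_zero.1 (eq_zero_of_locally (g ⁻¹ᵁ W) _ fun p hp => ?_)
  obtain ⟨V, W₁, hV, hW₁, hpW₁, hle₁⟩ := exists_affine_le (U := U) (g.base p)
  obtain ⟨W₂, hW₂, hpW₂, hle₂⟩ := exists_isAffineOpen_mem_and_subset (U := W ⊓ W₁) (x := g.base p) ⟨hp, hpW₁⟩
  have hWW : W₂ ≤ W := hle₂.trans inf_le_left
  have hWV : W₂ ≤ U.hom ⁻¹ᵁ V := (hle₂.trans inf_le_right).trans hle₁
  refine ⟨g ⁻¹ᵁ W₂, (Opens.map g.base).map (homOfLE hWW), hpW₂, ?_⟩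
  rw [map_sub, sub_eq_zero, ← ha, ← hb]
  generalize (N F U).presheaf.map (homOfLE hWW).op z = y
  induction y using span_usec F hV hW₂ hWV with
  | h0 => rw [map_zero, map_zero]
  | hx x => rw [ha, hb, hab]
  | hsmul r y h => rw [has, hbs, h]
  | hadd y y' h h' => rw [map_add, map_add, h, h']

theorem ρ_id [F.IsQuasicoherent] (U : S.Etale) (W : U.left.Opens) (z : Γ(N F U, W)) : ρ F (𝟙 U) W z = z :=
  family_ext F (𝟙 U.left) (ρ F (𝟙 U)) (fun W => AddMonoidHom.id _) (fun _ _ i z => ρ_map F (𝟙 U) i z)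
    (fun _ _ _ _ => rfl) (fun W r z => ρ_smul F (𝟙 U) W r z) (fun _ _ _ => rfl)
    (fun O x => (ρ_usec F (𝟙 U) O x).trans (map_id' _ _)) W z

theorem ρ_comp [F.IsQuasicoherent] {U U' U'' : S.Etale} (g' : U'' ⟶ U') (g : U' ⟶ U) (W : U.left.Opens)
    (z : Γ(N F U, W)) : ρ F (g' ≫ g) W z = ρ F g' (g.left ⁻¹ᵁ W) (ρ F g W z) :=
  family_ext F (g'.left ≫ g.left) (ρ F (g' ≫ g)) (fun W => (ρ F g' (g.left ⁻¹ᵁ W)).comp (ρ F g W))
    (fun _ _ i z => ρ_map F (g' ≫ g) i z)
    (fun W W' i z => by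
      show ρ F g' _ (ρ F g W' _) = _
      rw [ρ_map]
      exact ρ_map F g' _ _)
    (fun W r z => ρ_smul F (g' ≫ g) W r z)
    (fun W r z => by
      show ρ F g' _ (ρ F g W _) = _
      rw [ρ_smul, ρ_smul]
      rfl)
    (fun O x => by
      refine (ρ_usec F (g' ≫ g) O x).trans (Eq.symm ?_)
      show ρ F g' _ (ρ F g _ _) = _
      rw [ρ_usec, ρ_map, ρ_usec]
      exact map_map (M := N F U'') _ _ _) W z

end Groth.Agent.EtLC12.AssocUnit
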