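import Groth.Agent.EtLC12.AssocSec
import Groth.Agent.EtLC12.AffineSheafCrit

/-!
# The presheaf associated to a quasi-coherent module is a Zariski sheaf on the étale site
-/

set_option autoImplicit false
set_option backward.isDefEq.respectTransparency false
set_option backward.isDefEq.respectTransparency.types false

universe u

open CategoryTheory CategoryTheory.Limits AlgebraicGeometry TopologicalSpace Opposite
open scoped TensorProduct

namespace Groth.Agent.EtLC12.AssocSheaf

open Groth.Agent.DescLib AssocUnit AssocSec AffineSheafCrit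

variable {S : Scheme.{u}} (F : S.Modules)

/-- Pull back sections over an open whose preimage is everything. -/
noncomputable def L {U U' : S.Etale} (g : U' ⟶ U) (O : U.left.Opens) (h : g.left ⁻¹ᵁ O = ⊤) :
    Γ(N F U, O) →+ Γ(N F U', ⊤) :=
  ((N F U').presheaf.map (eqToHom h.symm).op).hom.comp (ρ F g O)

lemma L_map {U U' : S.Etale} (g : U' ⟶ U) {O O' : U.left.Opens} (i : O' ⟶ O) (h : g.left ⁻¹ᵁ O = ⊤)
    (h' : g.left ⁻¹ᵁ O' = ⊤) (z : Γ(N F U, O)) :
    L F g O' h' ((N F U).presheaf.map i.op z) = L F g O h z := by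
  show (N F U').presheaf.map _ (ρ F g O' ((N F U).presheaf.map i.op z)) = (N F U').presheaf.map _ (ρ F g O z)
  rw [ρ_map]
  exact QCoh.map_map (M := N F U') _ _ _

lemma L_top {U U' : S.Etale} (g : U' ⟶ U) (z : Γ(N F U, ⊤)) : L F g ⊤ rfl z = res F g z :=
  QCoh.map_id' (M := N F U') _ _

lemma bijective_L {U U' : S.Etale} (g : U' ⟶ U) [IsOpenImmersion g.left] (O : U.left.Opens)
    (hO : O ≤ g.left.opensRange) (h : g.left ⁻¹ᵁ O = ⊤) : Function.Bijective (L F g O h) := by
  have h1 := bijective_usec_of_isOpenImmersion g.left (N F U) O hO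
  have h2 : Function.Bijective ((EtAssoc.step2a F g).app (g.left ⁻¹ᵁ O)) := by
    haveI : IsIso (EtAssoc.step2a F g) := by rw [EtAssoc.step2a]; infer_instance
    haveI := Scheme.Modules.Hom.isIso_iff_isIso_app.1 (inferInstance : IsIso (EtAssoc.step2a F g)) (g.left ⁻¹ᵁ O)
    exact ConcreteCategory.bijective_of_isIso _
  exact (ConcreteCategory.bijective_of_isIso ((N F U').presheaf.map (eqToHom h.symm).op)).comp (h2.comp h1)

lemma preimage_range {U U' : S.Etale} (g : U' ⟶ U) [IsOpenImmersion g.left] :
    g.left ⁻¹ᵁ g.left.opensRange = ⊤ :=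
  Scheme.Hom.preimage_opensRange _

variable [F.IsQuasicoherent]

lemma L_comp {U U' U'' : S.Etale} (a : U'' ⟶ U') (g : U' ⟶ U) (O : U.left.Opens) (h : g.left ⁻¹ᵁ O = ⊤)
    (h' : (a ≫ g).left ⁻¹ᵁ O = ⊤) (z : Γ(N F U, O)) : L F (a ≫ g) O h' z = res F a (L F g O h z) := by
  show (N F U'').presheaf.map _ (ρ F (a ≫ g) O z) = ρ F a ⊤ ((N F U').presheaf.map _ (ρ F g O z))
  rw [ρ_comp, ρ_map]
  rfl

theorem zariskiSheaf : ZariskiSheaf (pre F) := by
  intro U I W g hg hcov
  haveI := hg
  rw [Presieve.isSheafFor_arrows_iff]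
  intro x hx
  let O : I → U.left.Opens := fun i => (g i).left.opensRange
  have hb : ∀ i, Function.Bijective (L F (g i) (O i) (preimage_range (g i))) := fun i =>
    bijective_L F (g i) (O i) le_rfl _
  choose y hy using fun i => (hb i).2 (x i).down
  have hcover : (⊤ : U.left.Opens) ≤ iSup O := fun p _ => by
    obtain ⟨i, w, hw⟩ := hcov p
    exact Opens.mem_iSup.2 ⟨i, w, hw⟩
  have hcomp : TopCat.Presheaf.IsCompatible (N F U).presheaf O y := fun i j => by
    let O' := O i ⊓ O j
    let j' := openι U O'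
    have hj : j'.left ⁻¹ᵁ O' = ⊤ := O'.ι_preimage_self
    have hj' : O' ≤ j'.left.opensRange := by
      show O' ≤ O'.ι.opensRange
      rw [Scheme.Opens.opensRange_ι]
    refine (bijective_L F j' O' hj' hj).1 ?_
    have lift : ∀ k, O' ≤ O k → ∃ a : openObj U O' ⟶ W k, a ≫ g k = j' := fun k hk => by
      let l : (openObj U O').left ⟶ (W k).left := IsOpenImmersion.lift (g k).left j'.left (by
        rintro _ ⟨w, rfl⟩
        exact hk (w : O'.toScheme).2)
      have hl : l ≫ (g k).left = j'.left := IsOpenImmersion.lift_fac _ _ _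
      refine ⟨MorphismProperty.Over.homMk l ?_ trivial, MorphismProperty.Over.Hom.ext hl⟩
      rw [← MorphismProperty.Over.w (g k), ← Category.assoc]
      exact (congrArg (· ≫ U.hom) hl).trans (MorphismProperty.Over.w j')
    obtain ⟨a, ha⟩ := lift i inf_le_left
    obtain ⟨b, hb'⟩ := lift j inf_le_right
    have htop : ∀ k, O' ≤ O k → j'.left ⁻¹ᵁ O k = ⊤ := fun k hk =>
      top_le_iff.1 (hj.ge.trans ((Opens.map j'.left.base).map (homOfLE hk)).le)
    have e₁ : L F j' O' hj ((N F U).presheaf.map (Opens.infLELeft (O i) (O j)).op (y i)) = res F a (x i).down := by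
      rw [L_map F j' _ (htop i inf_le_left)]
      have : L F (a ≫ g i) (O i) (by rw [ha]; exact htop i inf_le_left) (y i) = res F a (x i).down := by
        rw [L_comp F a (g i) (O i) (preimage_range (g i)), hy]
      convert this using 4
      exact ha.symm
    have e₂ : L F j' O' hj ((N F U).presheaf.map (Opens.infLERight (O i) (O j)).op (y j)) = res F b (x j).down := by
      rw [L_map F j' _ (htop j inf_le_right)]
      have : L F (b ≫ g j) (O j) (by rw [hb']; exact htop j inf_le_right) (y j) = res F b (x j).down := by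
        rw [L_comp F b (g j) (O j) (preimage_range (g j)), hy]
      convert this using 4
      exact hb'.symm
    exact e₁.trans ((congrArg ULift.down (hx i j (openObj U O') a b (ha.trans hb'.symm))).trans e₂.symm)
  obtain ⟨s, hs, huniq⟩ := TopCat.Sheaf.existsUnique_gluing' ⟨(N F U).presheaf, (N F U).isSheaf⟩ O ⊤
    (fun i => homOfLE le_top) hcover y hcomp
  have hres : ∀ (z : Γ(N F U, ⊤)) i,
      res F (g i) z = L F (g i) (O i) (preimage_range (g i)) ((N F U).presheaf.map (homOfLE le_top).op z) :=
    fun z i => by rw [L_map F (g i) _ rfl, L_top]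
  refine ⟨ULift.up s, fun i => ULift.down_injective ?_, fun t ht => ULift.down_injective (huniq t.down fun i => (hb i).1 ?_)⟩
  · show res F (g i) s = _
    rw [hres]
    exact (congrArg _ (hs i)).trans (hy i)
  · exact (hres t.down i).symm.trans ((congrArg ULift.down (ht i)).trans (hy i).symm)

end Groth.Agent.EtLC12.AssocSheaf
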