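import Mathlib.RingTheory.Smooth.StandardSmoothOfFree
import Mathlib.RingTheory.Smooth.Basic
import Mathlib.RingTheory.Etale.Kaehler
import Mathlib.RingTheory.Unramified.Basic
import Mathlib.RingTheory.Nakayama
import Mathlib.RingTheory.LocalRing.Module
import Mathlib.RingTheory.Localization.Free
import Mathlib.LinearAlgebra.TensorProduct.RightExactness

/-!
# Cutting étale subschemes out of smooth algebras
-/

set_option backward.isDefEq.respectTransparency false
set_option backward.isDefEq.respectTransparency.types false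

universe u

open TensorProduct KaehlerDifferential

namespace Groth.Agent.EtLC12.CutEtale

section Quotient

variable {R B : Type u} [CommRing R] [CommRing B] [Algebra R B]

/-- The quotient of a smooth algebra by functions whose differentials are part of a basis is
smooth. -/
theorem smooth_quotient [Algebra.Smooth R B] {ι κ : Type u} [Finite ι] (f : ι → B)
    (b : Module.Basis (ι ⊕ κ) B (Ω[B⁄R])) (hb : ∀ i, b (Sum.inl i) = D R B (f i)) :
    Algebra.Smooth R (B ⧸ Ideal.span (Set.range f)) := by
  set J := Ideal.span (Set.range f) with hJ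
  let C := B ⧸ J
  let K := RingHom.ker (algebraMap B C)
  have hK : K = J := Ideal.mk_ker
  have hfK : ∀ i, f i ∈ K := fun i => hK ▸ Ideal.subset_span ⟨i, rfl⟩
  let l0 : Ω[B⁄R] →ₗ[B] K.Cotangent :=
    b.constr B (Sum.elim (fun i => K.toCotangent ⟨f i, hfK i⟩) 0)
  have hkill : ∀ j ∈ J, ∀ t : K.Cotangent, j • t = 0 := by
    intro j hj t
    obtain ⟨y, rfl⟩ := K.toCotangent_surjective t
    rw [← map_smul, Ideal.toCotangent_eq_zero]
    show j * (y : B) ∈ K ^ 2
    rw [sq]
    exact Ideal.mul_mem_mul (hK ▸ hj) y.2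
  let cmap : C →ₗ[B] (Ω[B⁄R] →ₗ[B] K.Cotangent) :=
    Submodule.liftQ J (LinearMap.toSpanSingleton B _ l0) fun j hj => by
      ext ω
      exact hkill j hj _
  let l : C ⊗[B] Ω[B⁄R] →ₗ[B] K.Cotangent := TensorProduct.lift cmap
  have hl : l ∘ₗ kerCotangentToTensor R B C = LinearMap.id := by
    ext t
    obtain ⟨⟨y, hy⟩, rfl⟩ := K.toCotangent_surjective t
    have hy' : y ∈ J := by rw [← hK]; exact hy
    obtain ⟨c, rfl⟩ : ∃ c : ι →₀ B, Finsupp.linearCombination B f c = y := by
      have h2 : y ∈ LinearMap.range (Finsupp.linearCombination B f) := by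
        rw [Finsupp.range_linearCombination]; exact hy'
      exact h2
    have e : (⟨Finsupp.linearCombination B f c, hy⟩ : K) =
        Finsupp.linearCombination B (fun i => (⟨f i, hfK i⟩ : K)) c := by
      apply Subtype.ext
      show _ = K.subtype _
      rw [Finsupp.apply_linearCombination]
      rfl
    rw [e, Finsupp.apply_linearCombination, Finsupp.apply_linearCombination, LinearMap.id_apply]
    refine congrArg (fun g : ι → K.Cotangent => Finsupp.linearCombination B g c) (funext fun i => ?_)
    show l (kerCotangentToTensor R B C (K.toCotangent ⟨f i, hfK i⟩)) = K.toCotangent ⟨f i, hfK i⟩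
    rw [kerCotangentToTensor_toCotangent]
    show ((1 : B) • l0) (D R B (f i)) = _
    rw [one_smul, ← hb i, Module.Basis.constr_basis]
    rfl
  exact ⟨(Algebra.FormallySmooth.iff_split_injection Ideal.Quotient.mk_surjective).mpr ⟨l, hl⟩,
    Algebra.FinitePresentation.quotient
      (Submodule.fg_span (Set.finite_range f))⟩

/-- The quotient of a smooth algebra by functions whose differentials form a basis is étale. -/
theorem etale_quotient [Algebra.Smooth R B] {ι : Type u} [Finite ι] (f : ι → B)
    (b : Module.Basis ι B (Ω[B⁄R])) (hb : ∀ i, b i = D R B (f i)) :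
    Algebra.Etale R (B ⧸ Ideal.span (Set.range f)) := by
  haveI hs := smooth_quotient f (b.reindex (Equiv.sumEmpty ι PEmpty.{u + 1}).symm) (fun i => by simp [hb])
  set J := Ideal.span (Set.range f) with hJ
  have hun : Algebra.FormallyUnramified R (B ⧸ J) := by
    rw [Algebra.formallyUnramified_iff]
    refine subsingleton_of_forall_eq 0 fun ω => ?_
    have hω : ω ∈ Submodule.span (B ⧸ J) (Set.range (D R (B ⧸ J))) :=
      (span_range_derivation R (B ⧸ J)).ge Submodule.mem_top
    induction hω using Submodule.span_induction with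
    | mem w hw =>
      obtain ⟨c, rfl⟩ := hw
      obtain ⟨y, rfl⟩ := Ideal.Quotient.mk_surjective c
      have h0 : ∀ v : Ω[B⁄R], KaehlerDifferential.map R R B (B ⧸ J) v = 0 := by
        intro v
        have : KaehlerDifferential.map R R B (B ⧸ J) = 0 := b.ext fun i => by
          rw [hb, KaehlerDifferential.map_D, LinearMap.zero_apply,
            show algebraMap B (B ⧸ J) (f i) = 0 from
              Ideal.Quotient.eq_zero_iff_mem.mpr (Ideal.subset_span ⟨i, rfl⟩), map_zero]
        rw [this, LinearMap.zero_apply]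
      exact (KaehlerDifferential.map_D R R B (B ⧸ J) y).symm.trans (h0 _)
    | zero => rfl
    | add _ _ _ _ h₁ h₂ => rw [h₁, h₂, add_zero]
    | smul c w _ h => rw [h, smul_zero]
  haveI := hs
  exact ⟨Algebra.FormallyEtale.iff_formallyUnramified_and_formallySmooth.mpr ⟨hun, hs.formallySmooth⟩,
    hs.finitePresentation⟩

end Quotient

section Local

variable {R B : Type u} [CommRing R] [CommRing B] [Algebra R B]

theorem exists_D_sub_mem_smul (I : Ideal B) [Algebra.FormallyUnramified R (B ⧸ I)] (y : Ω[B⁄R]) :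
    ∃ x ∈ I, y - D R B x ∈ I • (⊤ : Submodule B (Ω[B⁄R])) := by
  obtain ⟨t, ht⟩ := (exact_kerCotangentToTensor_mapBaseChange R B (B ⧸ I) Ideal.Quotient.mk_surjective
    ((1 : B ⧸ I) ⊗ₜ[B] y)).mp (Subsingleton.elim _ _)
  obtain ⟨⟨x, hx⟩, rfl⟩ := Ideal.toCotangent_surjective _ t
  refine ⟨x, by simpa [Ideal.Quotient.algebraMap_eq, Ideal.mk_ker] using hx, ?_⟩
  rw [kerCotangentToTensor_toCotangent] at ht
  have h0 : TensorProduct.mk B (B ⧸ I) (Ω[B⁄R]) 1 (y - D R B x) = 0 := by
    rw [map_sub, sub_eq_zero]
    exact ht.symm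
  have h1 := congrArg (TensorProduct.quotTensorEquivQuotSMul (Ω[B⁄R]) I) h0
  rw [map_zero] at h1
  refine (Submodule.Quotient.mk_eq_zero _).mp ?_
  refine Eq.trans ?_ h1
  show _ = TensorProduct.quotTensorEquivQuotSMul (Ω[B⁄R]) I (Ideal.Quotient.mk I 1 ⊗ₜ[B] (y - D R B x))
  rw [quotTensorEquivQuotSMul_mk_tmul, one_smul]

/-- Near a prime containing `I`, a smooth algebra has functions in `I` cutting out an étale
subalgebra, if the quotient by `I` is unramified. -/
theorem exists_etale_cut [Algebra.Smooth R B] (I q : Ideal B) [q.IsPrime] (hIq : I ≤ q)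
    [Algebra.FormallyUnramified R (B ⧸ I)] :
    ∃ g ∉ q, ∃ (κ : Type u) (_ : Finite κ) (f : κ → B), (∀ i, f i ∈ I) ∧
      Algebra.Etale R (Localization.Away g ⧸
        Ideal.span (Set.range fun i => algebraMap B (Localization.Away g) (f i))) := by
  let Bp := Localization.AtPrime q
  let lp : Ω[B⁄R] →ₗ[B] Ω[Bp⁄R] := KaehlerDifferential.map R R B Bp
  have : Algebra.FormallySmooth R Bp := Algebra.FormallySmooth.comp R B Bp
  have hspan : Submodule.span Bp (Set.range fun x : I => lp (D R B (x : B))) = ⊤ := by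
    set N := Submodule.span Bp (Set.range fun x : I => lp (D R B (x : B)))
    haveI : Module.Finite Bp (Ω[Bp⁄R]) := Module.Finite.of_isLocalizedModule q.primeCompl (Rₚ := Bp) lp
    have hgen : Submodule.span Bp (Set.range lp) = ⊤ := by
      have := span_eq_top_of_isLocalizedModule Bp q.primeCompl lp (Submodule.span_univ (R := B) (M := Ω[B⁄R]))
      rwa [Set.image_univ] at this
    refine top_le_iff.mp (Submodule.le_of_le_smul_of_le_jacobson_bot Module.Finite.fg_top
      (IsLocalRing.maximalIdeal_le_jacobson _) ?_)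
    rw [← hgen, Submodule.span_le]
    rintro _ ⟨y, rfl⟩
    obtain ⟨x, hx, hmem⟩ := exists_D_sub_mem_smul I y
    have h1 : lp (y - D R B x) ∈ IsLocalRing.maximalIdeal Bp • Submodule.span Bp (Set.range lp) := by
      refine Submodule.smul_induction_on (p := fun z => lp z ∈
        IsLocalRing.maximalIdeal Bp • Submodule.span Bp (Set.range lp)) hmem (fun a ha m _ => ?_)
        fun a b ha hb => by rw [map_add]; exact add_mem ha hb
      rw [map_smul, ← algebraMap_smul Bp a (lp m)]
      exact Submodule.smul_mem_smul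
        ((IsLocalization.AtPrime.to_map_mem_maximal_iff Bp q a).mpr (hIq ha)) (Submodule.subset_span ⟨m, rfl⟩)
    have h2 : lp y = lp (D R B x) + lp (y - D R B x) := by rw [map_sub, add_sub_cancel]
    show lp y ∈ N ⊔ _
    rw [h2]
    refine add_mem (Submodule.mem_sup_left (Submodule.subset_span ⟨⟨x, hx⟩, rfl⟩)) (Submodule.mem_sup_right ?_)
    exact h1
  obtain ⟨κ, a, b, hb⟩ := Module.exists_basis_of_span_of_flat _ hspan
  let e : (κ →₀ B) →ₗ[B] Ω[B⁄R] := Finsupp.linearCombination B fun i : κ => D R B (a i : B)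
  let l₁ : (κ →₀ B) →ₗ[B] (κ →₀ Bp) := Finsupp.mapRange.linearMap (Algebra.linearMap B Bp)
  let eₚ : (κ →₀ Bp) →ₗ[Bp] Ω[Bp⁄R] := IsLocalizedModule.mapExtendScalars q.primeCompl l₁ lp Bp e
  have hep : eₚ = b.repr.symm := by
    ext i
    trans IsLocalizedModule.map q.primeCompl l₁ lp e <| l₁ <| Finsupp.single i 1
    · simp [eₚ, -IsLocalizedModule.map_apply, l₁]
    · simp [lp, e, hb]
  have heₚ : Function.Bijective eₚ := hep ▸ b.repr.symm.bijective
  have : Finite κ := Module.Finite.finite_basis b
  obtain ⟨g, hg, h⟩ := Module.FinitePresentation.exists_notMem_bijective e q l₁ lp heₚ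
  let l₁ₜ : (κ →₀ B) →ₗ[B] (κ →₀ Localization.Away g) :=
    Finsupp.mapRange.linearMap (Algebra.linearMap B _)
  let l₂ₜ : Ω[B⁄R] →ₗ[B] Ω[Localization.Away g⁄R] := KaehlerDifferential.map R R B (Localization.Away g)
  rw [← IsLocalizedModule.map_bijective_iff_localizedModuleMap_bijective l₁ₜ l₂ₜ] at h
  let eₜ' : (κ →₀ Localization.Away g) →ₗ[Localization.Away g] Ω[Localization.Away g⁄R] :=
    IsLocalizedModule.mapExtendScalars (Submonoid.powers g) l₁ₜ l₂ₜ (Localization.Away g) e
  haveI : Algebra.Smooth B (Localization.Away g) :=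
    ⟨Algebra.FormallySmooth.of_isLocalization (Submonoid.powers g),
      IsLocalization.Away.finitePresentation g⟩
  haveI : Algebra.Smooth R (Localization.Away g) := Algebra.Smooth.comp R B (Localization.Away g)
  refine ⟨g, hg, κ, inferInstance, fun i => (a i : B), fun i => (a i).2,
    etale_quotient _ (.ofRepr (LinearEquiv.ofBijective eₜ' h).symm) fun i => ?_⟩
  simp +zetaDelta [IsLocalizedModule.map_linearCombination]

end Local

end Groth.Agent.EtLC12.CutEtale
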