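import Groth.Agent.Hensel.IntegralStrict
import Groth.Agent.Hensel.Semilocal
import Mathlib.FieldTheory.IsAlgClosed.AlgebraicClosure
import Mathlib.RingTheory.IntegralClosure.IsIntegralClosure.Basic
import Mathlib.RingTheory.Ideal.GoingUp
import Mathlib.RingTheory.Adjoin.FG

/-! A henselian local ring has an integral, strictly henselian local extension which is surjective on
spectra: split every monic polynomial and localize at a maximal ideal. -/

universe u

open Polynomial IsLocalRing

namespace Groth.Agent.EtLC12.HenselCover

variable (A : Type u) [CommRing A]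

/-- Indices of the roots. -/
abbrev Idx : Type u := Σ f : {f : A[X] // f.Monic}, ULift.{u} (Fin f.1.natDegree)

/-- The relations saying that every monic polynomial is the product of its linear factors. -/
noncomputable def relIdeal : Ideal (MvPolynomial (Idx A) A) :=
  Ideal.span {p | ∃ (f : {f : A[X] // f.Monic}) (k : ℕ),
    p = (f.1.map MvPolynomial.C - ∏ i : ULift.{u} (Fin f.1.natDegree),
      (Polynomial.X - Polynomial.C (MvPolynomial.X (⟨f, i⟩ : Idx A)))).coeff k}

/-- The universal splitting algebra of all monic polynomials. -/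
abbrev Split : Type u := MvPolynomial (Idx A) A ⧸ relIdeal A

variable {A}

theorem map_eq_prod (f : {f : A[X] // f.Monic}) :
    f.1.map (algebraMap A (Split A)) = ∏ i : ULift.{u} (Fin f.1.natDegree),
      (Polynomial.X - Polynomial.C (Ideal.Quotient.mk (relIdeal A) (MvPolynomial.X (⟨f, i⟩ : Idx A)))) := by
  have h : (f.1.map MvPolynomial.C - ∏ i : ULift.{u} (Fin f.1.natDegree),
      (Polynomial.X - Polynomial.C (MvPolynomial.X (⟨f, i⟩ : Idx A)))).map (Ideal.Quotient.mk (relIdeal A)) = 0 := by
    ext k
    rw [coeff_map, coeff_zero, Ideal.Quotient.eq_zero_iff_mem]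
    exact Ideal.subset_span ⟨f, k, rfl⟩
  rw [Polynomial.map_sub, sub_eq_zero, Polynomial.map_map, Polynomial.map_prod] at h
  simp only [Polynomial.map_sub, Polynomial.map_X, Polynomial.map_C] at h
  exact h

theorem isRoot_mk_X (x : Idx A) :
    aeval (Ideal.Quotient.mk (relIdeal A) (MvPolynomial.X x)) x.1.1 = 0 := by
  rw [aeval_def, ← eval_map, map_eq_prod, eval_prod]
  exact Finset.prod_eq_zero (Finset.mem_univ x.2) (by simp)

instance : Algebra.IsIntegral A (Split A) := by
  refine ⟨fun b => ?_⟩
  obtain ⟨p, rfl⟩ := Ideal.Quotient.mk_surjective b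
  induction p using MvPolynomial.induction_on with
  | C a => exact isIntegral_algebraMap (R := A) (A := Split A) (x := a)
  | add p q hp hq => rw [map_add]; exact hp.add hq
  | mul_X p i hp =>
    rw [map_mul]
    refine hp.mul ⟨i.1.1, i.1.2, ?_⟩
    exact isRoot_mk_X i

/-- Choices of roots give maps out of the splitting algebra. -/
theorem exists_hom {C : Type u} [CommRing C] [Algebra A C] (r : Idx A → C)
    (hr : ∀ f : {f : A[X] // f.Monic}, f.1.map (algebraMap A C) =
      ∏ i : ULift.{u} (Fin f.1.natDegree), (Polynomial.X - Polynomial.C (r ⟨f, i⟩))) :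
    ∃ ψ : Split A →ₐ[A] C, ∀ x, ψ (Ideal.Quotient.mk (relIdeal A) (MvPolynomial.X x)) = r x := by
  have h : relIdeal A ≤ RingHom.ker (MvPolynomial.aeval r) := by
    rw [relIdeal, Ideal.span_le]
    rintro _ ⟨f, k, rfl⟩
    rw [SetLike.mem_coe, RingHom.mem_ker]
    change (MvPolynomial.aeval r).toRingHom _ = 0
    rw [← coeff_map, Polynomial.map_sub, Polynomial.map_map, Polynomial.map_prod]
    simp only [Polynomial.map_sub, Polynomial.map_X, Polynomial.map_C]
    have e1 : (MvPolynomial.aeval r).toRingHom.comp MvPolynomial.C = algebraMap A C := by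
      ext a; simp
    have e2 : ∀ x, (MvPolynomial.aeval r).toRingHom (MvPolynomial.X x : MvPolynomial (Idx A) A) = r x := by
      intro x; simp
    rw [e1]
    simp only [e2]
    rw [hr f, sub_self, coeff_zero]
  exact ⟨Ideal.Quotient.liftₐ _ (MvPolynomial.aeval r) h, fun x => by simp⟩

theorem exists_index {α : Type*} (m : Multiset α) {n : ℕ} (h : m.card = n) :
    ∃ r : ULift.{u} (Fin n) → α, Finset.univ.val.map r = m := by
  subst h
  refine ⟨fun i => m.toList.get (i.down.cast (Multiset.length_toList m).symm), ?_⟩
  rw [show (Finset.univ : Finset (ULift.{u} (Fin m.card))).val =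
    (Finset.univ : Finset (Fin m.toList.length)).val.map
      (fun j => ULift.up (j.cast (Multiset.length_toList m))) from ?_, Multiset.map_map]
  · simp only [Function.comp_def, Fin.cast_cast, Fin.cast_eq_self]
    rw [Fin.univ_val_map, List.ofFn_get, Multiset.coe_toList]
  · exact (Finset.map_univ_equiv
      ((finCongr (Multiset.length_toList m)).trans Equiv.ulift.symm)).symm ▸ (Finset.map_val _ _)

theorem reindex {α β : Type*} (g : α → β) (m : Multiset α) {n : ℕ} (r₀ : ULift.{u} (Fin n) → β)
    (h : m.map g = Finset.univ.val.map r₀) :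
    ∃ r : ULift.{u} (Fin n) → α, Finset.univ.val.map r = m ∧ ∀ i, g (r i) = r₀ i := by
  classical
  have hcard : m.card = n := by
    have := congrArg Multiset.card h
    simpa using this
  obtain ⟨r', hr'⟩ := exists_index.{u} m hcard
  rw [← hr', Multiset.map_map] at h
  have hfib : ∀ b, Nonempty ({i // r₀ i = b} ≃ {i // (g ∘ r') i = b}) := fun b => by
    refine ⟨Fintype.equivOfCardEq ?_⟩
    have hb := congrArg (Multiset.count b) h
    rw [Multiset.count_map, Multiset.count_map] at hb
    rw [Fintype.card_subtype, Fintype.card_subtype]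
    simp only [eq_comm (b := b)]
    exact hb.symm
  let σ : ULift.{u} (Fin n) ≃ ULift.{u} (Fin n) :=
    (Equiv.sigmaFiberEquiv r₀).symm.trans ((Equiv.sigmaCongrRight fun b => (hfib b).some).trans
      (Equiv.sigmaFiberEquiv (g ∘ r')))
  refine ⟨r' ∘ σ, ?_, fun i => ?_⟩
  · rw [← Multiset.map_map, Multiset.map_univ_val_equiv, hr']
  · exact ((hfib (r₀ i)).some ⟨i, rfl⟩).2

variable (A) [HenselianLocalRing A]

theorem exists_cover : ∃ (B : Type u) (_ : CommRing B) (_ : Algebra A B) (_ : HenselianLocalRing B)
    (_ : Algebra.IsIntegral A B), IsSepClosed (ResidueField B) ∧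
      Function.Surjective (PrimeSpectrum.comap (algebraMap A B)) := by
  classical
  let Ω := AlgebraicClosure (ResidueField A)
  have hscal : algebraMap A Ω = (algebraMap (ResidueField A) Ω).comp (residue A) :=
    IsScalarTower.algebraMap_eq A (ResidueField A) Ω
  -- roots of every monic polynomial in `Ω`
  have hroots : ∀ f : {f : A[X] // f.Monic}, ∃ r : ULift.{u} (Fin f.1.natDegree) → Ω,
      Finset.univ.val.map r = (f.1.map (algebraMap A Ω)).roots := fun f => exists_index.{u} _ (by
    rw [splits_iff_card_roots.mp (IsAlgClosed.splits _), f.2.natDegree_map])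
  choose r₀ hr₀ using hroots
  have hprod : ∀ f : {f : A[X] // f.Monic}, f.1.map (algebraMap A Ω) =
      ∏ i : ULift.{u} (Fin f.1.natDegree), (Polynomial.X - Polynomial.C (r₀ f i)) := fun f => by
    conv_lhs => rw [(IsAlgClosed.splits _).eq_prod_roots_of_monic (f.2.map _), ← hr₀ f, Multiset.map_map]
    rfl
  obtain ⟨φ, hφ⟩ := exists_hom (fun x => r₀ x.1 x.2) hprod
  have hφs : Function.Surjective φ := by
    intro w
    have hint : IsIntegral (ResidueField A) w := Algebra.IsIntegral.isIntegral w
    obtain ⟨F, hF, -, hFm⟩ := lifts_and_natDegree_eq_and_monic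
      ((mem_lifts _).mpr (Polynomial.map_surjective _ residue_surjective (minpoly (ResidueField A) w)))
      (minpoly.monic hint)
    have hw : w ∈ (F.map (algebraMap A Ω)).roots := by
      rw [mem_roots (hFm.map _).ne_zero, IsRoot, hscal, ← Polynomial.map_map, hF, eval_map, ← aeval_def,
        minpoly.aeval]
    rw [← hr₀ ⟨F, hFm⟩] at hw
    obtain ⟨i, -, rfl⟩ := Multiset.mem_map.1 hw
    exact ⟨_, hφ ⟨⟨F, hFm⟩, i⟩⟩
  let M : Ideal (Split A) := RingHom.ker φ
  have hM : M.IsMaximal := RingHom.ker_isMaximal_of_surjective φ hφs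
  let B := Localization.AtPrime M
  have hsurj : Function.Surjective (algebraMap (Split A) B) := by
    intro x
    obtain ⟨b, s, rfl⟩ := IsLocalization.exists_mk'_eq M.primeCompl x
    let F := Algebra.adjoin A ({s.1} : Set (Split A))
    have : Module.Finite A F := ⟨(Submodule.fg_top _).mpr
      (fg_adjoin_of_finite (Set.finite_singleton s.1) fun x _ => Algebra.IsIntegral.isIntegral x)⟩
    obtain ⟨_, e, he, he'⟩ := Hensel.exists_idempotents_of_henselian A F
    have : (M.comap F.val).IsMaximal := by
      have : (M.comap (algebraMap A (Split A))).IsMaximal :=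
        Ideal.isMaximal_comap_of_isIntegral_of_isMaximal M
      exact Ideal.isMaximal_of_isIntegral_of_isMaximal_comap (R := A) _ this
    let m : MaximalSpectrum F := ⟨_, this⟩
    let sF : F := ⟨s.1, Algebra.subset_adjoin rfl⟩
    -- `s` is invertible on the factor of `m`
    have hu : IsUnit (sF * e m + (1 - e m)) := by
      by_contra hu
      obtain ⟨N, hN, hmem⟩ := exists_max_ideal_of_mem_nonunits hu
      by_cases hNm : (⟨N, hN⟩ : MaximalSpectrum F) = m
      · obtain rfl : N = M.comap F.val := congrArg MaximalSpectrum.asIdeal hNm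
        have h1 : 1 - e m ∈ M.comap F.val := by
          rcases hN.isPrime.mem_or_mem (show e m * (1 - e m) ∈ M.comap F.val by
            rw [mul_sub, mul_one, (he.idem m).eq, sub_self]; exact zero_mem _) with h | h
          · exact absurd h (he' m).1
          · exact h
        have h2 : sF * e m ∈ M.comap F.val := (Ideal.add_mem_iff_left _ h1).1 hmem
        rcases hN.isPrime.mem_or_mem h2 with h | h
        · exact s.2 h
        · exact (he' m).1 h
      · have h1 : e m ∈ N := (he' m).2 ⟨N, hN⟩ hNm
        have h2 : (1 : F) - e m ∈ N := (Ideal.add_mem_iff_right _ (N.mul_mem_left _ h1)).1 hmem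
        exact hN.ne_top ((Ideal.eq_top_iff_one _).2 (by simpa using add_mem h2 h1))
    obtain ⟨c, hc⟩ := hu.exists_left_inv
    have hem : algebraMap (Split A) B (e m : Split A) = 1 := by
      have h1 := ((he.idem m).map F.val).map (algebraMap (Split A) B)
      have h2 : IsUnit (algebraMap (Split A) B (e m : Split A)) :=
        IsLocalization.map_units B (⟨(e m : Split A), (he' m).1⟩ : M.primeCompl)
      exact h2.mul_left_cancel (h1.eq.trans (mul_one _).symm)
    refine ⟨b * (c : Split A), ?_⟩
    rw [IsLocalization.eq_mk'_iff_mul_eq, ← map_mul]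
    have h := congr(algebraMap (Split A) B ((($hc : F)) : Split A))
    simp only [Subalgebra.coe_mul, Subalgebra.coe_add, Subalgebra.coe_one, AddSubgroupClass.coe_sub,
      map_mul, map_add, map_sub, map_one, hem, sub_self, add_zero, mul_one] at h
    rw [map_mul, map_mul, mul_assoc, h, mul_one]
  have : Algebra.IsIntegral A B := ⟨fun x => by
    obtain ⟨b, rfl⟩ := hsurj x
    exact (Algebra.IsIntegral.isIntegral b).map (IsScalarTower.toAlgHom A (Split A) B)⟩
  have hhens : HenselianLocalRing B := Hensel.henselianLocalRing_of_isIntegral_local A B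
  refine ⟨B, inferInstance, inferInstance, hhens, this, ?_, ?_⟩
  · -- the residue field is `Ω`
    let e : ResidueField B →+* Ω := Ideal.Quotient.lift _
      (IsLocalization.lift (M := M.primeCompl) (g := φ.toRingHom) fun y => isUnit_iff_ne_zero.2 y.2)
      (fun x hx => by
        obtain ⟨b, rfl⟩ := hsurj x
        rw [IsLocalization.lift_eq]
        by_contra hb
        exact hx (IsLocalization.map_units B (⟨b, hb⟩ : M.primeCompl)))
    have he : Function.Bijective e := ⟨e.injective, fun w => by
      obtain ⟨b, rfl⟩ := hφs w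
      exact ⟨residue B (algebraMap (Split A) B b), IsLocalization.lift_eq _ b⟩⟩
    have : IsAlgClosed (ResidueField B) := IsAlgClosed.of_ringEquiv Ω _ (RingEquiv.ofBijective e he).symm
    infer_instance
  · intro q
    have := q.2
    let K := AlgebraicClosure (FractionRing (A ⧸ q.asIdeal))
    let C := integralClosure A K
    have hC : IsLocalRing C := Hensel.isLocalRing_of_isIntegral_domain A C
    have : IsLocalHom (algebraMap A C) := Hensel.isLocalHom_of_isIntegral_local A C
    let ι : ResidueField A →+* ResidueField C := ResidueField.map (algebraMap A C)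
    letI := ι.toAlgebra
    have : IsScalarTower A (ResidueField A) (ResidueField C) :=
      .of_algebraMap_eq fun a => (ResidueField.map_residue (algebraMap A C) a).symm
    have : Algebra.IsIntegral A (ResidueField C) := ⟨fun x => by
      obtain ⟨b, rfl⟩ := residue_surjective x
      exact (Algebra.IsIntegral.isIntegral b).map (IsScalarTower.toAlgHom A C (ResidueField C))⟩
    have : Algebra.IsIntegral (ResidueField A) (ResidueField C) := Algebra.IsIntegral.tower_top (R := A)
    let j : ResidueField C →ₐ[ResidueField A] Ω := IsAlgClosed.lift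
    let j' : C →+* Ω := j.toRingHom.comp (residue C)
    have hj' : j'.comp (algebraMap A C) = algebraMap A Ω := by
      ext a
      rw [hscal]
      exact (congrArg j (ResidueField.map_residue (algebraMap A C) a).symm).trans (j.commutes _)
    have hr : ∀ f : {f : A[X] // f.Monic}, ∃ r : ULift.{u} (Fin f.1.natDegree) → C,
        f.1.map (algebraMap A C) = ∏ i, (Polynomial.X - Polynomial.C (r i)) ∧
          ∀ i, j' (r i) = r₀ f i := by
      intro f
      have hmem : ∀ x ∈ (f.1.map (algebraMap A K)).roots, IsIntegral A x := fun x hx => by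
        rw [mem_roots (f.2.map _).ne_zero, IsRoot, eval_map, ← aeval_def] at hx
        exact ⟨f.1, f.2, hx⟩
      let m : Multiset C := (f.1.map (algebraMap A K)).roots.pmap (fun x hx => ⟨x, hx⟩) hmem
      have hm : m.map (C.val) = (f.1.map (algebraMap A K)).roots := by
        simp only [m, Multiset.map_pmap]
        exact (Multiset.pmap_eq_map _ _ _ _).trans (Multiset.map_id _)
      have hf : f.1.map (algebraMap A C) = (m.map fun c => Polynomial.X - Polynomial.C c).prod := by
        apply Polynomial.map_injective C.val.toRingHom Subtype.val_injective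
        rw [Polynomial.map_map, Polynomial.map_multiset_prod, Multiset.map_map]
        conv_lhs => rw [show C.val.toRingHom.comp (algebraMap A C) = algebraMap A K from rfl,
          (IsAlgClosed.splits _).eq_prod_roots_of_monic (f.2.map _), ← hm, Multiset.map_map]
        simp [Function.comp_def]
      have hj : m.map j' = Finset.univ.val.map (r₀ f) := by
        have h := congrArg (Polynomial.roots ∘ Polynomial.map j') hf
        simp only [Function.comp_apply, Polynomial.map_map, hj', Polynomial.map_multiset_prod,
          Multiset.map_map, Polynomial.map_sub, Polynomial.map_X, Polynomial.map_C] at h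
        rw [show (fun x => Polynomial.X - Polynomial.C (j' x)) =
          (fun a => Polynomial.X - Polynomial.C a) ∘ j' from rfl, ← Multiset.map_map,
          roots_multiset_prod_X_sub_C] at h
        rw [hr₀ f, h]
      obtain ⟨r, hrm, hrj⟩ := reindex.{u} j' m (r₀ f) hj
      refine ⟨r, ?_, hrj⟩
      rw [hf, ← hrm, Multiset.map_map]
      rfl
    choose r hr hrj using hr
    obtain ⟨ψ, hψ⟩ := exists_hom (fun x => r x.1 x.2) hr
    have hjψ : j'.comp ψ.toRingHom = φ.toRingHom := by
      refine Ideal.Quotient.ringHom_ext (MvPolynomial.ringHom_ext (fun a => ?_) fun x => ?_)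
      · exact ((congrArg j' (ψ.commutes a)).trans congr(($hj') a)).trans (φ.commutes a).symm
      · exact ((congrArg j' (hψ x)).trans (hrj x.1 x.2)).trans (hφ x).symm
    let P : Ideal (Split A) := RingHom.ker ψ
    have hP : P.IsPrime := RingHom.ker_isPrime ψ
    have hPM : P ≤ M := fun b hb => by
      show φ b = 0
      exact (congr(($hjψ) b)).symm.trans ((congrArg j' hb).trans (map_zero j'))
    have hd : Disjoint (M.primeCompl : Set (Split A)) (P : Set (Split A)) :=
      Set.disjoint_left.2 fun x hx hxP => hx (hPM hxP)
    refine ⟨⟨P.map (algebraMap (Split A) B), IsLocalization.isPrime_of_isPrime_disjoint M.primeCompl B P hP hd⟩, ?_⟩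
    refine PrimeSpectrum.ext ?_
    change (P.map (algebraMap (Split A) B)).comap (algebraMap A B) = q.asIdeal
    rw [IsScalarTower.algebraMap_eq A (Split A) B, ← Ideal.comap_comap]
    rw [show (P.map (algebraMap (Split A) B)).comap (algebraMap (Split A) B) = P from
      IsLocalization.comap_map_of_isPrime_disjoint M.primeCompl B hP hd]
    show (RingHom.ker (ψ : Split A →+* C)).comap (algebraMap A (Split A)) = q.asIdeal
    rw [RingHom.comap_ker]
    rw [show (ψ : Split A →+* C).comp (algebraMap A (Split A)) = algebraMap A C from ψ.comp_algebraMap]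
    ext a
    rw [RingHom.mem_ker, ← Ideal.Quotient.eq_zero_iff_mem,
      ← map_eq_zero_iff C.val Subtype.val_injective]
    change algebraMap A K a = 0 ↔ _
    rw [IsScalarTower.algebraMap_apply A (A ⧸ q.asIdeal) K, map_eq_zero_iff]
    · rfl
    · rw [IsScalarTower.algebraMap_eq (A ⧸ q.asIdeal) (FractionRing (A ⧸ q.asIdeal)) K]
      exact (FaithfulSMul.algebraMap_injective (FractionRing (A ⧸ q.asIdeal)) K).comp (IsFractionRing.injective _ _)

end Groth.Agent.EtLC12.HenselCover
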