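import Groth.Agent.EtLC12.HenselCover
import Groth.Agent.EtFound.Henselian
import Groth.Agent.EtFound.PushExact
import Groth.Agent.EtFound.Detect
import Groth.Agent.EtFound.FieldExt
import Groth.Prelude.Def_EtCore
import Groth.Agent.EtFound.FiniteStalk
import Groth.Agent.EtFound.PullStalk
import Groth.Agent.EtMVLib.ExtTools

/-! Cohomology over a henselian local ring of sheaves with zero stalk at the closed point vanishes. -/

universe u

open CategoryTheory CategoryTheory.Limits AlgebraicGeometry Opposite CategoryTheory.Abelian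

namespace Groth.Agent.EtLC12.HenselVanish

open Groth.Agent.EtFound

set_option backward.isDefEq.respectTransparency.types false

variable (A : Type u) [CommRing A] [HenselianLocalRing A]

/-- `G` has zero stalk at the geometric points over the closed point. -/
def ClosedZero (G : EtCoh.Ab (Spec (CommRingCat.of A))) : Prop :=
  ∀ (Ω : Type u) [Field Ω] [IsAlgClosed Ω] (ξ : Spec (CommRingCat.of Ω) ⟶ Spec (CommRingCat.of A)),
    ξ.base default = IsLocalRing.closedPoint A → IsZero ((EtCoh.stalk ξ).obj G)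

variable {A}

theorem ClosedZero.isZero {G : EtCoh.Ab (Spec (CommRingCat.of A))} (hG : ClosedZero A G) {Ω : Type u}
    [Field Ω] [IsSepClosed Ω] (ξ : Spec (CommRingCat.of Ω) ⟶ Spec (CommRingCat.of A))
    (hξ : ξ.base default = IsLocalRing.closedPoint A) : IsZero ((EtCoh.stalk ξ).obj G) := by
  let l : Spec (CommRingCat.of (AlgebraicClosure Ω)) ⟶ Spec (CommRingCat.of Ω) :=
    Spec.map (CommRingCat.ofHom (algebraMap Ω (AlgebraicClosure Ω)))
  have h := hG (AlgebraicClosure Ω) (l ≫ ξ) (by
    rw [Scheme.Hom.comp_apply, Subsingleton.elim (l.base default) default, hξ])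
  exact h.of_iso ((stalkExtIso AddCommGrpCat.{u + 1} ξ l).app G)

theorem closedZero_of_epi {G Q : EtCoh.Ab (Spec (CommRingCat.of A))} (e : G ⟶ Q) [Epi e]
    (hG : ClosedZero A G) : ClosedZero A Q := fun Ω _ _ ξ hξ => by
  have : Epi ((EtCoh.stalk ξ).map e) := inferInstance
  exact IsZero.of_epi ((EtCoh.stalk ξ).map e) (hG Ω ξ hξ)

section cover

variable {B : Type u} [CommRing B] [Algebra A B] [HenselianLocalRing B] [Algebra.IsIntegral A B]

variable (A B) in
/-- The morphism of spectra. -/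
noncomputable abbrev proj : Spec (CommRingCat.of B) ⟶ Spec (CommRingCat.of A) :=
  Spec.map (CommRingCat.ofHom (algebraMap A B))

instance isIntegralHom_proj : IsIntegralHom (proj A B) :=
  IsIntegralHom.SpecMap_iff.2 (algebraMap_isIntegral_iff.2 ‹Algebra.IsIntegral A B›)

theorem proj_closedPoint : (proj A B).base (IsLocalRing.closedPoint B) = IsLocalRing.closedPoint A := by
  have := Hensel.isLocalHom_of_isIntegral_local A B
  exact IsLocalRing.comap_closedPoint (algebraMap A B)

theorem hom_constZ_eq_zero [IsSepClosed (IsLocalRing.ResidueField B)]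
    {G : EtCoh.Ab (Spec (CommRingCat.of B))} (hG : IsZero ((EtCoh.stalk (cpt B)).obj G))
    (f : EtCoh.const (Spec (CommRingCat.of B)) ℤ ⟶ G) : f = 0 := by
  have : Subsingleton (G.obj.obj (op (EtCoh.top (Spec (CommRingCat.of B))))) := by
    exact @Function.Injective.subsingleton _ _ _ (toPresheafFiber_top_bijective B G.obj).1
      (AddCommGrpCat.subsingleton_of_isZero hG)
  let adj := constantSheafAdj (Spec (CommRingCat.of B)).smallEtaleTopology AddCommGrpCat.{u + 1}
    (topIsTerminal (Spec (CommRingCat.of B)))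
  apply (adj.homEquiv _ _).injective
  ext a
  exact @Subsingleton.elim _ this _ _

theorem isZero_pull_stalk {G : EtCoh.Ab (Spec (CommRingCat.of A))} (hG : ClosedZero A G) {Ω : Type u}
    [Field Ω] [IsSepClosed Ω] (ζ : Spec (CommRingCat.of Ω) ⟶ Spec (CommRingCat.of B))
    (hζ : (ζ ≫ proj A B).base default = IsLocalRing.closedPoint A) :
    IsZero ((EtCoh.stalk ζ).obj ((EtCoh.pull (proj A B)).obj G)) :=
  (hG.isZero (ζ ≫ proj A B) hζ).of_iso ((sheafFiberPullIso (A := AddCommGrpCat.{u + 1}) (proj A B) ζ).app G)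

theorem closedZero_pushPull {G : EtCoh.Ab (Spec (CommRingCat.of A))} (hG : ClosedZero A G) :
    ClosedZero A ((EtCoh.push (proj A B)).obj ((EtCoh.pull (proj A B)).obj G)) := by
  intro Ω _ _ η hη
  suffices h : ∀ p : (EtCoh.stalk η).obj ((EtCoh.push (proj A B)).obj ((EtCoh.pull (proj A B)).obj G)), p = 0 by
    exact @AddCommGrpCat.isZero_of_subsingleton _ ⟨fun p q => (h p).trans (h q).symm⟩
  intro p
  obtain ⟨V, v, c, rfl⟩ := (Scheme.pointSmallEtale η).toPresheafFiber_jointly_surjective p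
  let π := proj A B
  let P := (EtCoh.pull π).obj G
  -- near the fibre the section vanishes
  have hloc : ∀ w : ((EtCoh.bc π).obj V).left, (pullback.fst V.hom π).base w =
      (v.left : Spec (CommRingCat.of Ω) ⟶ V.left).base (default : Spec (CommRingCat.of Ω)) →
      ∃ (U : (Spec (CommRingCat.of B)).Etale) (a : U ⟶ (EtCoh.bc π).obj V),
        w ∈ Set.range a.left.base ∧ P.obj.map a.op c = 0 := by
    intro w hw
    obtain ⟨ξ, hξ, hξw⟩ := exists_liftPt_eq π v w hw
    have := AddCommGrpCat.subsingleton_of_isZero (isZero_pull_stalk (B := B) hG ξ (by rw [hξ]; exact hη))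
    obtain ⟨U, a, z, hz, ha⟩ := ((Scheme.pointSmallEtale ξ).toPresheafFiber_eq_iff' _ (liftPt π hξ v) c 0).1
      (@Subsingleton.elim _ this _ _)
    refine ⟨U, a, ⟨(z.left : Spec (CommRingCat.of Ω) ⟶ U.left).base (default : Spec (CommRingCat.of Ω)), ?_⟩, ha.trans (map_zero _)⟩
    rw [← hξw, ← hz]
    exact (Scheme.Hom.comp_apply _ _ _).symm
  choose U a ha hc using hloc
  let O : ((EtCoh.bc π).obj V).left.Opens := ⟨⋃ (w) (hw), Set.range (a w hw).left.base,
    isOpen_iUnion fun w => isOpen_iUnion fun hw => by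
      have := etale_left (a w hw)
      exact (Scheme.Hom.isOpenMap (a w hw).left).isOpen_range⟩
  obtain ⟨W, b, w', hw', hb⟩ := exists_shrink π v O fun w hw => Set.mem_iUnion₂.2 ⟨w, hw, ha w hw⟩
  have hzero : P.obj.map ((EtCoh.bc π).map b).op c = 0 := by
    refine eq_of_cover P _ _ (equalizerSieve_mem_of_germs P.obj _ _ 0 fun k _ _ ζ t => ?_)
    obtain ⟨w, hw, x, hx⟩ : ∃ w hw, ((EtCoh.bc π).map b).left.base
        ((t.left : Spec (CommRingCat.of k) ⟶ ((EtCoh.bc π).obj W).left).base (default : Spec (CommRingCat.of k))) ∈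
          Set.range (a w hw).left.base := Set.mem_iUnion₂.1 (hb _)
    obtain ⟨t', ht', -⟩ := exists_lift_point (a w hw)
      ((Scheme.pointSmallEtale ζ).fiber.map ((EtCoh.bc π).map b) t) x
      (hx.trans (Scheme.Hom.comp_apply _ _ _).symm)
    refine ((Scheme.pointSmallEtale ζ).toPresheafFiber_w_apply ((EtCoh.bc π).map b) t P.obj c).trans ?_
    rw [← ht']
    refine (((Scheme.pointSmallEtale ζ).toPresheafFiber_w_apply (a w hw) t' P.obj c).symm.trans ?_).trans
      (map_zero _).symm
    rw [hc w hw, map_zero]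
  rw [← hw']
  refine ((Scheme.pointSmallEtale η).toPresheafFiber_w_apply b w' _ c).symm.trans ?_
  exact (congrArg _ hzero).trans (map_zero _)

theorem ext_pushPull_eq_zero [IsSepClosed (IsLocalRing.ResidueField B)]
    (M : EtCoh.Ab (Spec (CommRingCat.of B))) {n : ℕ}
    (x : Ext (EtCoh.const (Spec (CommRingCat.of A)) ℤ) ((EtCoh.push (proj A B)).obj M) (n + 1)) : x = 0 := by
  have := push_preservesFiniteColimits (proj A B)
  have := push_preservesFiniteLimits (proj A B)
  have : PreservesFiniteLimits (EtCoh.pull (proj A B)) := pull_preservesFiniteLimits (proj A B)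
  obtain ⟨y, rfl⟩ := (EtMVLib.adjExtMap_bijective (EtCoh.pullPushAdj (proj A B)) _ _ _).2 x
  have h1 : Projective (EtCoh.const (Spec (CommRingCat.of B)) ℤ) := projective_constZ B
  have h2 : Projective ((EtCoh.pull (proj A B)).obj (EtCoh.const (Spec (CommRingCat.of A)) ℤ)) :=
    Projective.of_iso (EtCore.pullConst (proj A B) ℤ).symm h1
  rw [y.eq_zero_of_projective, map_zero]

end cover

/-- the vanishing theorem -/
theorem ext_eq_zero (n : ℕ) : ∀ (G : EtCoh.Ab (Spec (CommRingCat.of A))), ClosedZero A G →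
    ∀ x : Ext (EtCoh.const (Spec (CommRingCat.of A)) ℤ) G n, x = 0 := by
  obtain ⟨B, _, _, _, _, hB, hsurj⟩ := HenselCover.exists_cover A
  let π := proj A B
  have : Surjective π := ⟨hsurj⟩
  have hfaith : (EtCoh.pull π).Faithful := pullback_faithful (A := AddCommGrpCat.{u + 1}) π
  have hmono : ∀ G, Mono ((EtCoh.pullPushAdj π).unit.app G) := fun G => ⟨fun {Z} g h e => by
    apply (EtCoh.pull π).map_injective
    have := congrArg (fun k => ((EtCoh.pullPushAdj π).homEquiv _ _).symm k) e
    simpa [Adjunction.homEquiv_counit] using this⟩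
  induction n with
  | zero =>
    intro G hG x
    obtain ⟨f, rfl⟩ := (Ext.mk₀_bijective _ _).2 x
    have h0 : IsZero ((EtCoh.stalk (cpt B)).obj ((EtCoh.pull π).obj G)) :=
      isZero_pull_stalk hG (cpt B) (by rw [Scheme.Hom.comp_apply, cpt_base, proj_closedPoint])
    have h1 : (EtCore.pullConst π ℤ).inv ≫ (EtCoh.pull π).map f = 0 := hom_constZ_eq_zero h0 _
    rw [← cancel_epi (EtCore.pullConst π ℤ).hom, Iso.hom_inv_id_assoc, comp_zero] at h1
    rw [(EtCoh.pull π).map_injective (h1.trans ((EtCoh.pull π).map_zero _ _).symm), Ext.mk₀_zero]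
  | succ n ih =>
    intro G hG x
    have := hmono G
    let η := (EtCoh.pullPushAdj π).unit.app G
    let S := ShortComplex.mk η (cokernel.π η) (cokernel.condition _)
    have hS : S.ShortExact :=
      { exact := ShortComplex.exact_of_g_is_cokernel _ (cokernelIsCokernel η)
        mono_f := ‹_› }
    obtain ⟨β, rfl⟩ := Ext.covariant_sequence_exact₁ _ hS x
      (ext_pushPull_eq_zero ((EtCoh.pull π).obj G) _) rfl
    rw [ih S.X₃ (closedZero_of_epi (cokernel.π η) (closedZero_pushPull hG)) β]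
    exact Ext.zero_comp _ _ _ _ rfl

theorem postcomp_bijective_of_epi {F G : EtCoh.Ab (Spec (CommRingCat.of A))} (e : F ⟶ G) [Epi e]
    (h : ClosedZero A (kernel e)) (n : ℕ) :
    Function.Bijective (fun x : Ext (EtCoh.const (Spec (CommRingCat.of A)) ℤ) F n =>
      x.comp (Ext.mk₀ e) (add_zero n)) := by
  let S := ShortComplex.mk (kernel.ι e) e (kernel.condition e)
  have hS : S.ShortExact := { exact := ShortComplex.exact_of_f_is_kernel _ (kernelIsKernel e) }
  refine ⟨fun x y hxy => sub_eq_zero.1 ?_, fun y => ?_⟩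
  · obtain ⟨z, hz⟩ := Ext.covariant_sequence_exact₂ _ hS (x - y) (by
      have hxy' : x.comp (Ext.mk₀ e) (add_zero n) = y.comp (Ext.mk₀ e) (add_zero n) := hxy
      rw [sub_eq_add_neg, Ext.add_comp, Ext.neg_comp, hxy', add_neg_cancel])
    rw [← hz, ext_eq_zero n _ h z]
    exact Ext.zero_comp _ _ _ _ _
  · exact Ext.covariant_sequence_exact₃ _ hS y rfl (ext_eq_zero (n + 1) _ h _)

theorem postcomp_bijective_of_mono {F G : EtCoh.Ab (Spec (CommRingCat.of A))} (e : F ⟶ G) [Mono e]
    (h : ClosedZero A (cokernel e)) (n : ℕ) :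
    Function.Bijective (fun x : Ext (EtCoh.const (Spec (CommRingCat.of A)) ℤ) F n =>
      x.comp (Ext.mk₀ e) (add_zero n)) := by
  let S := ShortComplex.mk e (cokernel.π e) (cokernel.condition e)
  have hS : S.ShortExact := { exact := ShortComplex.exact_of_g_is_cokernel _ (cokernelIsCokernel e) }
  refine ⟨fun x y hxy => sub_eq_zero.1 ?_, fun y => ?_⟩
  · have h0 : (x - y).comp (Ext.mk₀ e) (add_zero n) = 0 := by
      have hxy' : x.comp (Ext.mk₀ e) (add_zero n) = y.comp (Ext.mk₀ e) (add_zero n) := hxy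
      rw [sub_eq_add_neg, Ext.add_comp, Ext.neg_comp, hxy', add_neg_cancel]
    match n with
    | 0 =>
      obtain ⟨f, hf⟩ := (Ext.mk₀_bijective _ _).2 (x - y)
      rw [← hf] at h0 ⊢
      rw [Ext.mk₀_comp_mk₀] at h0
      have h1 : f ≫ e = 0 := (Ext.mk₀_bijective _ _).1 (h0.trans (Ext.mk₀_zero (X := EtCoh.const _ ℤ) (Y := G)).symm)
      rw [(cancel_mono e).1 (h1.trans zero_comp.symm), Ext.mk₀_zero]
    | n + 1 =>
      obtain ⟨z, hz⟩ := Ext.covariant_sequence_exact₁ _ hS (x - y) h0 rfl
      rw [← hz, ext_eq_zero n _ h z]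
      exact Ext.zero_comp _ _ _ _ _
  · exact Ext.covariant_sequence_exact₂ _ hS y (ext_eq_zero n _ h _)

/-- a map which is bijective on closed stalks induces bijections on cohomology -/
theorem postcomp_bijective {F G : EtCoh.Ab (Spec (CommRingCat.of A))} (φ : F ⟶ G)
    (hφ : ∀ (Ω : Type u) [Field Ω] [IsAlgClosed Ω] (ξ : Spec (CommRingCat.of Ω) ⟶ Spec (CommRingCat.of A)),
      ξ.base default = IsLocalRing.closedPoint A → IsIso ((EtCoh.stalk ξ).map φ)) (n : ℕ) :
    Function.Bijective (fun x : Ext (EtCoh.const (Spec (CommRingCat.of A)) ℤ) F n =>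
      x.comp (Ext.mk₀ φ) (add_zero n)) := by
  let π₁ := Abelian.coimage.π φ
  let m := Abelian.factorThruCoimage φ
  have hfac : π₁ ≫ m = φ := cokernel.π_desc _ _ _
  have key : ∀ (Ω : Type u) [Field Ω] [IsAlgClosed Ω] (ξ : Spec (CommRingCat.of Ω) ⟶ Spec (CommRingCat.of A)),
      ξ.base default = IsLocalRing.closedPoint A → Mono ((EtCoh.stalk ξ).map π₁) ∧ Epi ((EtCoh.stalk ξ).map m) := by
    intro Ω _ _ ξ hξ
    have := hφ Ω ξ hξ
    have h : (EtCoh.stalk ξ).map π₁ ≫ (EtCoh.stalk ξ).map m = (EtCoh.stalk ξ).map φ := by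
      rw [← Functor.map_comp, hfac]
    exact ⟨@mono_of_mono _ _ _ _ _ _ ((EtCoh.stalk ξ).map m) (by rw [h]; infer_instance),
      @epi_of_epi _ _ _ _ _ ((EtCoh.stalk ξ).map π₁) _ (by rw [h]; infer_instance)⟩
  have h1 : ClosedZero A (kernel π₁) := fun Ω _ _ ξ hξ => by
    have := (key Ω ξ hξ).1
    have h0 : (EtCoh.stalk ξ).map (kernel.ι π₁) = 0 := by
      rw [← cancel_mono ((EtCoh.stalk ξ).map π₁), ← Functor.map_comp, kernel.condition, zero_comp,
        Functor.map_zero]
    exact IsZero.of_mono_eq_zero _ h0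
  have h2 : ClosedZero A (cokernel m) := fun Ω _ _ ξ hξ => by
    have := (key Ω ξ hξ).2
    have h0 : (EtCoh.stalk ξ).map (cokernel.π m) = 0 := by
      rw [← cancel_epi ((EtCoh.stalk ξ).map m), ← Functor.map_comp, cokernel.condition, comp_zero,
        Functor.map_zero]
    exact IsZero.of_epi_eq_zero _ h0
  have hc := (postcomp_bijective_of_mono m h2 n).comp (postcomp_bijective_of_epi π₁ h1 n)
  refine Eq.mp (congrArg Function.Bijective (funext fun x => ?_)) hc
  simp only [Function.comp_apply]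
  rw [Ext.comp_assoc_of_second_deg_zero, Ext.mk₀_comp_mk₀, hfac]

end Groth.Agent.EtLC12.HenselVanish
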