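import Groth.Agent.Hensel.Henselization
import Groth.Agent.Hensel.StrictPoints
import Mathlib.FieldTheory.SeparableClosure
import Mathlib.FieldTheory.IsAlgClosed.AlgebraicClosure
import Mathlib.RingTheory.Flat.FaithfullyFlat.Algebra

/-!
# Maps out of a strict henselization
-/

noncomputable section

set_option autoImplicit false

universe u v

open IsLocalRing TensorProduct Groth.Agent.Hensel

namespace Groth.Agent.EtLC12.HenzRigidity

section Henz

variable {R K : Type u} [CommRing R] [CommRing K] [Algebra R K]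

/-- Maps to the quotient of a henselian pair lift uniquely. -/
theorem existsUnique_lift {C : Type v} [CommRing C] [Algebra R C] (J : Ideal C) [HenselianRing C J]
    (θ' : Henz R K →ₐ[R] C ⧸ J) :
    ∃! g : Henz R K →ₐ[R] C, ∀ z, Ideal.Quotient.mk J (g z) = θ' z := by
  have hex : ∀ N : Nbhd R K, ∃ g : N.Stage →ₐ[R] C,
      ∀ x, Ideal.Quotient.mk J (g x) = θ' (Henz.of N x) := by
    intro N
    obtain ⟨g₀, hg₀, -⟩ := existsUnique_etale_lift_of_algebra J (R := R)
      ((θ'.comp (Henz.of N)).comp (IsScalarTower.toAlgHom R N.B N.Stage))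
    have hu : ∀ y : N.S, IsUnit (g₀ y) := fun y => by
      have := isLocalHom_of_le_jacobson_bot J HenselianRing.jac
      refine IsUnit.of_map (Ideal.Quotient.mk J) _ ?_
      rw [show Ideal.Quotient.mk J (g₀ y) = θ' (Henz.of N (algebraMap N.B N.Stage y)) from congr($hg₀ y)]
      exact ((IsLocalization.map_units N.Stage y).map (Henz.of N)).map θ'
    refine ⟨IsLocalization.liftAlgHom (A := R) (S := N.Stage) (M := N.S) hu, fun x => ?_⟩
    have : (Ideal.Quotient.mkₐ R J).comp (IsLocalization.liftAlgHom (A := R) (S := N.Stage) (M := N.S) hu) =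
        θ'.comp (Henz.of N) := by
      refine Localization.algHom_ext N.S ?_
      ext b
      simpa [Algebra.algHom] using congr($hg₀ b)
    exact congr($this x)
  choose g hg using hex
  have huniq : ∀ (N : Nbhd R K) (g' : N.Stage →ₐ[R] C),
      (∀ x, Ideal.Quotient.mk J (g' x) = θ' (Henz.of N x)) → g' = g N := fun N g' h =>
    Nbhd.hom_ext (Ideal.Quotient.mk J) (fun _ ht => isUnit_of_mk_eq_one HenselianRing.jac ht)
      g' (g N) fun b => by rw [h, hg]
  refine ⟨DirectLimit.Algebra.lift (fun N : Nbhd R K => N.Stage) (fun _ _ h => Nbhd.trans h) C g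
    fun N M h x => ?_, fun z => ?_, fun g' hg' => Henz.algHom_ext fun N => ?_⟩
  · exact congr($(huniq N ((g M).comp (Nbhd.trans h)) fun y => by
      rw [AlgHom.comp_apply, hg, Henz.of_trans]) x)
  · obtain ⟨N, x, rfl⟩ := Henz.exists_of z
    exact hg N x
  · exact huniq N (g'.comp (Henz.of N)) fun x => hg' (Henz.of N x)

/-- Images of a henselization in a field lie in every separably closed intermediate field. -/
theorem mem_range_of_isSepClosed {k l : Type u} [Field k] [IsSepClosed k] [Field l] [Algebra k l]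
    [Algebra R k] [Algebra R l] [IsScalarTower R k l] (φ : Henz R K →ₐ[R] l) (z : Henz R K) :
    φ z ∈ (algebraMap k l).range := by
  obtain ⟨N, x, rfl⟩ := Henz.exists_of z
  obtain ⟨⟨b, t⟩, ht⟩ := IsLocalization.surj N.S x
  let σ₀ : N.B →ₐ[R] l := (φ.comp (Henz.of N)).comp (IsScalarTower.toAlgHom R N.B N.Stage)
  let σ : k ⊗[R] N.B →ₐ[k] l :=
    Algebra.TensorProduct.lift (Algebra.ofId k l) σ₀ fun _ _ => .all _ _
  have hσ : ∀ y, σ₀ y ∈ (algebraMap k l).range := fun y => by
    obtain ⟨c, hc⟩ := mem_range_of_formallyUnramified_sepClosed σ (1 ⊗ₜ y)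
    refine ⟨c, hc.symm.trans ?_⟩
    simp [σ]
  obtain ⟨c, hc⟩ := hσ b
  obtain ⟨d, hd⟩ := hσ t
  have hu : σ₀ t ≠ 0 :=
    ((((IsLocalization.map_units N.Stage t).map (Henz.of N)).map φ)).ne_zero
  have e : φ (Henz.of N x) * σ₀ t = σ₀ b := by
    have := congrArg (φ.comp (Henz.of N)) ht
    simpa [σ₀, map_mul] using this
  refine ⟨c / d, ?_⟩
  rw [map_div₀, hc, hd, ← e, mul_div_assoc, div_self hu, mul_one]

end Henz

variable (A : Type u) [CommRing A] [IsLocalRing A] (S : Type u) [CommRing S] [IsLocalRing S] [Algebra A S]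
  [IsLocalHom (algebraMap A S)] [Hensel.IsStrictHenselization A S]

/-- Maps of a strict henselization to the residue field of a henselian local ring lift uniquely. -/
theorem existsUnique_lift_residue {C : Type u} [CommRing C] [HenselianLocalRing C] [Algebra A C]
    (θ : S →ₐ[A] ResidueField C) : ∃! g : S →ₐ[A] C, ∀ s, residue C (g s) = θ s := by
  obtain ⟨e⟩ := exists_algEquiv_strictHenz A S
  obtain ⟨g, hg, huniq⟩ := existsUnique_lift (R := A) (maximalIdeal C) (θ.comp e.toAlgHom)
  refine ⟨g.comp e.symm.toAlgHom, fun s => ?_, fun g' hg' => ?_⟩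
  · exact (hg (e.symm s)).trans (congrArg θ (e.apply_symm_apply s))
  · ext s
    have := huniq (g'.comp e.toAlgHom) fun z => hg' (e z)
    rw [← this]
    exact (congrArg g' (e.apply_symm_apply s)).symm

/-- Over a prime, a strict henselization maps to every separably closed extension of the residue field. -/
theorem nonempty_algHom_sepClosed (k : Type u) [Field k] [IsSepClosed k] [Algebra A k] :
    Nonempty (S →ₐ[A] k) := by
  obtain ⟨e⟩ := exists_algEquiv_strictHenz A S
  let p : Ideal A := RingHom.ker (algebraMap A k)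
  haveI : p.IsPrime := RingHom.ker_isPrime _
  haveI : Module.FaithfullyFlat A (StrictHenz A) :=
    inferInstanceAs (Module.FaithfullyFlat A (Henz A (SeparableClosure (ResidueField A))))
  obtain ⟨⟨P, hPprime⟩, hP⟩ :=
    PrimeSpectrum.comap_surjective_of_faithfullyFlat (A := A) (B := StrictHenz A) ⟨p, inferInstance⟩
  haveI : P.IsPrime := hPprime
  haveI : P.LiesOver p := ⟨congr(($hP).asIdeal).symm⟩
  let Ω := AlgebraicClosure P.ResidueField
  let μ : p.ResidueField →ₐ[A] Ω := Ideal.ResidueField.liftₐ p (Algebra.ofId A Ω) (fun a ha => by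
      have : algebraMap A (StrictHenz A) a ∈ P := by
        rw [← Ideal.mem_comap]; exact (P.over_def p).le ha
      show algebraMap A Ω a = 0
      rw [IsScalarTower.algebraMap_apply A (StrictHenz A) Ω,
        IsScalarTower.algebraMap_apply (StrictHenz A) P.ResidueField Ω,
        Ideal.algebraMap_residueField_eq_zero.2 this, map_zero])
    fun a ha => by
      show IsUnit (algebraMap A Ω a)
      refine IsUnit.mk0 _ fun h0 => ha ?_
      rw [IsScalarTower.algebraMap_apply A (StrictHenz A) Ω,
        IsScalarTower.algebraMap_apply (StrictHenz A) P.ResidueField Ω, map_eq_zero,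
        Ideal.algebraMap_residueField_eq_zero] at h0
      rw [P.over_def p]
      exact h0
  letI : Algebra p.ResidueField Ω := μ.toRingHom.toAlgebra
  haveI : IsScalarTower A p.ResidueField Ω := .of_algebraMap_eq fun a => (μ.commutes a).symm
  let k' := separableClosure p.ResidueField Ω
  haveI : IsSepClosed k' := (separableClosure.isSepClosure p.ResidueField Ω).sep_closed
  haveI : IsScalarTower A k' Ω := .of_algebraMap_eq fun _ => rfl
  let φ : StrictHenz A →ₐ[A] Ω := IsScalarTower.toAlgHom A (StrictHenz A) Ω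
  have hmem : ∀ z, φ z ∈ (IsScalarTower.toAlgHom A k' Ω).range := fun z => by
    obtain ⟨c, hc⟩ := mem_range_of_isSepClosed (k := k') φ z
    exact ⟨c, hc⟩
  let j : StrictHenz A →ₐ[A] k' :=
    ((AlgEquiv.ofInjective (IsScalarTower.toAlgHom A k' Ω) (algebraMap k' Ω).injective).symm.toAlgHom).comp
      (φ.codRestrict _ hmem)
  let ι : p.ResidueField →ₐ[A] k :=
    Ideal.ResidueField.liftₐ p (Algebra.ofId A k) le_rfl fun a ha => by
      show IsUnit (algebraMap A k a)
      exact IsUnit.mk0 _ ha
  letI : Algebra p.ResidueField k := ι.toRingHom.toAlgebra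
  haveI : IsScalarTower A p.ResidueField k := .of_algebraMap_eq fun a => (ι.commutes a).symm
  haveI : Algebra.IsSeparable p.ResidueField k' := (separableClosure.isSepClosure p.ResidueField Ω).separable
  exact ⟨((IsSepClosed.lift (M := k) : k' →ₐ[p.ResidueField] k).restrictScalars A).comp
    (j.comp e.symm.toAlgHom)⟩

end Groth.Agent.EtLC12.HenzRigidity
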