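import Groth.Prelude.Def_SixF1
import Mathlib.Algebra.Category.ModuleCat.FilteredColimits
import Mathlib.CategoryTheory.Functor.Flat
import Mathlib.CategoryTheory.Sites.Pullback
import Mathlib.CategoryTheory.Limits.FilteredColimitCommutesFiniteLimit
import Mathlib.CategoryTheory.Limits.Preserves.Filtered
import Mathlib.Algebra.Category.Grp.Limits
import Mathlib.Algebra.Category.Grp.Colimits
import Mathlib.Algebra.Category.Grp.FilteredColimits
import Mathlib.Algebra.Category.Grp.Abelian

/-!
# Left Kan extensions along flat functors of large categories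
-/

set_option autoImplicit false

universe u

open CategoryTheory CategoryTheory.Limits Opposite

namespace Groth.Agent.EtLC12.ModPullExact

variable {C : Type (u + 1)} [Category.{u} C] {D : Type (u + 1)} [Category.{u} D] {Λ : Type (u + 1)} [CommRing Λ]

set_option backward.defeqAttrib.useBackward true in
set_option backward.isDefEq.respectTransparency false in
/-- The evaluation of a left Kan extension is a colimit over the costructured arrows. -/
noncomputable def lanEvalIso (F : C ⥤ D) (X : D) :
    F.lan ⋙ (evaluation D (ModuleCat.{u + 1} Λ)).obj X ≅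
      (Functor.whiskeringLeft _ _ (ModuleCat.{u + 1} Λ)).obj (CostructuredArrow.proj F X) ⋙ colim :=
  NatIso.ofComponents (fun G =>
    IsColimit.coconePointUniqueUpToIso
    (Functor.isPointwiseLeftKanExtensionLeftKanExtensionUnit F G X)
    (colimit.isColimit _)) (fun {G₁ G₂} φ => by
      apply (Functor.isPointwiseLeftKanExtensionLeftKanExtensionUnit F G₁ X).hom_ext
      intro T
      have h₁ := fun (G : C ⥤ (ModuleCat.{u + 1} Λ)) => IsColimit.comp_coconePointUniqueUpToIso_hom
        (Functor.isPointwiseLeftKanExtensionLeftKanExtensionUnit F G X) (colimit.isColimit _) T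
      have h₂ := congr_app (F.lanUnit.naturality φ) T.left
      dsimp at h₁ h₂ ⊢
      simp only [Category.assoc] at h₁ ⊢
      simp only [Functor.lan, Functor.lanUnit] at h₂ ⊢
      rw [reassoc_of% h₁, NatTrans.naturality_assoc, ← reassoc_of% h₂, h₁,
        ι_colimMap, Functor.whiskerLeft_app]
      rfl)

theorem lan_preservesFiniteLimits (F : C ⥤ D) [RepresentablyFlat F] :
    PreservesFiniteLimits (F.op.lan : _ ⥤ Dᵒᵖ ⥤ (ModuleCat.{u + 1} Λ)) := by
  refine ⟨fun J _ _ => ?_⟩
  apply preservesLimitsOfShape_of_evaluation (F.op.lan : (Cᵒᵖ ⥤ (ModuleCat.{u + 1} Λ)) ⥤ Dᵒᵖ ⥤ _) J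
  intro K
  have : IsFiltered (CostructuredArrow F.op K) :=
    IsFiltered.of_equivalence (structuredArrowOpEquivalence F (unop K))
  have : PreservesFilteredColimitsOfSize.{u, u + 1} (forget (ModuleCat.{u + 1} Λ)) :=
    preservesFilteredColimitsOfSize_of_univLE.{u + 1, u + 1, u, u + 1} _
  have : PreservesColimitsOfShape (CostructuredArrow F.op K) (forget (ModuleCat.{u + 1} Λ)) :=
    PreservesFilteredColimitsOfSize.preserves_filtered_colimits _
  exact preservesLimitsOfShape_of_natIso (lanEvalIso _ _).symm

theorem sheafPullback_preservesFiniteLimits (F : C ⥤ D) [RepresentablyFlat F] (J : GrothendieckTopology C)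
    (K : GrothendieckTopology D) [F.IsContinuous J K] [HasSheafify J (ModuleCat.{u + 1} Λ)]
    [HasSheafify K (ModuleCat.{u + 1} Λ)] :
    PreservesFiniteLimits (F.sheafPullback (ModuleCat.{u + 1} Λ) J K) := by
  haveI := lan_preservesFiniteLimits (Λ := Λ) F
  exact Functor.sheafPullbackConstruction.preservesFiniteLimits F _ J K


/-- Inverse image of étale sheaves of modules is left exact. -/
theorem pull_preservesFiniteLimits (Λ : Type (u + 1)) [CommRing Λ] {X Y : AlgebraicGeometry.Scheme.{u}}
    (f : X ⟶ Y) : PreservesFiniteLimits (EtModW.pull Λ f) := by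
  haveI := EtCoh.preservesFiniteLimits_bc f
  haveI : RepresentablyFlat (EtCoh.bc f) := flat_of_preservesFiniteLimits _
  exact sheafPullback_preservesFiniteLimits (Λ := Λ) (EtCoh.bc f) Y.smallEtaleTopology X.smallEtaleTopology

end Groth.Agent.EtLC12.ModPullExact
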