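import Groth.Prelude.Def_EtBase
import Mathlib.CategoryTheory.Sites.Point.Basic
import Mathlib.CategoryTheory.Sites.ConstantSheaf
import Mathlib.CategoryTheory.Sites.LocallyBijective
import Groth.Agent.EtFound.Basic

/-! stalks of sheaves which are constant on an étale neighbourhood -/

universe u

open CategoryTheory CategoryTheory.Limits AlgebraicGeometry Opposite

namespace Groth.Agent.EtLC12

open Groth.Agent.EtFound

set_option backward.isDefEq.respectTransparency false
set_option backward.isDefEq.respectTransparency.types false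

variable {X : Scheme.{u}}

/-- the comparison map from the constant presheaf to the restriction of a sheaf constant over `U` -/
noncomputable def constToRestr {F : EtCoh.Ab X} {U : X.Etale} {M : AddCommGrpCat.{u + 1}}
    (e : EtCoh.restr F U ≅ (constantSheaf (X.smallEtaleTopology.over U) AddCommGrpCat.{u + 1}).obj M) :
    (Functor.const (Over U)ᵒᵖ).obj M ⟶ (EtCoh.restr F U).obj :=
  toSheafify (X.smallEtaleTopology.over U) _ ≫ e.inv.hom

variable {Ω : Type u} [Field Ω] [IsSepClosed Ω] (ξ : Spec (CommRingCat.of Ω) ⟶ X)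

theorem stalk_iso_of_restr_iso_const {F : EtCoh.Ab X} {U : X.Etale} {M : AddCommGrpCat.{u + 1}}
    (e : EtCoh.restr F U ≅ (constantSheaf (X.smallEtaleTopology.over U) AddCommGrpCat.{u + 1}).obj M)
    (u₀ : (Scheme.pointSmallEtale ξ).fiber.obj U) :
    Nonempty (M ≅ (EtCoh.stalk ξ).obj F) := by
  let Φ := Scheme.pointSmallEtale ξ
  let η := constToRestr e
  have : IsIso e.inv.hom := inferInstanceAs (IsIso ((sheafToPresheaf _ _).map e.inv))
  have hinj : Presheaf.IsLocallyInjective (X.smallEtaleTopology.over U) η :=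
    inferInstanceAs (Presheaf.IsLocallyInjective _ (_ ≫ _))
  have hsurj : Presheaf.IsLocallySurjective (X.smallEtaleTopology.over U) η :=
    inferInstanceAs (Presheaf.IsLocallySurjective _ (_ ≫ _))
  let φ : M ⟶ Φ.presheafFiber.obj F.obj :=
    η.app (op (Over.mk (𝟙 U))) ≫ Φ.toPresheafFiber U u₀ F.obj
  have key : ∀ (W : Over U) (w : Φ.fiber.obj W.left) (m : M), Φ.fiber.map W.hom w = u₀ →
      φ m = Φ.toPresheafFiber W.left w F.obj (η.app (op W) m) := by
    intro W w m hw
    have h2 : η.app (op W) m = F.obj.map W.hom.op (η.app (op (Over.mk (𝟙 U))) m) :=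
      NatTrans.naturality_apply η (Over.homMk W.hom : W ⟶ Over.mk (𝟙 U)).op m
    rw [h2, Φ.toPresheafFiber_w_apply, hw]
    rfl
  suffices hb : Function.Bijective φ from
    ⟨@asIso _ _ _ _ φ ((ConcreteCategory.isIso_iff_bijective _).2 hb)⟩
  refine ⟨fun m m' h => ?_, fun p => ?_⟩
  · simp only [φ, ConcreteCategory.comp_apply] at h
    obtain ⟨V, g, v, hv, hg⟩ := (Φ.toPresheafFiber_eq_iff' U u₀ _ _).1 h
    have h3 : η.app (op (Over.mk g)) m = η.app (op (Over.mk g)) m' :=
      (NatTrans.naturality_apply η (Over.homMk g : Over.mk g ⟶ Over.mk (𝟙 U)).op m).trans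
        (hg.trans (NatTrans.naturality_apply η (Over.homMk g : Over.mk g ⟶ Over.mk (𝟙 U)).op m').symm)
    have hS := Presheaf.equalizerSieve_mem (X.smallEtaleTopology.over U) η _ _ h3
    rw [GrothendieckTopology.mem_over_iff] at hS
    obtain ⟨W, f, hf, -, -⟩ := Φ.jointly_surjective _ hS v
    rw [Sieve.overEquiv_iff] at hf
    exact hf
  · obtain ⟨V, v, s, rfl⟩ := Φ.toPresheafFiber_jointly_surjective p
    obtain ⟨⟨T, t⟩, ⟨a₀, ha₀⟩, ⟨b₀, hb₀⟩, -⟩ := IsCofilteredOrEmpty.cone_objs
      (Φ.fiber.elementsMk V v) (Φ.fiber.elementsMk U u₀)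
    obtain ⟨a, ha⟩ : ∃ a : T ⟶ V, Φ.fiber.map a t = v := ⟨a₀, ha₀⟩
    obtain ⟨b, hb⟩ : ∃ b : T ⟶ U, Φ.fiber.map b t = u₀ := ⟨b₀, hb₀⟩
    have hS := Presheaf.imageSieve_mem (X.smallEtaleTopology.over U) η
      (U := op (Over.mk b)) (F.obj.map a.op s)
    rw [GrothendieckTopology.mem_over_iff] at hS
    obtain ⟨W, f, hf, w, hw⟩ := Φ.jointly_surjective _ hS t
    rw [Sieve.overEquiv_iff] at hf
    obtain ⟨m, hm⟩ := hf
    refine ⟨m, ?_⟩
    refine (key (Over.mk (f ≫ b)) w m ((Functor.map_comp_apply _ _ _ _).trans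
      ((congrArg _ hw).trans hb))).trans ?_
    refine (congrArg (Φ.toPresheafFiber W w F.obj) hm).trans ?_
    refine (Φ.toPresheafFiber_w_apply f w F.obj _).trans ?_
    rw [hw]
    refine (Φ.toPresheafFiber_w_apply a t F.obj _).trans ?_
    erw [ha]

end Groth.Agent.EtLC12
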