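import Groth.Prelude.Def_EtBaseX
import Mathlib.AlgebraicGeometry.Sites.EtalePoint
import Mathlib.Algebra.Category.Ring.FilteredColimits
import Mathlib.RingTheory.Etale.StandardEtale
import Mathlib.RingTheory.LocalRing.ResidueField.Basic

/-! The stalk of the structure sheaf on the small étale site is strictly henselian. -/

universe u

open CategoryTheory CategoryTheory.Limits AlgebraicGeometry Opposite Polynomial

namespace Groth.Agent.EtLC12.StrictStalk

set_option backward.isDefEq.respectTransparency false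
set_option backward.isDefEq.respectTransparency.types false

variable {X : Scheme.{u}} {Ω : Type u} [Field Ω] [IsSepClosed Ω] (ξ : Spec (CommRingCat.of Ω) ⟶ X)

/-- An affine étale neighbourhood of a geometric point. -/
structure Nbhd where
  B : CommRingCat.{u}
  g : Spec B ⟶ X
  etale : Etale g
  φ : B ⟶ CommRingCat.of Ω
  w : Spec.map φ ≫ g = ξ

variable {ξ}

noncomputable def Nbhd.obj (N : Nbhd ξ) : X.Etale := MorphismProperty.Over.mk ⊤ N.g N.etale

noncomputable def Nbhd.pt (N : Nbhd ξ) : (Scheme.pointSmallEtale ξ).fiber.obj N.obj :=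
  Over.homMk (Spec.map N.φ) N.w

noncomputable def Nbhd.germ (N : Nbhd ξ) : N.B ⟶ EtBase.etaleLocalRing ξ :=
  (Scheme.ΓSpecIso N.B).inv ≫
    (Scheme.pointSmallEtale ξ).toPresheafFiber N.obj N.pt (EtBase.OO X)

variable (ξ) in
/-- Evaluation at the geometric point. -/
noncomputable def ev : EtBase.etaleLocalRing ξ ⟶ CommRingCat.of Ω :=
  (Scheme.pointSmallEtale ξ).presheafFiberDesc
    (fun _ v => v.left.appTop ≫ (Scheme.ΓSpecIso (CommRingCat.of Ω)).hom)
    (fun {U V} f v => by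
      show f.left.appTop ≫ v.left.appTop ≫ _ = (v.left ≫ f.left).appTop ≫ _
      rw [Scheme.Hom.comp_appTop, Category.assoc])

theorem Nbhd.germ_ev (N : Nbhd ξ) : N.germ ≫ ev ξ = N.φ := by
  rw [Nbhd.germ, ev, Category.assoc]
  erw [GrothendieckTopology.Point.toPresheafFiber_presheafFiberDesc _ _ _]
  show (Scheme.ΓSpecIso N.B).inv ≫ (Spec.map N.φ).appTop ≫ _ = _
  rw [← Scheme.ΓSpecIso_inv_naturality_assoc, Iso.inv_hom_id, Category.comp_id]

/-- A morphism of affine neighbourhoods. -/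
theorem Nbhd.germ_comp {N M : Nbhd ξ} (ψ : N.B ⟶ M.B) (h₁ : Spec.map ψ ≫ N.g = M.g)
    (h₂ : ψ ≫ M.φ = N.φ) : ψ ≫ M.germ = N.germ := by
  let f : M.obj ⟶ N.obj := MorphismProperty.Over.homMk (Spec.map ψ) h₁ trivial
  have hpt : (Scheme.pointSmallEtale ξ).fiber.map f M.pt = N.pt := by
    apply Over.OverMorphism.ext
    show Spec.map M.φ ≫ Spec.map ψ = Spec.map N.φ
    rw [← Spec.map_comp, h₂]
  rw [Nbhd.germ, Nbhd.germ, ← hpt, ← (Scheme.pointSmallEtale ξ).toPresheafFiber_w f M.pt]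
  show ψ ≫ _ = (Scheme.ΓSpecIso N.B).inv ≫ (Spec.map ψ).appTop ≫ _
  rw [← Scheme.ΓSpecIso_inv_naturality_assoc]

/-- Every neighbourhood contains an affine one. -/
theorem exists_nbhd (U : X.Etale) (v : (Scheme.pointSmallEtale ξ).fiber.obj U) :
    ∃ (N : Nbhd ξ) (j : N.obj ⟶ U), (Scheme.pointSmallEtale ξ).fiber.map j N.pt = v := by
  let vl : Spec (CommRingCat.of Ω) ⟶ U.left := v.left
  obtain ⟨B, j, hj, hmem, -⟩ := Scheme.exists_affine_mem_range_and_range_subset
    (x := vl.base (default : Spec (CommRingCat.of Ω))) (U := (⊤ : U.left.Opens)) (by simp)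
  let y : Spec (CommRingCat.of Ω) ⟶ Spec B := IsOpenImmersion.lift j vl (by
    rintro _ ⟨a, rfl⟩
    rw [Subsingleton.elim a default]
    exact hmem)
  have hy : y ≫ j = v.left := IsOpenImmersion.lift_fac _ _ _
  have : Etale U.hom := U.prop
  have hw : v.left ≫ U.hom = ξ := Over.w v
  refine ⟨⟨B, j ≫ U.hom, inferInstance, Spec.preimage y, ?_⟩,
    MorphismProperty.Over.homMk j rfl trivial, ?_⟩
  · rw [Spec.map_preimage, ← Category.assoc, hy, hw]
  · apply Over.OverMorphism.ext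
    show Spec.map (Spec.preimage y) ≫ j = v.left
    rw [Spec.map_preimage, hy]

theorem exists_germ_eq (r : EtBase.etaleLocalRing ξ) : ∃ (N : Nbhd ξ) (b : N.B), N.germ b = r := by
  obtain ⟨U, v, s, rfl⟩ := (Scheme.pointSmallEtale ξ).toPresheafFiber_jointly_surjective r
  obtain ⟨N, j, rfl⟩ := exists_nbhd U v
  refine ⟨N, (Scheme.ΓSpecIso N.B).hom (j.left.appTop s), ?_⟩
  show (Scheme.pointSmallEtale ξ).toPresheafFiber N.obj N.pt (EtBase.OO X)
    ((Scheme.ΓSpecIso N.B).inv ((Scheme.ΓSpecIso N.B).hom (j.left.appTop s))) = _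
  erw [Iso.hom_inv_id_apply]
  exact (Scheme.pointSmallEtale ξ).toPresheafFiber_w_apply j N.pt _ _

theorem exists_map {N M : Nbhd ξ} (c : M.obj ⟶ N.obj)
    (hc : (Scheme.pointSmallEtale ξ).fiber.map c M.pt = N.pt) :
    ∃ ψ : N.B ⟶ M.B, ψ ≫ M.germ = N.germ := by
  obtain ⟨ψ, hψ⟩ := Spec.map_surjective (c.left : Spec M.B ⟶ Spec N.B)
  have h : Spec.map M.φ ≫ (c.left : Spec M.B ⟶ Spec N.B) = Spec.map N.φ :=
    congrArg CommaMorphism.left hc
  refine ⟨ψ, Nbhd.germ_comp ψ ?_ (Spec.map_injective ?_)⟩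
  · rw [hψ]; exact MorphismProperty.Over.w c
  · rw [Spec.map_comp, hψ, h]

theorem exists_common (N M : Nbhd ξ) : ∃ (P : Nbhd ξ) (a : N.B ⟶ P.B) (b : M.B ⟶ P.B),
    a ≫ P.germ = N.germ ∧ b ≫ P.germ = M.germ := by
  obtain ⟨⟨T, t⟩, ⟨a₀, ha₀⟩, ⟨b₀, hb₀⟩, -⟩ := IsCofilteredOrEmpty.cone_objs
    ((Scheme.pointSmallEtale ξ).fiber.elementsMk N.obj N.pt)
    ((Scheme.pointSmallEtale ξ).fiber.elementsMk M.obj M.pt)
  obtain ⟨a, ha⟩ : ∃ a : T ⟶ N.obj, (Scheme.pointSmallEtale ξ).fiber.map a t = N.pt := ⟨a₀, ha₀⟩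
  obtain ⟨b, hb⟩ : ∃ b : T ⟶ M.obj, (Scheme.pointSmallEtale ξ).fiber.map b t = M.pt := ⟨b₀, hb₀⟩
  obtain ⟨P, j, rfl⟩ := exists_nbhd T t
  obtain ⟨ψa, hψa⟩ := exists_map (j ≫ a) ((congr($((Scheme.pointSmallEtale ξ).fiber.map_comp j a) P.pt)).trans ha)
  obtain ⟨ψb, hψb⟩ := exists_map (j ≫ b) ((congr($((Scheme.pointSmallEtale ξ).fiber.map_comp j b) P.pt)).trans hb)
  exact ⟨P, ψa, ψb, hψa, hψb⟩

theorem exists_poly (f : (EtBase.etaleLocalRing ξ)[X]) :
    ∃ (N : Nbhd ξ) (g : N.B[X]), g.map N.germ.hom = f := by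
  induction f using Polynomial.induction_on' with
  | add p q hp hq =>
    obtain ⟨N, g, rfl⟩ := hp
    obtain ⟨M, h, rfl⟩ := hq
    obtain ⟨P, a, b, ha, hb⟩ := exists_common N M
    refine ⟨P, g.map a.hom + h.map b.hom, ?_⟩
    rw [Polynomial.map_add, Polynomial.map_map, Polynomial.map_map]
    exact congrArg₂ (fun (x : N.B →+* _) (y : M.B →+* _) => g.map x + h.map y)
      (congrArg CommRingCat.Hom.hom ha) (congrArg CommRingCat.Hom.hom hb)
  | monomial n r =>
    obtain ⟨N, b, rfl⟩ := exists_germ_eq r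
    exact ⟨N, monomial n b, Polynomial.map_monomial _⟩

theorem germ_ev_apply (N : Nbhd ξ) (b : N.B) : ev ξ (N.germ b) = N.φ b :=
  congr(($(N.germ_ev)).hom b)

/-- A simple root at the geometric point lifts. -/
theorem exists_root (f : (EtBase.etaleLocalRing ξ)[X]) (hf : f.Monic) (α : Ω)
    (h₀ : f.eval₂ (ev ξ).hom α = 0) (h₁ : f.derivative.eval₂ (ev ξ).hom α ≠ 0) :
    ∃ a, f.IsRoot a ∧ ev ξ a = α := by
  obtain ⟨N, g, rfl⟩ := exists_poly f
  have hev : (ev ξ).hom.comp N.germ.hom = N.φ.hom := congrArg CommRingCat.Hom.hom N.germ_ev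
  rw [eval₂_map, hev] at h₀
  rw [derivative_map, eval₂_map, hev] at h₁
  -- replace `g` by a monic polynomial with the same image
  obtain ⟨g', hg', hmon⟩ : ∃ g' : N.B[X], g'.map N.germ.hom = g.map N.germ.hom ∧ g'.Monic := by
    have hl : g.map N.germ.hom ∈ Polynomial.lifts N.germ.hom := ⟨g, rfl⟩
    obtain ⟨g', hg', -, hm⟩ := lifts_and_natDegree_eq_and_monic hl hf
    exact ⟨g', hg', hm⟩
  have hev' : ∀ q : N.B[X], q.eval₂ N.φ.hom α = (q.map N.germ.hom).eval₂ (ev ξ).hom α := fun q => by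
    rw [eval₂_map, hev]
  have h₀' : g'.eval₂ N.φ.hom α = 0 := by rw [hev', hg', ← hev']; exact h₀
  have h₁' : g'.derivative.eval₂ N.φ.hom α ≠ 0 := by
    rw [hev', ← derivative_map, hg', derivative_map, ← hev']; exact h₁
  let P : StandardEtalePair N.B :=
    { f := g', monic_f := hmon, g := g'.derivative, cond := ⟨1, 0, 1, by simp⟩ }
  let _ : Algebra N.B Ω := N.φ.hom.toAlgebra
  have hP : P.HasMap α := ⟨h₀', isUnit_iff_ne_zero.2 h₁'⟩
  let θ : P.Ring →ₐ[N.B] Ω := P.lift α hP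
  let ι : N.B ⟶ CommRingCat.of P.Ring := CommRingCat.ofHom (algebraMap N.B P.Ring)
  have : Etale (Spec.map ι) := (HasRingHomProperty.Spec_iff (P := @Etale)).mpr
    (RingHom.etale_algebraMap.mpr inferInstance)
  have := N.etale
  have hι : ι ≫ CommRingCat.ofHom θ.toRingHom = N.φ := by
    ext b; exact θ.commutes b
  let M : Nbhd ξ := ⟨CommRingCat.of P.Ring, Spec.map ι ≫ N.g, inferInstance,
    CommRingCat.ofHom θ.toRingHom, by rw [← Category.assoc, ← Spec.map_comp, hι, N.w]⟩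
  have hM : ι ≫ M.germ = N.germ := Nbhd.germ_comp (M := M) ι rfl hι
  refine ⟨M.germ P.X, ?_, ?_⟩
  · have hc : M.germ.hom.comp ι.hom = N.germ.hom := congrArg CommRingCat.Hom.hom hM
    rw [IsRoot, ← hg', ← hc, ← Polynomial.map_map, eval_map_apply]
    have h := P.hasMap_X.1
    rw [aeval_def, ← eval_map] at h
    exact (congrArg M.germ.hom h).trans (map_zero _)
  · exact (germ_ev_apply M P.X).trans (P.lift_X α hP)

theorem isUnit_iff (r : EtBase.etaleLocalRing ξ) : IsUnit r ↔ ev ξ r ≠ 0 := by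
  refine ⟨fun h => (h.map (ev ξ).hom).ne_zero, fun h => ?_⟩
  obtain ⟨N, b, rfl⟩ := exists_germ_eq r
  rw [germ_ev_apply] at h
  let _ : Algebra N.B Ω := N.φ.hom.toAlgebra
  have hu : IsUnit (N.φ.hom b) := isUnit_iff_ne_zero.2 h
  let ι : N.B ⟶ CommRingCat.of (Localization.Away b) := CommRingCat.ofHom (algebraMap _ _)
  let θ : CommRingCat.of (Localization.Away b) ⟶ CommRingCat.of Ω :=
    CommRingCat.ofHom (IsLocalization.Away.lift b (g := N.φ.hom) hu)
  have hι : ι ≫ θ = N.φ := by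
    ext x; exact IsLocalization.Away.lift_eq b hu x
  have : IsOpenImmersion (Spec.map ι) := IsOpenImmersion.of_isLocalization b
  have := N.etale
  let M : Nbhd ξ := ⟨CommRingCat.of (Localization.Away b), Spec.map ι ≫ N.g, inferInstance, θ,
    by rw [← Category.assoc, ← Spec.map_comp, hι, N.w]⟩
  have hM : ι ≫ M.germ = N.germ := Nbhd.germ_comp (M := M) ι rfl hι
  rw [← hM]
  exact (IsLocalization.Away.algebraMap_isUnit b).map M.germ.hom

theorem isLocalRing : IsLocalRing (EtBase.etaleLocalRing ξ) := by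
  have : Nontrivial (EtBase.etaleLocalRing ξ) := (ev ξ).hom.domain_nontrivial
  refine IsLocalRing.of_nonunits_add fun a b ha hb => ?_
  simp only [mem_nonunits_iff, isUnit_iff, not_not] at ha hb ⊢
  rw [map_add, ha, hb, add_zero]

theorem henselian : HenselianLocalRing (EtBase.etaleLocalRing ξ) :=
  { toIsLocalRing := isLocalRing
    is_henselian := fun f hf a₀ h₁ h₂ => by
      have := isLocalRing (ξ := ξ)
      have hm : ∀ r, r ∈ IsLocalRing.maximalIdeal (EtBase.etaleLocalRing ξ) ↔ ev ξ r = 0 := fun r => by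
        rw [IsLocalRing.mem_maximalIdeal, mem_nonunits_iff, isUnit_iff, not_not]
      obtain ⟨a, ha, ha'⟩ := exists_root f hf (ev ξ a₀)
        (by rw [eval₂_at_apply]; exact (hm _).1 h₁)
        (by rw [eval₂_at_apply]; exact (isUnit_iff _).1 h₂)
      exact ⟨a, ha, (hm _).2 (by rw [map_sub, ha', sub_self])⟩ }

theorem isStrictlyHenselian : EtCoh.IsStrictlyHenselianLocalRing (EtBase.etaleLocalRing ξ) := by
  have := henselian (ξ := ξ)
  refine ⟨this, ?_⟩
  have : IsLocalHom (ev ξ).hom := ⟨fun r hr => (isUnit_iff r).2 hr.ne_zero⟩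
  let ι : IsLocalRing.ResidueField (EtBase.etaleLocalRing ξ) →+* Ω := IsLocalRing.ResidueField.lift (ev ξ).hom
  apply IsSepClosed.of_exists_root
  intro p hmon hirr hsep
  obtain ⟨q, hq, -, hqm⟩ := lifts_and_natDegree_eq_and_monic
    (f := IsLocalRing.residue (EtBase.etaleLocalRing ξ))
    (Polynomial.map_surjective _ IsLocalRing.residue_surjective p) hmon
  have hdeg : (p.map ι).degree ≠ 0 := by
    rw [degree_map]; exact (Polynomial.degree_pos_of_irreducible hirr).ne'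
  obtain ⟨α, hα⟩ := IsSepClosed.exists_root (p.map ι) hdeg hsep.map
  have hα' : p.eval₂ ι α = 0 := by rw [← eval_map]; exact hα
  have hcomp : ι.comp (IsLocalRing.residue _) = (ev ξ).hom := IsLocalRing.ResidueField.lift_comp_residue _
  obtain ⟨a, ha, -⟩ := exists_root q hqm α
    (by rw [← hcomp, ← eval₂_map, hq]; exact hα')
    (by rw [← hcomp, ← eval₂_map, ← derivative_map, hq]; exact hsep.eval₂_derivative_ne_zero ι hα')
  exact ⟨IsLocalRing.residue _ a, by rw [← hq, eval_map_apply, ha, map_zero]⟩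

end Groth.Agent.EtLC12.StrictStalk
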